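import Cfsg.Agent.Lib.Orth.Basic
import Cfsg.Agent.Lib.KnownB.MinDeg.SLn.Geometry

/-!
# The Siegel parabolic of the orthogonal group of `x ⬝ y + g w`
-/

set_option autoImplicit false
set_option linter.unusedSectionVars false
set_option backward.isDefEq.respectTransparency false

open Matrix

namespace CfsgLib.MinDeg.OrthSiegel

open QuadraticMap CfsgLib.Orth
open CfsgLib.KnownA.MinIndex (T T_mulVec vecMul_T T_inv)

variable {F : Type*} [Field F] {m : ℕ} {W : Type*} [AddCommGroup W] [Module F W]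

/-- The space. -/
abbrev Sp (F : Type*) (m : ℕ) (W : Type*) := (Fin m → F) × (Fin m → F) × W

/-- The form `x ⬝ y + g w`. -/
noncomputable def bigForm (m : ℕ) (g : QuadraticForm F W) : QuadraticForm F (Sp F m W) :=
  (∑ i : Fin m, QuadraticMap.linMulLin ((LinearMap.proj i).comp (LinearMap.fst F _ _))
    ((LinearMap.proj i).comp ((LinearMap.fst F _ _).comp (LinearMap.snd F _ _)))) +
    g.comp ((LinearMap.snd F (Fin m → F) W).comp (LinearMap.snd F (Fin m → F) _))

variable (g : QuadraticForm F W)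

theorem bigForm_apply (x y : Fin m → F) (w : W) : bigForm m g (x, y, w) = x ⬝ᵥ y + g w := by
  simp [bigForm, dotProduct, _root_.sum_apply]

theorem bigForm_polar (x y x' y' : Fin m → F) (w w' : W) :
    polar (bigForm m g) (x, y, w) (x', y', w') = x ⬝ᵥ y' + x' ⬝ᵥ y + polar g w w' := by
  simp only [polar, Prod.mk_add_mk, bigForm_apply, add_dotProduct, dotProduct_add]
  ring

theorem bigForm_nondeg (hg : (QuadraticMap.polarBilin g).Nondegenerate) :
    (QuadraticMap.polarBilin (bigForm m g)).Nondegenerate := by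
  have key : ∀ v : Sp F m W, (∀ w, polar (bigForm m g) v w = 0) → v = 0 := by
    rintro ⟨x, y, w⟩ h
    refine Prod.ext ?_ (Prod.ext ?_ ?_)
    · funext i
      simpa [bigForm_polar] using h (0, Pi.single i 1, 0)
    · funext i
      simpa [bigForm_polar] using h (Pi.single i 1, 0, 0)
    · exact hg.1 w fun w' => by simpa [bigForm_polar] using h (0, 0, w')
  exact ⟨key, fun v hv => key v fun w => by rw [polar_comm]; exact hv w⟩

theorem orth_ext {a b : orthGroup (bigForm m g)}
    (h : ∀ x y w, a.1 (x, y, w) = b.1 (x, y, w)) : a = b :=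
  Subtype.ext (LinearEquiv.ext fun ⟨x, y, w⟩ => h x y w)

theorem orth_mul_apply (a b : orthGroup (bigForm m g)) (v : Sp F m W) :
    (a * b).1 v = a.1 (b.1 v) := rfl

/-- The central part of the radical. -/
def zz (S : Matrix (Fin m) (Fin m) F) : orthGroup (bigForm m g) :=
  ⟨{ toFun := fun v => (v.1 + (S - Sᵀ) *ᵥ v.2.1, v.2.1, v.2.2)
     map_add' := fun v w => by
      simp only [Prod.fst_add, Prod.snd_add, Matrix.mulVec_add, Prod.mk_add_mk]
      rw [add_add_add_comm]
     map_smul' := fun c v => by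
      simp only [Prod.smul_fst, Prod.smul_snd, Matrix.mulVec_smul, Prod.smul_mk, smul_add, RingHom.id_apply]
     invFun := fun v => (v.1 - (S - Sᵀ) *ᵥ v.2.1, v.2.1, v.2.2)
     left_inv := fun v => by simp
     right_inv := fun v => by simp }, fun ⟨x, y, w⟩ => by
      show bigForm m g (x + (S - Sᵀ) *ᵥ y, y, w) = _
      rw [bigForm_apply, bigForm_apply, add_dotProduct, Matrix.sub_mulVec, sub_dotProduct,
        Matrix.mulVec_transpose, ← Matrix.dotProduct_mulVec, dotProduct_comm (S *ᵥ y), sub_self,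
        add_zero]⟩

theorem zz_apply (S : Matrix (Fin m) (Fin m) F) (x y : Fin m → F) (w : W) :
    (zz g S).1 (x, y, w) = (x + (S - Sᵀ) *ᵥ y, y, w) := rfl

theorem zz_vmv_apply (a b x y : Fin m → F) (w : W) :
    (zz g (vecMulVec a b)).1 (x, y, w) = (x + ((b ⬝ᵥ y) • a - (a ⬝ᵥ y) • b), y, w) := by
  rw [zz_apply, Matrix.transpose_vecMulVec, Matrix.sub_mulVec, Matrix.vecMulVec_mulVec,
    Matrix.vecMulVec_mulVec, op_smul_eq_smul, op_smul_eq_smul]

theorem zz_add (S S' : Matrix (Fin m) (Fin m) F) : zz g (S + S') = zz g S * zz g S' :=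
  orth_ext g fun x y w => by
    rw [orth_mul_apply, zz_apply, zz_apply, zz_apply, Matrix.transpose_add, add_assoc,
      ← Matrix.add_mulVec, sub_add_sub_comm, add_comm S', add_comm S'ᵀ]

theorem zz_symm {S : Matrix (Fin m) (Fin m) F} (h : Sᵀ = S) : zz g S = 1 :=
  orth_ext g fun x y w => by
    rw [zz_apply, h, sub_self, Matrix.zero_mulVec, add_zero]
    rfl

theorem zz_zero : zz g (0 : Matrix (Fin m) (Fin m) F) = 1 := zz_symm g (by simp)

theorem zz_vmv_swap (a b : Fin m → F) : zz g (vecMulVec a b) = zz g (-vecMulVec b a) :=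
  orth_ext g fun x y w => by
    rw [zz_apply, zz_apply, Matrix.transpose_neg, Matrix.transpose_vecMulVec,
      Matrix.transpose_vecMulVec]
    congr 3
    abel

/-- The element of the radical attached to `u ⊗ w₀`. -/
noncomputable def nu (u : Fin m → F) (w₀ : W) : orthGroup (bigForm m g) :=
  ⟨{ toFun := fun v => (v.1 + (polar g w₀ v.2.2 - g w₀ * (u ⬝ᵥ v.2.1)) • u, v.2.1,
      v.2.2 - (u ⬝ᵥ v.2.1) • w₀)
     map_add' := fun v w => by
      simp only [Prod.fst_add, Prod.snd_add, dotProduct_add, polar_add_right, Prod.mk_add_mk]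
      refine Prod.ext ?_ (Prod.ext rfl ?_) <;> module
     map_smul' := fun c v => by
      simp only [Prod.smul_fst, Prod.smul_snd, dotProduct_smul, polar_smul_r', Prod.smul_mk,
        RingHom.id_apply, smul_eq_mul]
      refine Prod.ext ?_ (Prod.ext rfl ?_) <;> module
     invFun := fun v => (v.1 + (-polar g w₀ v.2.2 - g w₀ * (u ⬝ᵥ v.2.1)) • u, v.2.1,
      v.2.2 + (u ⬝ᵥ v.2.1) • w₀)
     left_inv := fun v => by
      refine Prod.ext ?_ (Prod.ext rfl ?_)
      · simp only [sub_eq_add_neg, ← neg_smul, polar_add_right, polar_smul_r', polar_self']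
        module
      · simp
     right_inv := fun v => by
      refine Prod.ext ?_ (Prod.ext rfl ?_)
      · simp only [sub_eq_add_neg, ← neg_smul, polar_add_right, polar_smul_r', polar_self']
        module
      · simp }, fun ⟨x, y, w⟩ => by
      show bigForm m g (x + (polar g w₀ w - g w₀ * (u ⬝ᵥ y)) • u, y, w - (u ⬝ᵥ y) • w₀) = _
      rw [bigForm_apply, bigForm_apply, sub_eq_add_neg w, ← neg_smul, quad_add', quad_smul',
        polar_smul_r', add_dotProduct, smul_dotProduct, smul_eq_mul, polar_comm _ w w₀]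
      ring⟩

theorem nu_apply (u : Fin m → F) (w₀ : W) (x y : Fin m → F) (w : W) :
    (nu g u w₀).1 (x, y, w) =
      (x + (polar g w₀ w - g w₀ * (u ⬝ᵥ y)) • u, y, w - (u ⬝ᵥ y) • w₀) := rfl

theorem nu_zero (u : Fin m → F) : nu g u 0 = 1 :=
  orth_ext g fun x y w => by
    rw [nu_apply, polar_zero_left, map_zero, zero_mul, sub_zero, zero_smul, add_zero, smul_zero,
      sub_zero]
    rfl

theorem nu_add (u : Fin m → F) (w w' : W) : nu g u (w + w') = nu g u w * nu g u w' :=
  orth_ext g fun x y z => by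
    rw [orth_mul_apply, nu_apply, nu_apply, nu_apply, polar_add_left, quad_add', sub_eq_add_neg z,
      ← neg_smul, sub_eq_add_neg z, ← neg_smul, polar_add_right, polar_smul_r']
    refine Prod.ext ?_ (Prod.ext rfl ?_) <;> module

theorem nu_smul (t : F) (u : Fin m → F) (w : W) : nu g (t • u) w = nu g u (t • w) :=
  orth_ext g fun x y z => by
    rw [nu_apply, nu_apply, smul_dotProduct, polar_smul_l', quad_smul', smul_eq_mul]
    refine Prod.ext ?_ (Prod.ext rfl ?_) <;> module

theorem nu_mul (u v : Fin m → F) (w w' : W) :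
    nu g u w * nu g v w' = zz g (polar g w w' • vecMulVec v u) * (nu g v w' * nu g u w) :=
  orth_ext g fun x y z => by
    rw [← Matrix.smul_vecMulVec]
    simp only [orth_mul_apply, nu_apply, zz_vmv_apply]
    simp only [sub_eq_add_neg, ← neg_smul, polar_add_right, polar_smul_r', smul_dotProduct,
      smul_eq_mul, smul_smul, polar_comm _ w' w]
    refine Prod.ext ?_ (Prod.ext rfl ?_) <;> module

theorem nu_add_left (u v : Fin m → F) (w : W) :
    nu g (u + v) w = zz g (g w • vecMulVec u v) * (nu g u w * nu g v w) :=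
  orth_ext g fun x y z => by
    rw [← Matrix.smul_vecMulVec]
    simp only [orth_mul_apply, nu_apply, zz_vmv_apply]
    simp only [sub_eq_add_neg, ← neg_smul, polar_add_right, polar_smul_r', polar_self',
      smul_dotProduct, add_dotProduct, smul_eq_mul, smul_smul]
    refine Prod.ext ?_ (Prod.ext rfl ?_) <;> module

theorem zz_nu (S : Matrix (Fin m) (Fin m) F) (u : Fin m → F) (w : W) :
    zz g S * nu g u w = nu g u w * zz g S :=
  orth_ext g fun x y z => by
    simp only [orth_mul_apply, nu_apply, zz_apply]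
    rw [add_right_comm]

theorem zz_comm (S S' : Matrix (Fin m) (Fin m) F) : zz g S * zz g S' = zz g S' * zz g S := by
  rw [← zz_add, ← zz_add, add_comm]

section Levi

variable {r : ℕ}

/-- The Levi subgroup. -/
noncomputable def Lv : SLn.SLg F r →* orthGroup (bigForm (r + 1) g) where
  toFun A := ⟨{ toFun := fun v => (SLn.ac A v.1, v.2.1 ᵥ* (A⁻¹).1, v.2.2)
                map_add' := fun v w => by
                  simp only [Prod.fst_add, Prod.snd_add, SLn.ac_add, Matrix.add_vecMul, Prod.mk_add_mk]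
                map_smul' := fun c v => by
                  simp only [Prod.smul_fst, Prod.smul_snd, SLn.ac_smul, Matrix.smul_vecMul, Prod.smul_mk,
                    RingHom.id_apply]
                invFun := fun v => (SLn.ac A⁻¹ v.1, v.2.1 ᵥ* A.1, v.2.2)
                left_inv := fun v => by
                  refine Prod.ext (SLn.ac_inv_ac A _) (Prod.ext ?_ rfl)
                  show (v.2.1 ᵥ* (A⁻¹).1) ᵥ* A.1 = _
                  rw [Matrix.vecMul_vecMul, ← Matrix.SpecialLinearGroup.coe_mul, inv_mul_cancel,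
                    Matrix.SpecialLinearGroup.coe_one, Matrix.vecMul_one]
                right_inv := fun v => by
                  refine Prod.ext (SLn.ac_ac_inv A _) (Prod.ext ?_ rfl)
                  show (v.2.1 ᵥ* A.1) ᵥ* (A⁻¹).1 = _
                  rw [Matrix.vecMul_vecMul, ← Matrix.SpecialLinearGroup.coe_mul, mul_inv_cancel,
                    Matrix.SpecialLinearGroup.coe_one, Matrix.vecMul_one] }, fun ⟨x, y, w⟩ => by
      show bigForm (r + 1) g (SLn.ac A x, y ᵥ* (A⁻¹).1, w) = _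
      rw [bigForm_apply, bigForm_apply, dotProduct_comm, ← Matrix.dotProduct_mulVec]
      show y ⬝ᵥ SLn.ac A⁻¹ (SLn.ac A x) + _ = _
      rw [SLn.ac_inv_ac, dotProduct_comm]⟩
  map_one' := orth_ext g fun x y w => by
    show (SLn.ac 1 x, y ᵥ* ((1 : SLn.SLg F r)⁻¹).1, w) = _
    rw [inv_one, Matrix.SpecialLinearGroup.coe_one, Matrix.vecMul_one, SLn.ac_one]
    rfl
  map_mul' A B := orth_ext g fun x y w => by
    show (SLn.ac (A * B) x, y ᵥ* ((A * B)⁻¹).1, w) =
      (SLn.ac A (SLn.ac B x), (y ᵥ* (B⁻¹).1) ᵥ* (A⁻¹).1, w)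
    rw [SLn.ac_mul, _root_.mul_inv_rev, Matrix.SpecialLinearGroup.coe_mul, Matrix.vecMul_vecMul]

theorem Lv_apply (A : SLn.SLg F r) (x y : Fin (r + 1) → F) (w : W) :
    (Lv g A).1 (x, y, w) = (SLn.ac A x, y ᵥ* (A⁻¹).1, w) := rfl

theorem Lv_T_apply {v φ : Fin (r + 1) → F} (h : φ ⬝ᵥ v = 0) (x y : Fin (r + 1) → F) (w : W) :
    (Lv g (T v φ)).1 (x, y, w) = (x + (φ ⬝ᵥ x) • v, y - (y ⬝ᵥ v) • φ, w) := by
  rw [Lv_apply, SLn.ac, T_mulVec h, T_inv h, vecMul_T (by rw [dotProduct_neg, h, neg_zero]),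
    dotProduct_neg, neg_smul, ← sub_eq_add_neg]

/-- Congruence. -/
def cong (A : SLn.SLg F r) (S : Matrix (Fin (r + 1)) (Fin (r + 1)) F) :
    Matrix (Fin (r + 1)) (Fin (r + 1)) F := A.1 * S * A.1ᵀ

theorem cong_vmv (A : SLn.SLg F r) (a b : Fin (r + 1) → F) :
    cong A (vecMulVec a b) = vecMulVec (SLn.ac A a) (SLn.ac A b) := by
  rw [cong, Matrix.mul_vecMulVec, Matrix.vecMulVec_mul, Matrix.vecMul_transpose]
  rfl

theorem Lv_zz (A : SLn.SLg F r) (S : Matrix (Fin (r + 1)) (Fin (r + 1)) F) :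
    Lv g A * zz g S = zz g (cong A S) * Lv g A :=
  orth_ext g fun x y w => by
    have h : ∀ M : Matrix (Fin (r + 1)) (Fin (r + 1)) F,
        (A.1 * M * A.1ᵀ) *ᵥ (y ᵥ* (A⁻¹).1) = A.1 *ᵥ (M *ᵥ y) := fun M => by
      rw [← Matrix.mulVec_mulVec, ← Matrix.mulVec_mulVec, Matrix.mulVec_transpose, Matrix.vecMul_vecMul,
        ← Matrix.SpecialLinearGroup.coe_mul, inv_mul_cancel, Matrix.SpecialLinearGroup.coe_one,
        Matrix.vecMul_one]
    simp only [orth_mul_apply, zz_apply, Lv_apply, cong, SLn.ac, Matrix.transpose_mul,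
      Matrix.transpose_transpose, ← Matrix.mul_assoc, Matrix.mulVec_add, Matrix.sub_mulVec,
      Matrix.mulVec_sub, h]

theorem Lv_nu (A : SLn.SLg F r) (u : Fin (r + 1) → F) (w : W) :
    Lv g A * nu g u w = nu g (SLn.ac A u) w * Lv g A :=
  orth_ext g fun x y z => by
    have h : SLn.ac A u ⬝ᵥ (y ᵥ* (A⁻¹).1) = u ⬝ᵥ y := by
      rw [dotProduct_comm, ← Matrix.dotProduct_mulVec]
      show y ⬝ᵥ SLn.ac A⁻¹ (SLn.ac A u) = _
      rw [SLn.ac_inv_ac, dotProduct_comm]
    simp only [orth_mul_apply, nu_apply, Lv_apply, h, SLn.ac_add, SLn.ac_smul]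

end Levi

/-- The isometries of the anisotropic part. -/
def Hm : orthGroup g →* orthGroup (bigForm m g) where
  toFun h := ⟨(LinearEquiv.refl F (Fin m → F)).prodCongr ((LinearEquiv.refl F (Fin m → F)).prodCongr h.1),
    fun ⟨x, y, w⟩ => by
      show bigForm m g (x, y, h.1 w) = _
      rw [bigForm_apply, bigForm_apply, apply_quad]⟩
  map_one' := orth_ext g fun _ _ _ => rfl
  map_mul' _ _ := orth_ext g fun _ _ _ => rfl

theorem Hm_apply (h : orthGroup g) (x y : Fin m → F) (w : W) :
    (Hm g h).1 (x, y, w) = (x, y, h.1 w) := rfl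

theorem Hm_refl (u : W) : Hm (m := m) g (refl g u) = refl (bigForm m g) (0, 0, u) :=
  orth_ext g fun x y w => by
    rw [Hm_apply, refl_apply, refl_apply]
    simp [bigForm_apply, bigForm_polar]

theorem Hm_nu (h : orthGroup g) (u : Fin m → F) (w : W) :
    Hm g h * nu g u w = nu g u (h.1 w) * Hm g h :=
  orth_ext g fun x y z => by
    simp only [orth_mul_apply, nu_apply, Hm_apply, map_sub, map_smul, polar_isom, apply_quad]

theorem Hm_zz (h : orthGroup g) (S : Matrix (Fin m) (Fin m) F) :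
    Hm g h * zz g S = zz g S * Hm g h :=
  orth_ext g fun x y z => by simp only [orth_mul_apply, zz_apply, Hm_apply]

theorem Hm_Lv {r : ℕ} (h : orthGroup g) (A : SLn.SLg F r) :
    Hm g h * Lv g A = Lv g A * Hm g h :=
  orth_ext g fun x y z => by simp only [orth_mul_apply, Lv_apply, Hm_apply]

/-- The exchange of the two singular spaces. -/
def Jx : orthGroup (bigForm m g) :=
  ⟨{ toFun := fun v => (v.2.1, v.1, v.2.2)
     map_add' := fun _ _ => rfl
     map_smul' := fun _ _ => rfl
     invFun := fun v => (v.2.1, v.1, v.2.2)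
     left_inv := fun _ => rfl
     right_inv := fun _ => rfl }, fun ⟨x, y, w⟩ => by
      show bigForm m g (y, x, w) = _
      rw [bigForm_apply, bigForm_apply, dotProduct_comm]⟩

theorem Jx_apply (x y : Fin m → F) (w : W) :
    (Jx (m := m) g).1 (x, y, w) = (y, x, w) := rfl

theorem Jx_mul_self : Jx (m := m) g * Jx g = 1 := orth_ext g fun _ _ _ => rfl

/-- The opposite radical. -/
noncomputable def nm (v : Fin m → F) (w : W) : orthGroup (bigForm m g) :=
  Jx g * nu g v w * Jx g

theorem nm_apply (v : Fin m → F) (w : W) (x y : Fin m → F) (z : W) :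
    (nm g v w).1 (x, y, z) =
      (x, y + (polar g w z - g w * (v ⬝ᵥ x)) • v, z - (v ⬝ᵥ x) • w) := rfl

theorem Lv_nm {r : ℕ} (A : SLn.SLg F r) {v : Fin (r + 1) → F} (hv : v ᵥ* A.1 = v) (w : W) :
    Lv g A * nm g v w = nm g v w * Lv g A :=
  orth_ext g fun x y z => by
    have hv' : v ᵥ* (A⁻¹).1 = v := by
      conv_lhs => rw [← hv]
      rw [Matrix.vecMul_vecMul, ← Matrix.SpecialLinearGroup.coe_mul, mul_inv_cancel,
        Matrix.SpecialLinearGroup.coe_one, Matrix.vecMul_one]
    have h : v ⬝ᵥ SLn.ac A x = v ⬝ᵥ x := by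
      rw [SLn.ac, Matrix.dotProduct_mulVec, hv]
    simp only [orth_mul_apply, nm_apply, Lv_apply, h, Matrix.add_vecMul, Matrix.smul_vecMul, hv']

theorem nu_nm {r : ℕ} {u v : Fin (r + 1) → F} (h : v ⬝ᵥ u = 0) (w' w : W) :
    nu g u w' * nm g v w = Lv g (T (-(polar g w' w) • u) v) * (nm g v w * nu g u w') :=
  orth_ext g fun x y z => by
    have h' : u ⬝ᵥ v = 0 := by rw [dotProduct_comm]; exact h
    simp only [orth_mul_apply, nu_apply, nm_apply]
    rw [Lv_T_apply g (by rw [dotProduct_smul, h, smul_zero])]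
    simp only [sub_eq_add_neg, ← neg_smul, polar_add_right, polar_smul_r', dotProduct_add,
      dotProduct_smul, add_dotProduct, smul_dotProduct, h, h', smul_eq_mul, mul_zero, add_zero,
      smul_smul, smul_add, smul_neg, polar_comm _ w w', dotProduct_comm y u]
    refine Prod.ext ?_ (Prod.ext ?_ ?_) <;> module

theorem zz_nm_comm (a b : Fin m → F) {v : Fin m → F} (ha : a ⬝ᵥ v = 0) (hb : b ⬝ᵥ v = 0) (w : W) :
    zz g (vecMulVec a b) * nm g v w = nm g v w * zz g (vecMulVec a b) :=
  orth_ext g fun x y z => by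
    simp only [orth_mul_apply, zz_vmv_apply, nm_apply]
    simp only [sub_eq_add_neg, ← neg_smul, dotProduct_add, dotProduct_smul, ha, hb, smul_eq_mul,
      mul_zero, add_zero, dotProduct_comm v a, dotProduct_comm v b]

theorem zz_nm {r : ℕ} {a b v : Fin (r + 1) → F} (ha : a ⬝ᵥ v = 0) (hb : b ⬝ᵥ v = 1) (w : W) :
    zz g (vecMulVec a b) * nm g v w =
      nu g a w * (Lv g (T (g w • a) v) * (nm g v w * zz g (vecMulVec a b))) :=
  orth_ext g fun x y z => by
    have h : v ⬝ᵥ (g w • a) = 0 := by rw [dotProduct_smul, dotProduct_comm, ha, smul_zero]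
    simp only [orth_mul_apply, zz_vmv_apply, nm_apply]
    rw [Lv_T_apply g h, nu_apply]
    simp only [sub_eq_add_neg, ← neg_smul, polar_add_right, polar_smul_r', polar_self', dotProduct_add,
      dotProduct_smul, ha, hb, smul_eq_mul, dotProduct_comm v a, dotProduct_comm v b, dotProduct_comm y a,
      add_dotProduct, smul_dotProduct, smul_smul, smul_add, smul_neg]
    refine Prod.ext ?_ (Prod.ext ?_ ?_) <;> module

section Swap

variable (i : Fin m)

/-- The exchange of one hyperbolic pair. -/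
noncomputable def sw : orthGroup (bigForm m g) :=
  refl (bigForm m g) (Pi.single i 1, -Pi.single i 1, 0)

theorem sw_quad : bigForm m g (Pi.single i 1, -Pi.single i 1, 0) = -1 := by
  rw [bigForm_apply, map_zero, add_zero, dotProduct_neg, single_dotProduct, Pi.single_eq_same,
    mul_one]

theorem sw_apply (x y : Fin m → F) (w : W) : (sw g i).1 (x, y, w) =
    (x + (y i - x i) • Pi.single i 1, y - (y i - x i) • Pi.single i 1, w) := by
  rw [sw, refl_apply, sw_quad, bigForm_polar, polar_zero_left, add_zero, single_dotProduct,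
    dotProduct_neg, dotProduct_single, one_mul, mul_one]
  refine Prod.ext ?_ (Prod.ext ?_ ?_)
  · show x - ((-1 : F)⁻¹ * (y i + -x i)) • Pi.single i 1 = x + (y i - x i) • Pi.single i 1
    rw [inv_neg_one]
    module
  · show y - ((-1 : F)⁻¹ * (y i + -x i)) • -Pi.single i 1 = _
    rw [inv_neg_one]
    module
  · show w - _ • (0 : W) = w
    rw [smul_zero, sub_zero]

theorem sw_nu {u : Fin m → F} (hu : u i = 0) (w : W) : sw g i * nu g u w = nu g u w * sw g i :=
  orth_ext g fun x y z => by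
    simp only [orth_mul_apply, sw_apply, nu_apply, dotProduct_sub, dotProduct_smul, dotProduct_single,
      hu, Pi.add_apply, Pi.smul_apply, smul_eq_mul, mul_one, mul_zero, add_zero, sub_zero]
    refine Prod.ext ?_ rfl
    abel

theorem sw_zz {a b : Fin m → F} (ha : a i = 0) (hb : b i = 0) :
    sw g i * zz g (vecMulVec a b) = zz g (vecMulVec a b) * sw g i :=
  orth_ext g fun x y z => by
    simp only [orth_mul_apply, sw_apply, zz_vmv_apply, dotProduct_sub, dotProduct_smul,
      dotProduct_single, ha, hb, Pi.add_apply, Pi.sub_apply, Pi.smul_apply, smul_eq_mul, mul_one,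
      mul_zero, add_zero, sub_zero]
    refine Prod.ext ?_ rfl
    abel

theorem sw_zz_single {r : ℕ} (i : Fin (r + 1)) {a : Fin (r + 1) → F} (ha : a i = 0) :
    sw g i * zz g (vecMulVec a (Pi.single i 1)) = Lv g (T a (Pi.single i 1)) * sw g i :=
  orth_ext g fun x y z => by
    have h : (Pi.single i 1 : Fin (r + 1) → F) ⬝ᵥ a = 0 := by
      rw [single_dotProduct, one_mul, ha]
    simp only [orth_mul_apply, sw_apply, zz_vmv_apply]
    rw [Lv_T_apply g h]
    simp only [dotProduct_add, dotProduct_smul, single_dotProduct, dotProduct_single, sub_dotProduct,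
      smul_dotProduct, dotProduct_comm y a, h, Pi.add_apply, Pi.sub_apply, Pi.smul_apply,
      Pi.single_eq_same, smul_eq_mul, ha, one_mul, mul_one, mul_zero, sub_zero, zero_sub]
    refine Prod.ext ?_ (Prod.ext ?_ rfl) <;> module

theorem sw_Lv {r : ℕ} (i : Fin (r + 1)) {A : SLn.SLg F r}
    (h1 : SLn.ac A (Pi.single i 1) = Pi.single i 1)
    (h2 : (Pi.single i 1 : Fin (r + 1) → F) ᵥ* A.1 = Pi.single i 1) :
    sw g i * Lv g A = Lv g A * sw g i :=
  orth_ext g fun x y z => by
    have h1' : (Pi.single i 1 : Fin (r + 1) → F) ᵥ* (A⁻¹).1 = Pi.single i 1 := by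
      conv_lhs => rw [← h2]
      rw [Matrix.vecMul_vecMul, ← Matrix.SpecialLinearGroup.coe_mul, mul_inv_cancel,
        Matrix.SpecialLinearGroup.coe_one, Matrix.vecMul_one]
    have h2' : SLn.ac A⁻¹ (Pi.single i 1) = Pi.single i 1 := by
      conv_lhs => rw [← h1]
      rw [SLn.ac_inv_ac]
    have hx : SLn.ac A x i = x i := by
      rw [← one_mul (SLn.ac A x i), ← single_dotProduct, SLn.ac, Matrix.dotProduct_mulVec, h2,
        single_dotProduct, one_mul]
    have hy : (y ᵥ* (A⁻¹).1) i = y i := by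
      rw [← mul_one ((y ᵥ* (A⁻¹).1) i), ← dotProduct_single, ← Matrix.dotProduct_mulVec]
      show y ⬝ᵥ SLn.ac A⁻¹ _ = _
      rw [h2', dotProduct_single, mul_one]
    simp only [orth_mul_apply, sw_apply, Lv_apply, hx, hy, SLn.ac_add, SLn.ac_smul, h1,
      Matrix.sub_vecMul, Matrix.smul_vecMul, h1']

theorem Hm_sw (h : orthGroup g) : Hm g h * sw g i = sw g i * Hm g h :=
  orth_ext g fun x y z => by simp only [orth_mul_apply, sw_apply, Hm_apply]

end Swap

end CfsgLib.MinDeg.OrthSiegel
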