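import Cfsg.Agent.Lib.KnownB.MinDeg.OrthSiegel.Line

/-!
# A vector fixed by the radical and by the point radical of the Levi subgroup
-/

set_option autoImplicit false
set_option linter.unusedSectionVars false
set_option backward.isDefEq.respectTransparency false
set_option maxHeartbeats 4000000
set_option synthInstance.maxHeartbeats 200000

open Matrix

namespace CfsgLib.MinDeg.OrthSiegel

open QuadraticMap CfsgLib.Orth
open CfsgLib.KnownA.MinIndex (T T_mulVec vecMul_T T_inv T_conj T_mul_right T_mul_left T_smul)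

variable {F : Type*} [Field F] [Fintype F] [DecidableEq F] {s : ℕ}
  {W : Type*} [AddCommGroup W] [Module F W] [Fintype W] {g : QuadraticForm F W}
  {V : Type*} [AddCommGroup V] [Module ℂ V] [FiniteDimensional ℂ V]
  {ρ : Representation ℂ (Om (s + 2 + 1) g) V} {ψ₀ : AddChar F ℂ}

variable (ρ) in
/-- Vectors fixed by the common part. -/
structure InK (v : V) : Prop where
  n : ∀ a : Fin (s + 2 + 1) → F, a 1 = 0 → a 2 = 0 → ∀ w, ρ (nD g a w) v = v
  z : ∀ a b : Fin (s + 2 + 1) → F, a 1 = 0 → a 2 = 0 → b 2 = 0 → ρ (zD g (vecMulVec a b)) v = v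
  zq : ∀ a : Fin (s + 2 + 1) → F, a 1 = 0 → a 2 = 0 → ρ (zD g (vecMulVec a (eq' F s))) v = v
  lq : ∀ a : Fin (s + 2 + 1) → F, a 1 = 0 → a 2 = 0 → ρ (lD g (T a (eq' F s))) v = v
  lp : ∀ a : Fin (s + 2 + 1) → F, a 1 = 0 → a 2 = 0 → ρ (lD g (T a (ep F s))) v = v
  l0 : ∀ φ : Fin (s + 2 + 1) → F, φ 0 = 0 → φ 1 = 0 → φ 2 = 0 →
    ρ (lD g (T (e₀ F s) φ)) v = v

variable (ρ) in
/-- The vectors fixed by the common part. -/
def fixK : Submodule ℂ V where
  carrier := {v | InK ρ v}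
  add_mem' := fun {v w} hv hw => by
    refine ⟨fun a h1 h2 x => ?_, fun a b h1 h2 h3 => ?_, fun a h1 h2 => ?_, fun a h1 h2 => ?_,
      fun a h1 h2 => ?_, fun a h1 h2 h3 => ?_⟩
    · rw [map_add, hv.n a h1 h2 x, hw.n a h1 h2 x]
    · rw [map_add, hv.z a b h1 h2 h3, hw.z a b h1 h2 h3]
    · rw [map_add, hv.zq a h1 h2, hw.zq a h1 h2]
    · rw [map_add, hv.lq a h1 h2, hw.lq a h1 h2]
    · rw [map_add, hv.lp a h1 h2, hw.lp a h1 h2]
    · rw [map_add, hv.l0 a h1 h2 h3, hw.l0 a h1 h2 h3]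
  zero_mem' := by
    refine ⟨fun a _ _ x => map_zero _, fun a b _ _ _ => map_zero _, fun a _ _ => map_zero _,
      fun a _ _ => map_zero _, fun a _ _ => map_zero _, fun a _ _ _ => map_zero _⟩
  smul_mem' := fun c v hv => by
    refine ⟨fun a h1 h2 x => ?_, fun a b h1 h2 h3 => ?_, fun a h1 h2 => ?_, fun a h1 h2 => ?_,
      fun a h1 h2 => ?_, fun a h1 h2 h3 => ?_⟩
    · rw [map_smul, hv.n a h1 h2 x]
    · rw [map_smul, hv.z a b h1 h2 h3]
    · rw [map_smul, hv.zq a h1 h2]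
    · rw [map_smul, hv.lq a h1 h2]
    · rw [map_smul, hv.lp a h1 h2]
    · rw [map_smul, hv.l0 a h1 h2 h3]

variable (ρ) in
/-- The vectors also fixed by the last root subgroup in the radical. -/
def fixOne : Submodule ℂ V where
  carrier := {v | v ∈ fixK ρ ∧ ∀ t : F, ρ (zD g (vecMulVec (t • ep F s) (eq' F s))) v = v}
  add_mem' := fun {v w} hv hw => ⟨add_mem hv.1 hw.1, fun t => by rw [map_add, hv.2, hw.2]⟩
  zero_mem' := ⟨zero_mem _, fun t => map_zero _⟩
  smul_mem' := fun c v hv => ⟨Submodule.smul_mem _ c hv.1, fun t => by rw [map_smul, hv.2]⟩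

variable (ρ) in
/-- The vectors also fixed by the last root subgroup in the Levi subgroup. -/
def fixTwo : Submodule ℂ V where
  carrier := {v | v ∈ fixK ρ ∧ ∀ t : F, ρ (lD g (T (t • ep F s) (eq' F s))) v = v}
  add_mem' := fun {v w} hv hw => ⟨add_mem hv.1 hw.1, fun t => by rw [map_add, hv.2, hw.2]⟩
  zero_mem' := ⟨zero_mem _, fun t => map_zero _⟩
  smul_mem' := fun c v hv => ⟨Submodule.smul_mem _ c hv.1, fun t => by rw [map_smul, hv.2]⟩

theorem zD_single_rad {v : V} (hv : InK ρ v) {a : Fin (s + 2 + 1) → F} (h1 : a 1 = 0) (h2 : a 2 = 0)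
    (j : Fin (s + 2 + 1)) (t : F) : ρ (zD g (vecMulVec a (Pi.single j t))) v = v := by
  by_cases hj : j = 2
  · subst hj
    rw [show (Pi.single 2 t : Fin (s + 2 + 1) → F) = t • eq' F s by rw [← Pi.single_smul, smul_eq_mul, mul_one],
      Matrix.vecMulVec_smul, ← Matrix.smul_vecMulVec]
    exact hv.zq _ (by simp [h1]) (by simp [h2])
  · exact hv.z _ _ h1 h2 (by simp [Ne.symm hj])

theorem fixOne_central {v : V} (hv : v ∈ fixOne ρ) (S : Matrix (Fin (s + 2 + 1)) (Fin (s + 2 + 1)) F) :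
    ρ (zD g S) v = v := by
  have hadd : ∀ A B : Matrix (Fin (s + 2 + 1)) (Fin (s + 2 + 1)) F, ρ (zD g A) v = v →
      ρ (zD g B) v = v → ρ (zD g (A + B)) v = v := fun A B hA hB => by
    rw [zD_add, ← act_mul, hB, hA]
  have h0 : ρ (zD g (0 : Matrix (Fin (s + 2 + 1)) (Fin (s + 2 + 1)) F)) v = v := by
    rw [zD_symm _ (by simp), map_one, Module.End.one_apply]
  rw [Matrix.matrix_eq_sum_single S]
  refine Finset.sum_induction _ (fun A => ρ (zD g A) v = v) hadd h0 fun i _ => ?_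
  refine Finset.sum_induction _ (fun A => ρ (zD g A) v = v) hadd h0 fun j _ => ?_
  rw [show Matrix.single i j (S i j) = vecMulVec (S i j • Pi.single i 1) (Pi.single j 1) by
    ext a b
    simp only [Matrix.single_apply, vecMulVec_apply, Pi.smul_apply, Pi.single_apply, smul_eq_mul]
    by_cases ha : i = a <;> by_cases hb : j = b <;> simp [ha, hb, Ne.symm]]
  by_cases hi : i ≠ 1 ∧ i ≠ 2
  · exact zD_single_rad hv.1 (by simp [Ne.symm hi.1]) (by simp [Ne.symm hi.2]) j 1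
  by_cases hj : j ≠ 1 ∧ j ≠ 2
  · rw [zD_swap, show -(Pi.single j (1 : F)) = (Pi.single j (-1) : Fin (s + 2 + 1) → F) by
      rw [← Pi.single_neg], show S i j • (Pi.single i 1 : Fin (s + 2 + 1) → F) = Pi.single i (S i j) by
      rw [← Pi.single_smul, smul_eq_mul, mul_one]]
    exact zD_single_rad hv.1 (by simp [Ne.symm hj.1]) (by simp [Ne.symm hj.2]) i _
  simp only [not_and_or, ne_eq, not_not] at hi hj
  by_cases hij : i = j
  · subst hij
    rw [zD_symm _ (by rw [Matrix.transpose_vecMulVec, Matrix.vecMulVec_smul, Matrix.smul_vecMulVec]),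
      map_one, Module.End.one_apply]
  rcases hi with rfl | rfl <;> rcases hj with rfl | rfl
  · exact absurd rfl hij
  · exact hv.2 _
  · rw [zD_swap, Matrix.neg_vecMulVec, ← Matrix.vecMulVec_neg, ← neg_smul, Matrix.vecMulVec_smul,
      ← Matrix.smul_vecMulVec]
    exact hv.2 _
  · exact absurd rfl hij

theorem fixOne_pointRad {v : V} (hv : v ∈ fixOne ρ) (a : Fin (s + 2) → F) :
    ρ (lD g (SLn.u a)) v = v := by
  set φ : Fin (s + 2 + 1) → F := Fin.cons 0 a with hφ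
  have h0 : φ 0 = 0 := by simp [hφ]
  have e : φ = φ 1 • ep F s + φ 2 • eq' F s + (φ - φ 1 • ep F s - φ 2 • eq' F s) := by abel
  have d1 : (φ 1 • ep F s) ⬝ᵥ e₀ F s = 0 := by
    rw [smul_dotProduct, ep_dot, e0_one, smul_zero]
  have d2 : (φ 2 • eq' F s) ⬝ᵥ e₀ F s = 0 := by
    rw [smul_dotProduct, eq_dot, e0_two, smul_zero]
  have d3 : (φ - φ 1 • ep F s - φ 2 • eq' F s) ⬝ᵥ e₀ F s = 0 := by
    rw [sub_dotProduct, sub_dotProduct, d1, d2, sub_zero, sub_zero, dotProduct_single, h0, zero_mul]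
  show ρ (lD g (T (e₀ F s) φ)) v = v
  rw [e, ← T_mul_right (by rw [add_dotProduct, d1, d2, add_zero]) d3, ← T_mul_right d1 d2, map_mul (lD (s := s) g), map_mul (lD (s := s) g),
    ← act_mul, ← act_mul, hv.1.l0 _ (by simp [h0, ne01, ne02]) (by simp [ne12]) (by simp [ne12.symm]),
    ← T_smul (v := e₀ F s) (φ := eq' F s) (by simp [ne02]), hv.1.lq _ (by simp) (by simp),
    ← T_smul (v := e₀ F s) (φ := ep F s) (by simp [ne01]), hv.1.lp _ (by simp) (by simp)]

variable {u₀ : W} (hs : sw g (2 : Fin (s + 2 + 1)) * Hm g (refl g u₀) ∈ Om (s + 2 + 1) g)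
include hs

theorem inK_swap {v : V} (hv : InK ρ v) : InK ρ (ρ (⟨_, hs⟩ : Om (s + 2 + 1) g) v) := by
  have hsq := sC_sq g hs (refl_mul_self g u₀)
  refine ⟨fun a h1 h2 w => ?_, fun a b h1 h2 h3 => ?_, fun a h1 h2 => ?_, fun a h1 h2 => ?_,
    fun a h1 h2 => ?_, fun φ h0 h1 h2 => ?_⟩
  · have e := sD_nD a ((refl g u₀).1 w) hs h2
    rw [show (refl g u₀).1 ((refl g u₀).1 w) = w from reflFun_reflFun g u₀ w] at e
    rw [act_mul, ← e, ← act_mul, hv.n a h1 h2]
  · rw [act_mul, ← sD_zD a b hs h2 h3, ← act_mul, hv.z a b h1 h2 h3]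
  · have e := congrArg (fun x => (⟨_, hs⟩ : Om (s + 2 + 1) g) * x * ⟨_, hs⟩)
      (sD_zD_single (g := g) a hs h2)
    simp only [← mul_assoc, hsq, one_mul] at e
    simp only [mul_assoc, hsq, mul_one] at e
    rw [act_mul, e, ← act_mul, hv.lq a h1 h2]
  · rw [act_mul, ← sD_zD_single a hs h2, ← act_mul, hv.zq a h1 h2]
  · have hd : ep F s ⬝ᵥ a = 0 := by rw [ep_dot, h1]
    rw [act_mul, ← sD_lD (T a (ep F s)) hs (by rw [SLn.ac, T_mulVec hd]; simp [ne12.symm])
      (by rw [vecMul_T hd]; simp [h2]), ← act_mul, hv.lp a h1 h2]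
  · have hd : φ ⬝ᵥ e₀ F s = 0 := by simp [h0]
    rw [act_mul, ← sD_lD (T (e₀ F s) φ) hs (by rw [SLn.ac, T_mulVec hd]; simp [h2])
      (by rw [vecMul_T hd]; simp [ne02, ne02.symm]), ← act_mul, hv.l0 φ h0 h1 h2]

theorem finrank_fixOne_eq :
    Module.finrank ℂ (fixOne ρ) = Module.finrank ℂ (fixTwo ρ) := by
  have hsq := sC_sq g hs (refl_mul_self g u₀)
  have h12 : ∀ v ∈ fixOne ρ, ρ (⟨_, hs⟩ : Om (s + 2 + 1) g) v ∈ fixTwo ρ := fun v hv =>
    ⟨inK_swap hs hv.1, fun t => by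
      rw [act_mul, ← sD_zD_single (t • ep F s) hs (by simp [ne12.symm]), ← act_mul, hv.2 t]⟩
  have h21 : ∀ v ∈ fixTwo ρ, ρ (⟨_, hs⟩ : Om (s + 2 + 1) g) v ∈ fixOne ρ := fun v hv =>
    ⟨inK_swap hs hv.1, fun t => by
      have e := congrArg (fun x => (⟨_, hs⟩ : Om (s + 2 + 1) g) * x * ⟨_, hs⟩)
        (sD_zD_single (g := g) (t • ep F s) hs (by simp [ne12.symm]))
      simp only [← mul_assoc, hsq, one_mul] at e
      simp only [mul_assoc, hsq, mul_one] at e
      rw [act_mul, e, ← act_mul, hv.2 t]⟩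
  exact le_antisymm
    (LinearMap.finrank_le_finrank_of_injective (f := (ρ _).restrict h12) fun v w h =>
      Subtype.ext (act_cancel _ (congrArg Subtype.val h)))
    (LinearMap.finrank_le_finrank_of_injective (f := (ρ _).restrict h21) fun v w h =>
      Subtype.ext (act_cancel _ (congrArg Subtype.val h)))

variable (C : Ctx ρ ψ₀)
include C

omit hs in
theorem exists_fixTwo : ∃ v ∈ fixTwo ρ, v ≠ 0 ∧ v ∈ Vz ρ ψ₀ := by
  obtain ⟨v₀, hv₀, h0, hall⟩ := exists_v0 C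
  have hd : ∀ t : F, eq' F s ⬝ᵥ (t • ep F s) = 0 := fun t => by simp [ne12.symm]
  set X : F → SLn.SLg F (s + 2) := fun t => T (t • ep F s) (eq' F s) with hX
  have hrow : ∀ t, pr ψ₀ (ep F s ᵥ* (X t).1) (eq' F s ᵥ* (X t).1) = zχ ψ₀ s := fun t => by
    rw [hX, vecMul_T (hd t), vecMul_T (hd t)]
    refine DFunLike.ext _ _ fun S => ?_
    simp only [pr_apply, dotProduct_smul, ep_dot, eq_dot, ep_two, ep_one, smul_zero, zero_smul, add_zero,
      smul_eq_mul, mul_one, add_dotProduct, smul_dotProduct, Matrix.mulVec_add, Matrix.mulVec_smul,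
      dotProduct_add]
    congr 1
    ring
  have hXep : ∀ t, SLn.ac (X t) (ep F s) = ep F s := fun t => by
    rw [hX, SLn.ac, T_mulVec (hd t), eq_dot, ep_two, zero_smul, add_zero]
  have hXeq : ∀ t, SLn.ac (X t) (eq' F s) = eq' F s + t • ep F s := fun t => by
    rw [hX, SLn.ac, T_mulVec (hd t), eq_dot, eq_two, one_smul]
  have hline : ∀ t, ∃ c : ℂ, ρ (lD g (X t)) v₀ = c • v₀ := fun t =>
    hall _ ⟨lD_keep (X t) (hrow t) hv₀.1, fun w => by
      have e : lD g (X t) * nD g (ep F s) w = nD g (ep F s) w * lD g (X t) := by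
        rw [lD_nD, hXep]
      rw [act_mul, ← e, ← act_mul, mem_weightSpace.1 hv₀.2 w, map_smul]⟩
  choose c hc using hline
  have hc' : ∀ a b, c (a + b) = c a * c b := fun a b => by
    refine smul_left_injective ℂ h0 ?_
    show c (a + b) • v₀ = (c a * c b) • v₀
    rw [← hc]
    simp only [hX]
    rw [add_smul, ← T_mul_left (hd a) (hd b), map_mul, ← act_mul]
    show ρ (lD g (X a)) (ρ (lD g (X b)) v₀) = _
    rw [hc, map_smul, hc, smul_smul, mul_comm]
  have hc0 : c 0 = 1 := by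
    refine smul_left_injective ℂ h0 ?_
    show c 0 • v₀ = (1 : ℂ) • v₀
    rw [← hc]
    simp [hX]
  obtain ⟨γ, hγ⟩ := exists_mulShift C.hψ
    { toFun := c, map_zero_eq_one' := hc0, map_add_eq_mul' := hc' }
  obtain ⟨w, hw⟩ := C.surj γ
  refine ⟨ρ (nD g (eq' F s) w) v₀, ⟨?_, fun t => ?_⟩,
    fun h => h0 (act_cancel (nD g (eq' F s) w) (by rw [h, map_zero])), nD_keep _ w hv₀.1⟩
  · have hm : ρ (nD g (eq' F s) w) v₀ ∈ Vz ρ ψ₀ := nD_keep _ w hv₀.1
    exact ⟨fun a h1 h2 x => nD_trivial C h1 h2 x hm, fun a b h1 h2 _ => zD_trivial C h1 h2 b hm,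
      fun a h1 h2 => zD_trivial C h1 h2 _ hm, fun a h1 h2 => lD_eq_trivial C h1 h2 hm,
      fun a h1 h2 => lD_ep_trivial C h1 h2 hm, fun φ h1 h2 h3 => lD_e0_trivial C h1 h2 h3 hm⟩
  · show ρ (lD g (X t)) _ = _
    rw [act_mul, lD_nD, hXeq, ← act_mul, hc, map_smul, nD_add_left, ← act_mul, ← act_mul, nD_smul,
      mem_weightSpace.1 hv₀.2 _, AddChar.zero_apply, one_smul,
      zD_on (nD_keep _ w hv₀.1), zχ_vmv, show c t = ψ₀ (γ * t) from hγ t, smul_smul,
      ← AddChar.map_add_eq_mul]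
    simp [hw, ne12, ne12.symm]

/-- A vector fixed by the radical and the point radical but moved by the Levi subgroup. -/
theorem exists_moved : ∃ v : V, (∀ S, ρ (zD g S) v = v) ∧ (∀ a, ρ (lD g (SLn.u a)) v = v) ∧
    ∃ A, ρ (lD g A) v ≠ v := by
  obtain ⟨x, hx, hx0, hxz⟩ := exists_fixTwo C
  by_contra hall
  push Not at hall
  have hle : fixOne ρ ≤ fixTwo ρ := fun v hv =>
    ⟨hv.1, fun t => hall v (fixOne_central hv) (fixOne_pointRad hv) _⟩
  have hne : fixOne ρ ≠ fixTwo ρ := by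
    intro h
    rw [← h] at hx
    obtain ⟨z, hz⟩ := AddChar.ne_zero_iff.1 C.hψ
    have h1 := fixOne_central hx (z • vecMulVec (ep F s) (eq' F s))
    rw [zD_on hxz, zχ_vmv, ep_one, ep_two, eq_one, eq_two] at h1
    refine hz (smul_left_injective ℂ hx0 ?_)
    simpa using h1
  exact absurd (finrank_fixOne_eq (ρ := ρ) hs) (Submodule.finrank_lt_finrank_of_lt (lt_of_le_of_ne hle hne)).ne

end CfsgLib.MinDeg.OrthSiegel
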