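import Cfsg.Agent.Lib.KnownB.MinDeg.OrthSiegel.Relations

/-!
# A weight space of a decomposable form, when the translators act irreducibly on it
-/

set_option autoImplicit false
set_option linter.unusedSectionVars false
set_option backward.isDefEq.respectTransparency false
set_option maxHeartbeats 4000000
set_option synthInstance.maxHeartbeats 200000

open Matrix

namespace CfsgLib.MinDeg.OrthSiegel

open QuadraticMap CfsgLib.Orth
open CfsgLib.KnownA.MinIndex (T T_mulVec vecMul_T T_inv T_conj T_mul_right T_mul_left T_smul)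

variable {F : Type*} [Field F] [Fintype F] [DecidableEq F] {s : ℕ}
  {W : Type*} [AddCommGroup W] [Module F W] [Fintype W] {g : QuadraticForm F W}
  {V : Type*} [AddCommGroup V] [Module ℂ V] [FiniteDimensional ℂ V]
  {ρ : Representation ℂ (Om (s + 2 + 1) g) V} {ψ₀ : AddChar F ℂ}

theorem two_le (s : ℕ) : 2 ≤ s + 2 := by omega

/-- The first distinguished vector. -/
abbrev ep (F : Type*) [Field F] (s : ℕ) : Fin (s + 2 + 1) → F := Pi.single 1 1

/-- The second distinguished vector. -/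
abbrev eq' (F : Type*) [Field F] (s : ℕ) : Fin (s + 2 + 1) → F := Pi.single 2 1

/-- The further vector. -/
abbrev e₀ (F : Type*) [Field F] (s : ℕ) : Fin (s + 2 + 1) → F := Pi.single 0 1

theorem ne12 : (1 : Fin (s + 2 + 1)) ≠ 2 := (SLn.idx_ne (s := s)).2.2

theorem ne01 : (0 : Fin (s + 2 + 1)) ≠ 1 := (SLn.idx_ne (s := s)).1

theorem ne02 : (0 : Fin (s + 2 + 1)) ≠ 2 := (SLn.idx_ne (s := s)).2.1

theorem ep_dot (v : Fin (s + 2 + 1) → F) : ep F s ⬝ᵥ v = v 1 := by simp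

theorem dot_ep (v : Fin (s + 2 + 1) → F) : v ⬝ᵥ ep F s = v 1 := by simp

theorem eq_dot (v : Fin (s + 2 + 1) → F) : eq' F s ⬝ᵥ v = v 2 := by simp

theorem dot_eq (v : Fin (s + 2 + 1) → F) : v ⬝ᵥ eq' F s = v 2 := by simp

@[simp] theorem ep_one : ep F s 1 = 1 := by simp
@[simp] theorem ep_two : ep F s 2 = 0 := by simp [ne12.symm]
@[simp] theorem eq_one : eq' F s 1 = 0 := by simp [ne12]
@[simp] theorem eq_two : eq' F s 2 = 1 := by simp
@[simp] theorem e0_one : e₀ F s 1 = 0 := by simp [ne01.symm]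
@[simp] theorem e0_two : e₀ F s 2 = 0 := by simp [ne02.symm]

variable (g) in
/-- The central elements. -/
noncomputable def zD (S : Matrix (Fin (s + 2 + 1)) (Fin (s + 2 + 1)) F) : Om (s + 2 + 1) g :=
  zC g (two_le s) S

variable (g) in
/-- The radical elements. -/
noncomputable def nD (u : Fin (s + 2 + 1) → F) (w : W) : Om (s + 2 + 1) g :=
  nC g (two_le s) u w

variable (g) in
/-- The opposite radical elements. -/
noncomputable def mD (u : Fin (s + 2 + 1) → F) (w : W) : Om (s + 2 + 1) g :=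
  mC g (two_le s) u w

variable (g) in
/-- The Levi elements. -/
noncomputable def lD : SLn.SLg F (s + 2) →* Om (s + 2 + 1) g := lC g (two_le s)

section Restate

variable (u v : Fin (s + 2 + 1) → F) (w w' : W)
  (S S' : Matrix (Fin (s + 2 + 1)) (Fin (s + 2 + 1)) F) (A : SLn.SLg F (s + 2))

theorem zD_add : zD g (S + S') = zD g S * zD g S' := zC_add g (two_le s) S S'

theorem nD_add : nD g u (w + w') = nD g u w * nD g u w' := nC_add g (two_le s) u w w'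

theorem nD_smul (t : F) : nD g (t • u) w = nD g u (t • w) := nC_smul g (two_le s) t u w

theorem nD_mul : nD g u w * nD g v w' = zD g (polar g w w' • vecMulVec v u) * (nD g v w' * nD g u w) :=
  nC_mul g (two_le s) u v w w'

theorem nD_add_left : nD g (u + v) w = zD g (g w • vecMulVec u v) * (nD g u w * nD g v w) :=
  nC_add_left g (two_le s) u v w

theorem zD_nD : zD g S * nD g u w = nD g u w * zD g S := zC_nC g (two_le s) S u w

theorem lD_zD : lD g A * zD g S = zD g (cong A S) * lD g A := lC_zC g (two_le s) A S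

theorem lD_nD : lD g A * nD g u w = nD g (SLn.ac A u) w * lD g A := lC_nC g (two_le s) A u w

theorem lD_mD {v : Fin (s + 2 + 1) → F} (hv : v ᵥ* A.1 = v) :
    lD g A * mD g v w = mD g v w * lD g A := lC_mC g (two_le s) A hv w

theorem nD_zero : nD g u 0 = 1 := nC_zero g (two_le s) u

theorem zD_symm (h : Sᵀ = S) : zD g S = 1 := zC_symm g (two_le s) h

theorem zD_swap : zD g (vecMulVec u v) = zD g (vecMulVec (-v) u) := zC_swap g (two_le s) u v

theorem nD_mD {u v : Fin (s + 2 + 1) → F} (h : v ⬝ᵥ u = 0) :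
    nD g u w' * mD g v w =
      lD g (T (-(polar g w' w) • u) v) * (mD g v w * nD g u w') :=
  nC_mC g (two_le s) h w' w

theorem zD_mD_comm (a b : Fin (s + 2 + 1) → F) {v : Fin (s + 2 + 1) → F} (ha : a ⬝ᵥ v = 0)
    (hb : b ⬝ᵥ v = 0) : zD g (vecMulVec a b) * mD g v w = mD g v w * zD g (vecMulVec a b) :=
  zC_mC_comm g (two_le s) a b ha hb w

theorem zD_mD {a b v : Fin (s + 2 + 1) → F} (ha : a ⬝ᵥ v = 0) (hb : b ⬝ᵥ v = 1) :
    zD g (vecMulVec a b) * mD g v w =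
      nD g a w * (lD g (T (g w • a) v) * (mD g v w * zD g (vecMulVec a b))) :=
  zC_mC g (two_le s) ha hb w

variable {h : orthGroup g}

theorem hD_nD (hh : Hm (m := s + 2 + 1) g h ∈ Om (s + 2 + 1) g) :
    (⟨_, hh⟩ : Om (s + 2 + 1) g) * nD g u w = nD g u (h.1 w) * ⟨_, hh⟩ :=
  hC_nC g (two_le s) hh u w

theorem hD_zD (hh : Hm (m := s + 2 + 1) g h ∈ Om (s + 2 + 1) g) :
    (⟨_, hh⟩ : Om (s + 2 + 1) g) * zD g S = zD g S * ⟨_, hh⟩ :=
  hC_zC g (two_le s) hh S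

variable {i : Fin (s + 2 + 1)} (hs : sw g i * Hm g h ∈ Om (s + 2 + 1) g)

theorem sD_nD (hu : u i = 0) :
    (⟨_, hs⟩ : Om (s + 2 + 1) g) * nD g u w = nD g u (h.1 w) * ⟨_, hs⟩ :=
  sC_nC g (two_le s) hs hu w

theorem sD_zD (hu : u i = 0) (hv : v i = 0) :
    (⟨_, hs⟩ : Om (s + 2 + 1) g) * zD g (vecMulVec u v) = zD g (vecMulVec u v) * ⟨_, hs⟩ :=
  sC_zC g (two_le s) hs hu hv

theorem sD_zD_single (hu : u i = 0) :
    (⟨_, hs⟩ : Om (s + 2 + 1) g) * zD g (vecMulVec u (Pi.single i 1)) =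
      lD g (T u (Pi.single i 1)) * ⟨_, hs⟩ :=
  sC_zC_single g (two_le s) hs hu

theorem sD_lD (h1 : SLn.ac A (Pi.single i 1) = Pi.single i 1)
    (h2 : (Pi.single i 1 : Fin (s + 2 + 1) → F) ᵥ* A.1 = Pi.single i 1) :
    (⟨_, hs⟩ : Om (s + 2 + 1) g) * lD g A = lD g A * ⟨_, hs⟩ :=
  sC_lC g (two_le s) hs h1 h2

end Restate

attribute [irreducible] zD nD mD lD

/-- The weight of the distinguished pair. -/
abbrev zχ (ψ₀ : AddChar F ℂ) (s : ℕ) :
    AddChar (Matrix (Fin (s + 2 + 1)) (Fin (s + 2 + 1)) F) ℂ := pr ψ₀ (ep F s) (eq' F s)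

theorem zχ_vmv (u v : Fin (s + 2 + 1) → F) (t : F) :
    zχ ψ₀ s (t • vecMulVec u v) = ψ₀ (t * (u 1 * v 2 - u 2 * v 1)) := by
  rw [pr_vmv, ep_dot, eq_dot, eq_dot, ep_dot]

theorem zχ_vmv' (u v : Fin (s + 2 + 1) → F) :
    zχ ψ₀ s (vecMulVec u v) = ψ₀ (u 1 * v 2 - u 2 * v 1) := by
  simpa using zχ_vmv (ψ₀ := ψ₀) u v 1

variable (ρ ψ₀) in
/-- The weight space of the distinguished pair. -/
noncomputable abbrev Vz : Submodule ℂ V := weightSpace ρ (zD g) (zχ ψ₀ s)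

variable (ρ ψ₀) in
/-- Its part fixed by the first line of the radical. -/
noncomputable abbrev Lz : Submodule ℂ V :=
  Vz ρ ψ₀ ⊓ weightSpace ρ (nD g (ep F s)) (0 : AddChar W ℂ)

theorem act_mul (a b : Om (s + 2 + 1) g) (v : V) : ρ a (ρ b v) = ρ (a * b) v := by
  rw [map_mul, Module.End.mul_apply]

theorem act_cancel (a : Om (s + 2 + 1) g) {v w : V} (h : ρ a v = ρ a w) : v = w := by
  have h' := congrArg (ρ a⁻¹) h
  simpa only [← Module.End.mul_apply, ← map_mul, inv_mul_cancel, map_one, Module.End.one_apply] using h'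

theorem zD_on {χ : AddChar (Matrix (Fin (s + 2 + 1)) (Fin (s + 2 + 1)) F) ℂ} {v : V}
    (hv : v ∈ weightSpace ρ (zD g) χ) (S : Matrix (Fin (s + 2 + 1)) (Fin (s + 2 + 1)) F) :
    ρ (zD g S) v = χ S • v := hv S

theorem keep_of_comm {χ : AddChar (Matrix (Fin (s + 2 + 1)) (Fin (s + 2 + 1)) F) ℂ}
    {x : Om (s + 2 + 1) g} (h : ∀ S, x * zD g S = zD g S * x) {v : V}
    (hv : v ∈ weightSpace ρ (zD g) χ) : ρ x v ∈ weightSpace ρ (zD g) χ :=
  SLn.mem_weightSpace_map (AddEquiv.refl _) h (fun _ => rfl) hv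

theorem nD_keep {χ : AddChar (Matrix (Fin (s + 2 + 1)) (Fin (s + 2 + 1)) F) ℂ}
    (u : Fin (s + 2 + 1) → F) (w : W) {v : V} (hv : v ∈ weightSpace ρ (zD g) χ) :
    ρ (nD g u w) v ∈ weightSpace ρ (zD g) χ :=
  keep_of_comm (fun S => (zD_nD u w S).symm) hv

theorem lD_map {χ χ' : AddChar (Matrix (Fin (s + 2 + 1)) (Fin (s + 2 + 1)) F) ℂ}
    (A : SLn.SLg F (s + 2)) (h : ∀ S, χ' (cong A S) = χ S) {v : V}
    (hv : v ∈ weightSpace ρ (zD g) χ) : ρ (lD g A) v ∈ weightSpace ρ (zD g) χ' :=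
  SLn.mem_weightSpace_map (congE A) (fun S => lD_zD S A) h hv

theorem lD_keep (A : SLn.SLg F (s + 2))
    (h : pr ψ₀ (ep F s ᵥ* A.1) (eq' F s ᵥ* A.1) = zχ ψ₀ s) {v : V} (hv : v ∈ Vz ρ ψ₀) :
    ρ (lD g A) v ∈ Vz ρ ψ₀ :=
  lD_map A (fun S => by rw [pr_cong, h]) hv

/-- The hypotheses on the representation. -/
structure Ctx (ρ : Representation ℂ (Om (s + 2 + 1) g) V) (ψ₀ : AddChar F ℂ) : Prop where
  hψ : ψ₀ ≠ 0
  hg : (QuadraticMap.polarBilin g).Nondegenerate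
  dec_of : ∀ χ : AddChar (Matrix (Fin (s + 2 + 1)) (Fin (s + 2 + 1)) F) ℂ, χ ≠ 0 →
    weightSpace ρ (zD g) χ ≠ ⊥ → χ ∈ dec ψ₀ (s + 2)
  one : Module.finrank ℂ (Lz ρ ψ₀) = 1
  rot : ∃ (h : orthGroup g) (_ : Hm (m := s + 2 + 1) g h ∈ Om (s + 2 + 1) g), ∀ w, h.1 w = w → w = 0
  surj : ∀ γ, ∃ w, g w = γ

/-- The translators of a weight space. -/
theorem exists_shift (hψ : ψ₀ ≠ 0) (hg : (QuadraticMap.polarBilin g).Nondegenerate)
    (χ : AddChar (Matrix (Fin (s + 2 + 1)) (Fin (s + 2 + 1)) F) ℂ) (u v : Fin (s + 2 + 1) → F)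
    (hχ : ∀ t, χ (t • vecMulVec v u) = ψ₀ (-t)) (U : Submodule ℂ V)
    (hU : U ≤ weightSpace ρ (zD g) χ) (hu : ∀ w, ∀ x ∈ U, ρ (nD g u w) x ∈ U)
    (hv : ∀ w, ∀ x ∈ U, ρ (nD g v w) x ∈ U) :
    ∃ D : Shift ρ (nD g u) U W, D.t = nD g v := by
  let c : W → AddChar W ℂ := fun y =>
    { toFun := fun a => ψ₀ (-polar g a y)
      map_zero_eq_one' := by simp
      map_add_eq_mul' := fun a b => by rw [polar_add_left, neg_add, AddChar.map_add_eq_mul] }
  refine ⟨⟨nD_add u, hu, nD g v, hv, c, fun φ => ?_, fun y a x hx => ?_⟩, rfl⟩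
  · obtain ⟨y, hy⟩ := polar_chars hψ hg φ
    exact ⟨y, DFunLike.ext _ _ fun a => (hy a).symm⟩
  · rw [act_mul, nD_mul, ← act_mul, ← act_mul, zD_on (nD_keep v y (nD_keep u a (hU hx))), hχ]
    rfl

variable (C : Ctx ρ ψ₀)
include C

theorem shift_z : ∃ D : Shift ρ (nD g (ep F s)) (Vz ρ ψ₀) W, D.t = nD g (eq' F s) :=
  exists_shift C.hψ C.hg (zχ ψ₀ s) (ep F s) (eq' F s) (fun t => by rw [zχ_vmv]; simp) _ le_rfl
    (fun w _ hx => nD_keep _ w hx) (fun w _ hx => nD_keep _ w hx)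

theorem exists_v0 : ∃ v₀ ∈ Lz ρ ψ₀, v₀ ≠ 0 ∧ ∀ v ∈ Lz ρ ψ₀, ∃ c : ℂ, v = c • v₀ := by
  obtain ⟨⟨v₀, hv₀⟩, h0, hall⟩ := finrank_eq_one_iff'.1 C.one
  refine ⟨v₀, hv₀, fun h => h0 (Subtype.ext h), fun v hv => ?_⟩
  obtain ⟨c, hc⟩ := hall ⟨v, hv⟩
  exact ⟨c, (congrArg Subtype.val hc).symm⟩

/-- An element commuting with both lines of the radical on the weight space is scalar there. -/
theorem scal (x : Om (s + 2 + 1) g) (hx : ∀ v ∈ Vz ρ ψ₀, ρ x v ∈ Vz ρ ψ₀)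
    (h1 : ∀ w, ∀ v ∈ Vz ρ ψ₀, ρ (nD g (ep F s) w) (ρ x v) = ρ x (ρ (nD g (ep F s) w) v))
    (h2 : ∀ w, ∀ v ∈ Vz ρ ψ₀, ρ (nD g (eq' F s) w) (ρ x v) = ρ x (ρ (nD g (eq' F s) w) v)) :
    ∃ c : ℂ, c ≠ 0 ∧ ∀ v ∈ Vz ρ ψ₀, ρ x v = c • v := by
  obtain ⟨v₀, hv₀, h0, hall⟩ := exists_v0 C
  have hmem : ρ x v₀ ∈ Lz ρ ψ₀ := ⟨hx _ hv₀.1, fun w => by
    rw [h1 w _ hv₀.1, mem_weightSpace.1 hv₀.2 w, map_smul]⟩
  obtain ⟨c, hc⟩ := hall _ hmem
  refine ⟨c, fun hc0 => h0 (act_cancel x (by rw [hc, hc0, zero_smul, map_zero])), ?_⟩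
  obtain ⟨D, hD⟩ := shift_z C
  refine D.scalar (ρ x) c (fun y v hv => ?_) fun v hv => ?_
  · rw [hD]
    exact (h2 y v hv).symm
  · obtain ⟨a, rfl⟩ := hall v hv
    rw [map_smul, hc, smul_comm]

theorem nC_comm_z {u a : Fin (s + 2 + 1) → F} (h : u 1 * a 2 - u 2 * a 1 = 0) (w w' : W) {v : V}
    (hv : v ∈ Vz ρ ψ₀) :
    ρ (nD g u w) (ρ (nD g a w') v) = ρ (nD g a w') (ρ (nD g u w) v) := by
  rw [act_mul, nD_mul, ← act_mul, ← act_mul, zD_on (nD_keep a w' (nD_keep u w hv)),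
    zχ_vmv, show a 1 * u 2 - a 2 * u 1 = 0 by linear_combination -h, mul_zero,
    AddChar.map_zero_eq_one, one_smul]

/-- The rest of the radical acts trivially. -/
theorem nD_trivial {a : Fin (s + 2 + 1) → F} (ha1 : a 1 = 0) (ha2 : a 2 = 0) (w : W) {v : V}
    (hv : v ∈ Vz ρ ψ₀) : ρ (nD g a w) v = v := by
  have hs : ∀ w, ∃ c : ℂ, c ≠ 0 ∧ ∀ v ∈ Vz ρ ψ₀, ρ (nD g a w) v = c • v := fun w =>
    scal C _ (fun v hv => nD_keep a w hv)
      (fun w' v hv => nC_comm_z C (by simp [ha1, ha2]) w' w hv)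
      (fun w' v hv => nC_comm_z C (by simp [ha1, ha2]) w' w hv)
  choose μ hμ0 hμ using hs
  obtain ⟨v₀, hv₀, h0, hall⟩ := exists_v0 C
  obtain ⟨h, hh, hfix⟩ := C.rot
  set xh : Om (s + 2 + 1) g := ⟨_, hh⟩
  have hxv : ρ xh v₀ ∈ Vz ρ ψ₀ := keep_of_comm (fun S => hD_zD S hh) hv₀.1
  have hμh : ∀ w, μ (h.1 w) = μ w := by
    intro w
    have e : ρ (nD g a (h.1 w)) (ρ xh v₀) = ρ xh (ρ (nD g a w) v₀) := by
      rw [act_mul, act_mul, hD_nD (hh := hh)]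
    rw [hμ _ _ hxv, hμ _ _ hv₀.1, map_smul] at e
    exact smul_left_injective ℂ (fun h' => h0 (act_cancel xh (by rw [h', map_zero]))) e
  have hμadd : ∀ w w', μ (w + w') = μ w * μ w' := by
    intro w w'
    refine smul_left_injective ℂ h0 ?_
    show μ (w + w') • v₀ = (μ w * μ w') • v₀
    rw [← hμ _ _ hv₀.1, nD_add, ← act_mul, hμ _ _ hv₀.1, map_smul, hμ _ _ hv₀.1, smul_smul, mul_comm]
  let f : W →ₗ[F] W := (h.1 : W →ₗ[F] W) - LinearMap.id
  have : Module.Finite F W := Module.Finite.of_finite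
  have hf : Function.Surjective f := by
    rw [← LinearMap.injective_iff_surjective, injective_iff_map_eq_zero]
    intro z hz
    exact hfix z (sub_eq_zero.1 hz)
  obtain ⟨z, hz⟩ := hf w
  have h1 : μ w * μ z = μ z := by
    rw [← hμadd, ← hz]
    show μ (h.1 z - z + z) = μ z
    rw [sub_add_cancel, hμh]
  rw [hμ w v hv, mul_right_cancel₀ (hμ0 z) (h1.trans (one_mul _).symm), one_smul]

theorem zD_trivial {a : Fin (s + 2 + 1) → F} (ha1 : a 1 = 0) (ha2 : a 2 = 0)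
    (b : Fin (s + 2 + 1) → F) {v : V} (hv : v ∈ Vz ρ ψ₀) : ρ (zD g (vecMulVec a b)) v = v := by
  rw [zD_on hv, zχ_vmv', ha1, ha2, zero_mul, zero_mul, sub_zero, AddChar.map_zero_eq_one, one_smul]

/-- A Levi element fixing both covectors is scalar on the weight space. -/
theorem lD_scal (A : SLn.SLg F (s + 2)) (h1 : ep F s ᵥ* A.1 = ep F s)
    (h2 : eq' F s ᵥ* A.1 = eq' F s) :
    ∃ c : ℂ, c ≠ 0 ∧ ∀ v ∈ Vz ρ ψ₀, ρ (lD g A) v = c • v := by
  have hkeep : ∀ v ∈ Vz ρ ψ₀, ρ (lD g A) v ∈ Vz ρ ψ₀ := fun v hv =>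
    lD_keep A (by rw [h1, h2]) hv
  have h : ∀ u : Fin (s + 2 + 1) → F, SLn.ac A u 1 = u 1 ∧ SLn.ac A u 2 = u 2 := fun u => by
    constructor
    · rw [← ep_dot (SLn.ac A u), SLn.ac, Matrix.dotProduct_mulVec, h1, ep_dot]
    · rw [← eq_dot (SLn.ac A u), SLn.ac, Matrix.dotProduct_mulVec, h2, eq_dot]
  have hn : ∀ (u : Fin (s + 2 + 1) → F) (w : W), ∀ v ∈ Vz ρ ψ₀,
      ρ (nD g u w) (ρ (lD g A) v) = ρ (lD g A) (ρ (nD g u w) v) := by
    intro u w v hv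
    rw [act_mul (lD g A), lD_nD, ← act_mul]
    set a := SLn.ac A u - u with ha
    have ha1 : a 1 = 0 := by simp [ha, (h u).1]
    have ha2 : a 2 = 0 := by simp [ha, (h u).2]
    rw [show SLn.ac A u = u + a by simp [ha], nD_add_left, ← act_mul, ← act_mul,
      nD_trivial C ha1 ha2 w (hkeep v hv), zD_on (nD_keep u w (hkeep v hv)), zχ_vmv, ha1, ha2,
      mul_zero, mul_zero, sub_zero, mul_zero, AddChar.map_zero_eq_one, one_smul]
  exact scal C _ hkeep (hn _) (hn _)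

theorem lD_T_add {v φ φ' : Fin (s + 2 + 1) → F} (h : φ ⬝ᵥ v = 0) (h' : φ' ⬝ᵥ v = 0) :
    lD g (T v φ) * lD g (T v φ') = lD g (T v (φ + φ')) := by
  rw [← map_mul, T_mul_right h h']

theorem lD_rows {v φ : Fin (s + 2 + 1) → F} (hv1 : v 1 = 0) (hv2 : v 2 = 0) (h : φ ⬝ᵥ v = 0) :
    ep F s ᵥ* (T v φ).1 = ep F s ∧ eq' F s ᵥ* (T v φ).1 = eq' F s := by
  constructor
  · rw [vecMul_T h, ep_dot, hv1, zero_smul, add_zero]
  · rw [vecMul_T h, eq_dot, hv2, zero_smul, add_zero]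

/-- The transvections into the second covector act trivially. -/
theorem lD_eq_trivial {a : Fin (s + 2 + 1) → F} (ha1 : a 1 = 0) (ha2 : a 2 = 0) {v : V}
    (hv : v ∈ Vz ρ ψ₀) : ρ (lD g (T a (eq' F s))) v = v := by
  have hd : ep F s ⬝ᵥ a = 0 := by rw [ep_dot, ha1]
  have hd' : eq' F s ⬝ᵥ a = 0 := by rw [eq_dot, ha2]
  obtain ⟨c, hc0, hc⟩ := lD_scal C (T a (ep F s)) (lD_rows C ha1 ha2 hd).1 (lD_rows C ha1 ha2 hd).2
  set X : SLn.SLg F (s + 2) := T (ep F s) (eq' F s) with hX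
  have hXd : eq' F s ⬝ᵥ ep F s = 0 := by rw [eq_dot, ep_two]
  have hconj : X * T a (ep F s) * X⁻¹ = T a (ep F s - eq' F s) := by
    rw [T_conj _ hd, hX, T_mulVec hXd, hd', zero_smul, add_zero, T_inv hXd,
      vecMul_T (by rw [dotProduct_neg, hXd, neg_zero]), dotProduct_neg, ep_dot, ep_one, neg_one_smul,
      ← sub_eq_add_neg]
  have hXk : ∀ v ∈ Vz ρ ψ₀, ρ (lD g X) v ∈ Vz ρ ψ₀ := fun v hv => lD_keep X (by
    rw [hX, vecMul_T hXd, vecMul_T hXd, ep_dot, ep_one, eq_dot, ep_two, one_smul, zero_smul, add_zero]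
    refine DFunLike.ext _ _ fun S => ?_
    simp only [pr_apply, add_dotProduct, Matrix.mulVec_add, dotProduct_add]
    congr 1
    ring) hv
  have hv' : ∀ v ∈ Vz ρ ψ₀, ρ (lD g X)⁻¹ v ∈ Vz ρ ψ₀ := fun v hv => by
    rw [← map_inv]
    refine lD_keep X⁻¹ ?_ hv
    rw [hX, T_inv hXd, vecMul_T (by rw [dotProduct_neg, hXd, neg_zero]),
      vecMul_T (by rw [dotProduct_neg, hXd, neg_zero]), dotProduct_neg, dotProduct_neg, ep_dot, ep_one,
      eq_dot, ep_two, neg_zero, zero_smul, add_zero, neg_one_smul, ← sub_eq_add_neg]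
    refine DFunLike.ext _ _ fun S => ?_
    simp only [pr_apply, sub_dotProduct, Matrix.mulVec_sub, dotProduct_sub]
    congr 1
    ring
  have h2 : ∀ v ∈ Vz ρ ψ₀, ρ (lD g (T a (ep F s - eq' F s))) v = c • v := fun v hv => by
    rw [← hconj, map_mul (lD (s := s) g), map_mul (lD (s := s) g), map_inv (lD (s := s) g), ← act_mul, ← act_mul, hc _ (hv' v hv), map_smul, act_mul,
      mul_inv_cancel, map_one, Module.End.one_apply]
  have h3 := hc v hv
  rw [show ep F s = eq' F s + (ep F s - eq' F s) by abel,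
    ← lD_T_add C hd' (by rw [sub_dotProduct, hd, hd', sub_zero]), ← act_mul, h2 v hv, map_smul] at h3
  exact smul_right_injective V hc0 h3

/-- The transvections into the first covector act trivially. -/
theorem lD_ep_trivial {a : Fin (s + 2 + 1) → F} (ha1 : a 1 = 0) (ha2 : a 2 = 0) {v : V}
    (hv : v ∈ Vz ρ ψ₀) : ρ (lD g (T a (ep F s))) v = v := by
  have hd : ep F s ⬝ᵥ a = 0 := by rw [ep_dot, ha1]
  have hd' : eq' F s ⬝ᵥ a = 0 := by rw [eq_dot, ha2]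
  set Y : SLn.SLg F (s + 2) := T (eq' F s) (ep F s) with hY
  have hYd : ep F s ⬝ᵥ eq' F s = 0 := by rw [ep_dot, eq_one]
  have hconj : Y * T a (eq' F s) * Y⁻¹ = T a (eq' F s - ep F s) := by
    rw [T_conj _ hd', hY, T_mulVec hYd, hd, zero_smul, add_zero, T_inv hYd,
      vecMul_T (by rw [dotProduct_neg, hYd, neg_zero]), dotProduct_neg, eq_dot, eq_two, neg_one_smul,
      ← sub_eq_add_neg]
  have hYk : ∀ v ∈ Vz ρ ψ₀, ρ (lD g Y)⁻¹ v ∈ Vz ρ ψ₀ := fun v hv => by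
    rw [← map_inv]
    refine lD_keep Y⁻¹ ?_ hv
    rw [hY, T_inv hYd, vecMul_T (by rw [dotProduct_neg, hYd, neg_zero]),
      vecMul_T (by rw [dotProduct_neg, hYd, neg_zero]), dotProduct_neg, dotProduct_neg, ep_dot, eq_one,
      eq_dot, eq_two, neg_zero, zero_smul, add_zero, neg_one_smul, ← sub_eq_add_neg]
    refine DFunLike.ext _ _ fun S => ?_
    simp only [pr_apply, sub_dotProduct, Matrix.mulVec_sub, dotProduct_sub]
    congr 1
    ring
  have h2 : ρ (lD g (T a (eq' F s - ep F s))) v = v := by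
    rw [← hconj, map_mul (lD (s := s) g), map_mul (lD (s := s) g), map_inv (lD (s := s) g), ← act_mul, ← act_mul, lD_eq_trivial C ha1 ha2 (hYk v hv),
      act_mul, mul_inv_cancel, map_one, Module.End.one_apply]
  have h3 := lD_eq_trivial C ha1 ha2 hv
  rw [show eq' F s = ep F s + (eq' F s - ep F s) by abel,
    ← lD_T_add C hd (by rw [sub_dotProduct, hd, hd', sub_zero]), ← act_mul, h2] at h3
  exact h3

end CfsgLib.MinDeg.OrthSiegel
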