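import Cfsg.Agent.Lib.KnownB.MinDeg.OrthSiegel.Inner

/-!
# The Levi transvections orthogonal to the pair act trivially
-/

set_option autoImplicit false
set_option linter.unusedSectionVars false
set_option backward.isDefEq.respectTransparency false
set_option maxHeartbeats 4000000
set_option synthInstance.maxHeartbeats 200000

open Matrix

namespace CfsgLib.MinDeg.OrthSiegel

open QuadraticMap CfsgLib.Orth
open CfsgLib.KnownA.MinIndex (T T_mulVec vecMul_T T_inv T_conj T_mul_right T_mul_left T_smul)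

variable {F : Type*} [Field F] [Fintype F] [DecidableEq F] {s : ℕ}
  {W : Type*} [AddCommGroup W] [Module F W] [Fintype W] {g : QuadraticForm F W}
  {V : Type*} [AddCommGroup V] [Module ℂ V] [FiniteDimensional ℂ V]
  {ρ : Representation ℂ (Om (s + 2 + 1) g) V} {ψ₀ : AddChar F ℂ}

variable (ρ ψ₀) in
/-- Vectors with the symmetry of a sum of translates. -/
structure InW₀ (v : V) : Prop where
  n : ∀ w, ρ (nD g (ep F s) w) v = v
  l : ∀ φ : Fin (s + 2 + 1) → F, φ 1 = 0 → φ 2 = 0 → ρ (lD g (T (ep F s) φ)) v = v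
  z : ∀ b : Fin (s + 2 + 1) → F, b 1 = 0 → b 2 = 0 → ρ (zD g (vecMulVec (ep F s) b)) v = v
  zq : ∀ t : F, ρ (zD g (t • vecMulVec (ep F s) (eq' F s))) v = ψ₀ t • v

theorem proj_weight_apply {v : V} (χ : AddChar (Matrix (Fin (s + 2 + 1)) (Fin (s + 2 + 1)) F) ℂ)
    (S : Matrix (Fin (s + 2 + 1)) (Fin (s + 2 + 1)) F) (c : ℂ) (h : ρ (zD g S) v = c • v) :
    χ S • SLn.proj ρ (zD g) χ v = c • SLn.proj ρ (zD g) χ v := by
  rw [← zD_on (SLn.proj_mem zD_add χ v) S,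
    SLn.proj_comm (ρ := ρ) (u := zD g) (χ := χ) (χ' := χ) (AddEquiv.refl _)
      (fun S' => by
        show zD g S * zD g S' = zD g S' * zD g S
        rw [← zD_add, ← zD_add]
        exact congrArg _ (add_comm S S')) (fun _ => rfl) v, h, map_smul]

theorem InW₀.eq_zero (hψ : ψ₀ ≠ 0)
    (hdec : ∀ χ : AddChar (Matrix (Fin (s + 2 + 1)) (Fin (s + 2 + 1)) F) ℂ, χ ≠ 0 →
      weightSpace ρ (zD g) χ ≠ ⊥ → χ ∈ dec ψ₀ (s + 2))
    {v : V} (hv : InW₀ ρ ψ₀ v) (h0 : SLn.proj ρ (zD g) (zχ ψ₀ s) v = 0) : v = 0 := by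
  rw [← SLn.sum_proj (ρ := ρ) (u := zD g) zD_add v]
  refine Finset.sum_eq_zero fun χ _ => ?_
  by_contra hne
  have hmem := SLn.proj_mem (ρ := ρ) (u := zD g) zD_add χ v
  have hzq : ∀ t : F, χ (t • vecMulVec (ep F s) (eq' F s)) = ψ₀ t := fun t =>
    smul_left_injective ℂ hne (proj_weight_apply χ _ _ (hv.zq t))
  have hχ0 : χ ≠ 0 := by
    intro h
    obtain ⟨x, hx⟩ := AddChar.ne_zero_iff.1 hψ
    exact hx (by rw [← hzq x, h, AddChar.zero_apply])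
  obtain ⟨a, b, hab, rfl⟩ := mem_dec.1 (hdec χ hχ0 fun h => hne (by rwa [h, Submodule.mem_bot] at hmem))
  have hz : ∀ c : Fin (s + 2 + 1) → F, c 1 = 0 → c 2 = 0 →
      pr ψ₀ a b (vecMulVec (ep F s) c) = 1 := fun c h1 h2 =>
    smul_left_injective ℂ hne (proj_weight_apply _ _ 1 (by rw [hv.z c h1 h2, one_smul]))
  have hω : a 1 * b 2 - b 1 * a 2 = 1 := by
    refine sub_eq_zero.1 (eq_zero_of_char hψ fun t => ?_)
    have h1 := hzq t
    rw [pr_vmv, dot_ep, dot_eq, dot_ep, dot_eq] at h1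
    rw [mul_sub, mul_one, AddChar.map_sub_eq_div, h1, div_self (addChar_ne_zero _ _)]
  have hrow : ∀ j, j ≠ 1 → j ≠ 2 → a 1 * b j - b 1 * a j = 0 := by
    intro j hj1 hj2
    refine eq_zero_of_char hψ fun t => ?_
    have h1 := hz (Pi.single j t) (by simp [Ne.symm hj1]) (by simp [Ne.symm hj2])
    rw [← one_smul F (vecMulVec _ _), pr_vmv, dot_ep, dot_ep, dotProduct_single, dotProduct_single] at h1
    rw [← h1]
    congr 1
    ring
  have hB : a 1 • b - b 1 • a = eq' F s := by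
    funext j
    simp only [Pi.sub_apply, Pi.smul_apply, smul_eq_mul]
    by_cases hj1 : j = 1
    · subst hj1; rw [eq_one]; ring
    by_cases hj2 : j = 2
    · subst hj2; rw [eq_two]; exact hω
    rw [hrow j hj1 hj2, eq', Pi.single_eq_of_ne hj2]
  set A := b 2 • a - a 2 • b with hA
  have hA1 : A 1 = 1 := by simp [hA]; linear_combination hω
  have hA2 : A 2 = 0 := by simp [hA]; ring
  have hpr : pr ψ₀ A (eq' F s) = pr ψ₀ a b := DFunLike.ext _ _ fun S => by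
    rw [← hB, hA, pr_apply, pr_apply]
    congr 1
    simp only [sub_dotProduct, smul_dotProduct, Matrix.mulVec_sub, Matrix.mulVec_smul, dotProduct_sub,
      dotProduct_smul, smul_eq_mul]
    linear_combination (a ⬝ᵥ S *ᵥ b - b ⬝ᵥ S *ᵥ a) * hω
  set φ := ep F s - A with hφ
  have hφ1 : φ 1 = 0 := by simp [hφ, hA1]
  have hφ2 : φ 2 = 0 := by simp [hφ, hA2]
  have hd : φ ⬝ᵥ ep F s = 0 := by rw [dot_ep, hφ1]
  have hmap : ∀ S, pr ψ₀ A (eq' F s) (cong (T (ep F s) φ) S) = zχ ψ₀ s S := fun S => by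
    rw [pr_cong, vecMul_T hd, vecMul_T hd, dot_ep, hA1, one_smul, eq_dot, ep_two, zero_smul, add_zero,
      hφ, add_sub_cancel]
  have hc := SLn.proj_comm (ρ := ρ) (u := zD g) (χ := zχ ψ₀ s) (χ' := pr ψ₀ A (eq' F s))
    (congE (T (ep F s) φ)) (fun S => lD_zD S (T (ep F s) φ)) hmap v
  rw [h0, map_zero, hv.l φ hφ1 hφ2, hpr] at hc
  exact hne hc.symm

variable (C : Ctx ρ ψ₀)
include C

/-- The translates of the line. -/
theorem translate_weight {v₀ : V} (hv₀ : v₀ ∈ Vz ρ ψ₀) {φ : Fin (s + 2 + 1) → F}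
    (hφ1 : φ 1 = 0) :
    ρ (lD g (T (ep F s) φ)) v₀ ∈ weightSpace ρ (zD g) (pr ψ₀ (ep F s - φ) (eq' F s)) := by
  have hd : φ ⬝ᵥ ep F s = 0 := by rw [dot_ep, hφ1]
  refine lD_map _ (fun S => ?_) hv₀
  rw [pr_cong, vecMul_T hd, vecMul_T hd, sub_dotProduct, dot_ep, ep_one, dot_ep, hφ1, sub_zero,
    one_smul, sub_add_cancel, eq_dot, ep_two, zero_smul, add_zero]

theorem exists_w0 : ∃ v₁, InW₀ ρ ψ₀ v₁ ∧ SLn.proj ρ (zD g) (zχ ψ₀ s) v₁ ≠ 0 := by
  classical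
  obtain ⟨v₀, hv₀, h0, -⟩ := exists_v0 C
  let P := Finset.univ.filter fun φ : Fin (s + 2 + 1) → F => φ 1 = 0 ∧ φ 2 = 0
  have hP : ∀ {φ}, φ ∈ P ↔ φ 1 = 0 ∧ φ 2 = 0 := fun {φ} => by simp [P]
  have hd : ∀ {φ : Fin (s + 2 + 1) → F}, φ 1 = 0 → φ ⬝ᵥ ep F s = 0 := fun h => by rw [dot_ep, h]
  refine ⟨∑ φ ∈ P, ρ (lD g (T (ep F s) φ)) v₀, ⟨fun w => ?_, fun φ₀ h1 h2 => ?_, fun b hb1 hb2 => ?_, fun t => ?_⟩, ?_⟩
  · rw [map_sum]
    refine Finset.sum_congr rfl fun φ hφ => ?_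
    have e : lD g (T (ep F s) φ) * nD g (ep F s) w = nD g (ep F s) w * lD g (T (ep F s) φ) := by
      rw [lD_nD, SLn.ac, T_mulVec (hd (hP.1 hφ).1), hd (hP.1 hφ).1, zero_smul, add_zero]
    rw [act_mul, ← e, ← act_mul, mem_weightSpace.1 hv₀.2 w, AddChar.zero_apply, one_smul]
  · rw [map_sum]
    refine Finset.sum_equiv (Equiv.addLeft φ₀) (fun φ => ?_) fun φ hφ => ?_
    · simp [hP, h1, h2]
    · rw [act_mul, lD_T_add C (hd h1) (hd (hP.1 hφ).1)]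
      rfl
  · rw [map_sum]
    refine Finset.sum_congr rfl fun φ hφ => ?_
    rw [zD_on (translate_weight C hv₀.1 (hP.1 hφ).1), ← one_smul F (vecMulVec _ _), pr_vmv]
    simp [sub_dotProduct, hb1, hb2, (hP.1 hφ).1, ne12, ne12.symm]
  · rw [map_sum, Finset.smul_sum]
    refine Finset.sum_congr rfl fun φ hφ => ?_
    rw [zD_on (translate_weight C hv₀.1 (hP.1 hφ).1), pr_vmv, sub_dotProduct, sub_dotProduct, eq_dot,
      eq_dot, dot_ep, dot_ep, ep_dot, ep_one, ep_two, eq_two, (hP.1 hφ).1]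
    simp
  · rw [map_sum, Finset.sum_eq_single (0 : Fin (s + 2 + 1) → F) (fun φ hφ hne => ?_)
      (fun h => absurd (hP.2 ⟨rfl, rfl⟩) h), CfsgLib.KnownA.MinIndex.T_zero_right, map_one, map_one,
      Module.End.one_apply, SLn.proj_of_mem hv₀.1, if_pos rfl]
    · exact h0
    · rw [SLn.proj_of_mem (translate_weight C hv₀.1 (hP.1 hφ).1), if_neg]
      intro h
      refine hne (funext fun j => ?_)
      by_cases hj1 : j = 1
      · subst hj1; exact (hP.1 hφ).1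
      by_cases hj2 : j = 2
      · subst hj2; exact (hP.1 hφ).2
      refine eq_zero_of_char C.hψ fun t => ?_
      have h1 := DFunLike.congr_fun h ((-t) • vecMulVec (Pi.single j 1) (eq' F s))
      rw [pr_vmv, zχ_vmv] at h1
      simp [hj1, hj2, Ne.symm hj1, Ne.symm hj2, (hP.1 hφ).1, sub_dotProduct] at h1
      exact h1

theorem w0_line {v₁ v : V} (h1 : InW₀ ρ ψ₀ v₁) (hne : SLn.proj ρ (zD g) (zχ ψ₀ s) v₁ ≠ 0)
    (hv : InW₀ ρ ψ₀ v) : ∃ c : ℂ, v = c • v₁ := by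
  obtain ⟨v₀, hv₀, h0, hall⟩ := exists_v0 C
  have hmem : ∀ {x}, InW₀ ρ ψ₀ x → SLn.proj ρ (zD g) (zχ ψ₀ s) x ∈ Lz ρ ψ₀ := fun {x} hx =>
    ⟨SLn.proj_mem zD_add _ _, fun w => by
      rw [SLn.proj_comm (ρ := ρ) (u := zD g) (χ := zχ ψ₀ s) (χ' := zχ ψ₀ s) (AddEquiv.refl _)
        (fun S => (zD_nD (ep F s) w S).symm) (fun _ => rfl) x, hx.n w]
      simp⟩
  obtain ⟨a, ha⟩ := hall _ (hmem h1)
  obtain ⟨b, hb⟩ := hall _ (hmem hv)
  have ha0 : a ≠ 0 := fun h => hne (by rw [ha, h, zero_smul])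
  refine ⟨b / a, sub_eq_zero.1 (InW₀.eq_zero (v := v - (b / a) • v₁) C.hψ C.dec_of
    ⟨fun w => ?_, fun φ p q => ?_, fun c p q => ?_, fun t => ?_⟩ ?_)⟩
  · rw [map_sub, map_smul, hv.n, h1.n]
  · rw [map_sub, map_smul, hv.l φ p q, h1.l φ p q]
  · rw [map_sub, map_smul, hv.z c p q, h1.z c p q]
  · rw [map_sub, map_smul, hv.zq, h1.zq, smul_sub, smul_comm]
  · rw [map_sub, map_smul, ha, hb, smul_smul, div_mul_cancel₀ _ ha0, sub_self]

theorem w0_n0 {v : V} (hv : InW₀ ρ ψ₀ v) (w : W) : InW₀ ρ ψ₀ (ρ (nD g (e₀ F s) w) v) := by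
  have hswap : ∀ c : F, ρ (zD g (c • vecMulVec (e₀ F s) (ep F s))) v = v := fun c => by
    rw [← Matrix.smul_vecMulVec, zD_swap, Matrix.neg_vecMulVec, ← Matrix.vecMulVec_neg]
    exact hv.z _ (by simp) (by simp)
  refine ⟨fun w' => ?_, fun φ h1 h2 => ?_, fun b h1 h2 => ?_, fun t => ?_⟩
  · rw [act_mul, nD_mul, ← act_mul, ← act_mul, hv.n w', act_mul, zD_nD, ← act_mul, hswap]
  · have hd : φ ⬝ᵥ ep F s = 0 := by rw [dot_ep, h1]
    rw [act_mul, lD_nD, SLn.ac, T_mulVec hd, nD_add_left, Matrix.vecMulVec_smul, smul_smul, nD_smul]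
    simp only [← act_mul]
    rw [hv.l φ h1 h2, hv.n, act_mul, zD_nD, ← act_mul, hswap]
  · rw [act_mul, zD_nD, ← act_mul, hv.z b h1 h2]
  · rw [act_mul, zD_nD, ← act_mul, hv.zq, map_smul]

theorem w0_m {v : V} (hv : InW₀ ρ ψ₀ v) {φ : Fin (s + 2 + 1) → F} (hφ1 : φ 1 = 0) (hφ2 : φ 2 = 0)
    (w : W) : InW₀ ρ ψ₀ (ρ (mD g φ w) v) := by
  have hd : φ ⬝ᵥ ep F s = 0 := by rw [dot_ep, hφ1]
  have hL : ∀ φ' : Fin (s + 2 + 1) → F, φ' 1 = 0 → φ' 2 = 0 →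
      ρ (lD g (T (ep F s) φ')) (ρ (mD g φ w) v) = ρ (mD g φ w) v := by
    intro φ' h1 h2
    rw [act_mul, lD_mD w (T (ep F s) φ') (by rw [vecMul_T (by rw [dot_ep, h1]), hd, zero_smul, add_zero]),
      ← act_mul, hv.l φ' h1 h2]
  have hn : ∀ w', ρ (nD g (ep F s) w') (ρ (mD g φ w) v) = ρ (mD g φ w) v := by
    intro w'
    rw [act_mul, nD_mD (h := hd), ← act_mul, ← act_mul, hv.n, T_smul hd]
    exact hL _ (by simp [hφ1]) (by simp [hφ2])
  refine ⟨hn, hL, fun b h1 h2 => ?_, fun t => ?_⟩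
  · by_cases hb : b ⬝ᵥ φ = 0
    · rw [act_mul, zD_mD_comm w _ _ (by rw [dotProduct_comm, hd]) hb, ← act_mul, hv.z b h1 h2]
    · have e : vecMulVec (ep F s) b =
          vecMulVec ((b ⬝ᵥ φ) • ep F s) ((b ⬝ᵥ φ)⁻¹ • b) := by
        rw [Matrix.smul_vecMulVec, Matrix.vecMulVec_smul, smul_smul, mul_inv_cancel₀ hb, one_smul]
      have hz := hv.z b h1 h2
      rw [e] at hz ⊢
      rw [act_mul, zD_mD w (by simp [hφ1])
        (by rw [smul_dotProduct, smul_eq_mul, inv_mul_cancel₀ hb])]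
      simp only [← act_mul]
      rw [hz, smul_smul, T_smul hd, hL _ (by simp [hφ1]) (by simp [hφ2]), nD_smul, hn]
  · rw [← Matrix.smul_vecMulVec, act_mul,
      zD_mD_comm w _ _ (by rw [smul_dotProduct, dotProduct_comm, hd, smul_zero]) (by rw [eq_dot, hφ2]),
      ← act_mul, Matrix.smul_vecMulVec, hv.zq, map_smul]

/-- The transvections orthogonal to the pair act trivially on the weight space. -/
theorem lD_e0_trivial {φ : Fin (s + 2 + 1) → F} (hφ0 : φ 0 = 0) (hφ1 : φ 1 = 0) (hφ2 : φ 2 = 0)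
    {v : V} (hv : v ∈ Vz ρ ψ₀) : ρ (lD g (T (e₀ F s) φ)) v = v := by
  obtain ⟨v₁, h1, hne⟩ := exists_w0 C
  have hd : φ ⬝ᵥ e₀ F s = 0 := by simp [hφ0]
  obtain ⟨w1, hw1⟩ := C.surj 1
  obtain ⟨w, w', hww⟩ : ∃ w w', polar g w w' = -1 := by
    have hw0 : w1 ≠ 0 := fun h => one_ne_zero (by rw [← hw1, h, map_zero])
    obtain ⟨z, hz⟩ : ∃ z, polar g w1 z ≠ 0 := by
      by_contra hall
      push Not at hall
      exact hw0 (C.hg.1 w1 hall)
    exact ⟨w1, (-(polar g w1 z)⁻¹) • z, by rw [polar_smul_r', neg_mul, inv_mul_cancel₀ hz]⟩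
  obtain ⟨α, hα⟩ := w0_line C h1 hne (w0_n0 C h1 w)
  obtain ⟨β, hβ⟩ := w0_line C h1 hne (w0_m C h1 hφ1 hφ2 w')
  have key : ρ (lD g (T (e₀ F s) φ)) v₁ = v₁ := by
    have e := congrArg (fun x => ρ x v₁) (nD_mD (g := g) w' w (u := e₀ F s) (v := φ) hd)
    simp only [← act_mul, hα, hβ, map_smul, smul_smul, hww, neg_neg, one_smul] at e
    have hα0 : α ≠ 0 := fun h => hne (by
      rw [act_cancel (nD g (e₀ F s) w) (v := v₁) (w := 0) (by rw [hα, h, zero_smul, map_zero]), map_zero])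
    have hβ0 : β ≠ 0 := fun h => hne (by
      rw [act_cancel (mD g φ w') (v := v₁) (w := 0) (by rw [hβ, h, zero_smul, map_zero]), map_zero])
    rw [mul_comm β α] at e
    exact (smul_right_injective V (mul_ne_zero hα0 hβ0) e).symm
  obtain ⟨r1, r2⟩ := lD_rows C e0_one e0_two hd
  obtain ⟨c, hc0, hc⟩ := lD_scal C (T (e₀ F s) φ) r1 r2
  have h := SLn.proj_comm (ρ := ρ) (u := zD g) (χ := zχ ψ₀ s) (χ' := zχ ψ₀ s) (congE (T (e₀ F s) φ))
    (fun S => lD_zD S (T (e₀ F s) φ)) (fun S => by rw [congE_apply, pr_cong, r1, r2]) v₁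
  rw [key, hc _ (SLn.proj_mem zD_add _ _)] at h
  rw [hc v hv, smul_left_injective ℂ hne (h.trans (one_smul ℂ _).symm), one_smul]

end CfsgLib.MinDeg.OrthSiegel
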