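import Cfsg.Agent.Lib.KnownB.MinDeg.SLn.Top

/-!
# Representations of `SL n` with a vector fixed by the point radical
-/

set_option autoImplicit false
set_option linter.unusedSectionVars false
set_option backward.isDefEq.respectTransparency false

open Matrix

namespace CfsgLib.MinDeg.SLn

universe v

variable {F : Type*} [Field F] [Fintype F] [DecidableEq F]
  {V : Type v} [AddCommGroup V] [Module ℂ V] [FiniteDimensional ℂ V] {s : ℕ}

local notation "qq" => Fintype.card F

/-- Without invariant vectors, a vector fixed by the point radical gives the bound for every field. -/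
theorem fixQ_bound (π : Representation ℂ (SLg F (s + 2)) V)
    (hfix : ∀ w, (∀ g, π g w = w) → w = 0) (hne : fixQ π ≠ ⊥) :
    (qq : ℝ) ^ (s + 3) - qq ≤ (Module.finrank ℂ V : ℝ) * ((qq : ℝ) - 1) := by
  classical
  obtain ⟨w₀, hw₀, hw₀0⟩ := Submodule.exists_mem_ne_zero_of_ne_bot hne
  have : Nontrivial V := ⟨⟨w₀, 0, hw₀0⟩⟩
  by_contra hlt
  push Not at hlt
  have hq2 : (2 : ℝ) ≤ qq := by exact_mod_cast Fintype.one_lt_card (α := F)
  have hle : DimLe π := by
    obtain ⟨d, hd⟩ := exists_uniform π (MonoidHom.id _) (sl_transitive (by omega) π)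
    intro χ hχ
    by_contra h2
    have hd' : Module.finrank ℂ (weightSpace π u χ) = d := hd χ hχ
    have h := finrank_eq_of_uniform (ρ := π) u_add hd
    rw [Fintype.card_fun, Fintype.card_fin] at h
    have h3 : 2 * (qq ^ (s + 2) - 1) ≤ Module.finrank ℂ V := by
      rw [h]
      exact (Nat.mul_le_mul_right _ (show 2 ≤ d by omega)).trans (Nat.le_add_left _ _)
    have h4 : (2 : ℝ) * ((qq : ℝ) ^ (s + 2) - 1) ≤ Module.finrank ℂ V := by
      have := (Nat.cast_le (α := ℝ)).2 h3
      rwa [Nat.cast_mul, Nat.cast_sub (Nat.one_le_pow _ _ Fintype.card_pos), Nat.cast_pow, Nat.cast_one,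
        Nat.cast_ofNat] at this
    have hN1 : 0 ≤ (qq : ℝ) ^ (s + 2) - 1 := by
      linarith [one_le_pow₀ (show (1 : ℝ) ≤ qq by linarith) (n := s + 2)]
    rw [pow_succ' (qq : ℝ) (s + 2)] at hlt
    nlinarith [mul_le_mul_of_nonneg_right h4 (show (0 : ℝ) ≤ (qq : ℝ) - 1 by linarith)]
  have hirr : NoProper π := noProper_of_weights (by omega) π (MonoidHom.id _) hle
    (sl_transitive (by omega) π) hfix
  by_cases hM : ∃ e, MFix π e ∧ e ≠ 0
  · obtain ⟨e, he, he0⟩ := hM
    exact absurd (mfix_bound hirr hfix he he0) hlt.not_ge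
  push Not at hM
  obtain ⟨I⟩ := exists_invForm π
  have hMs := exists_mfix (s + 1) (by omega) _ (sig π) (dimLe_sig hle) (sigQ_ne_bot hle hM I hne)
  obtain ⟨D⟩ := exists_flag I hMs
  by_cases hψ : D.ψ = 1
  · exact D.star_false hle hM hψ
  · exact hlt.ne (D.orth_dim hle hM hψ)

/-- A vector fixed by the point radical but not invariant gives the bound. -/
theorem fixQ_bound_of_not_fixed (π : Representation ℂ (SLg F (s + 2)) V) {w : V}
    (hw : w ∈ fixQ π) {g₀ : SLg F (s + 2)} (hg₀ : π g₀ w ≠ w) :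
    (qq : ℝ) ^ (s + 3) - qq ≤ (Module.finrank ℂ V : ℝ) * ((qq : ℝ) - 1) := by
  classical
  let A : Module.End ℂ V := (Fintype.card (SLg F (s + 2)) : ℂ)⁻¹ • ∑ g, π g
  have hA : ∀ v, A v = (Fintype.card (SLg F (s + 2)) : ℂ)⁻¹ • ∑ g, π g v := fun v => by simp [A]
  have hinv : ∀ g v, π g (A v) = A v := fun g v => by
    rw [hA, map_smul, map_sum]
    congr 1
    refine Fintype.sum_equiv (Equiv.mulLeft g) _ _ fun k => ?_
    rw [Equiv.coe_mulLeft, map_mul, Module.End.mul_apply]
  have hcomm : ∀ g v, A (π g v) = A v := fun g v => by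
    rw [hA, hA]
    congr 1
    refine Fintype.sum_equiv (Equiv.mulRight g) _ _ fun k => ?_
    rw [Equiv.coe_mulRight, map_mul, Module.End.mul_apply]
  have hW : ∀ g, ∀ v ∈ LinearMap.ker A, π g v ∈ LinearMap.ker A := fun g v hv => by
    rw [LinearMap.mem_ker] at hv ⊢
    rw [hcomm, hv]
  have hfixA : ∀ v, (∀ g, π g v = v) → A v = v := fun v hv => by
    rw [hA]
    simp only [hv, Finset.sum_const, Finset.card_univ, ← Nat.cast_smul_eq_nsmul ℂ]
    rw [inv_smul_smul₀ (Nat.cast_ne_zero.2 Fintype.card_ne_zero)]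
  have hw' : w - A w ∈ LinearMap.ker A := by
    rw [LinearMap.mem_ker, map_sub, hfixA (A w) (fun g => hinv g w), sub_self]
  let π' := resRep (ρ := π) (LinearMap.ker A) hW
  have hne : fixQ π' ≠ ⊥ := by
    refine fun h => hg₀ ?_
    have hm : (⟨w - A w, hw'⟩ : LinearMap.ker A) ∈ fixQ π' := mem_fixQ.2 fun a => Subtype.ext (by
      rw [resRep_coe]
      show π (u a) (w - A w) = w - A w
      rw [map_sub, mem_fixQ.1 hw a, hinv])
    rw [h, Submodule.mem_bot] at hm
    have e : w = A w := sub_eq_zero.1 (congrArg Subtype.val hm)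
    rw [e, hinv]
  have hfix : ∀ v, (∀ g, π' g v = v) → v = 0 := fun v hv => Subtype.ext (by
    rw [← hfixA v.1 fun g => by rw [← resRep_coe (ρ := π) (LinearMap.ker A) hW g v]; exact congrArg Subtype.val (hv g)]
    exact LinearMap.mem_ker.1 v.2)
  refine (fixQ_bound π' hfix hne).trans (mul_le_mul_of_nonneg_right ?_ ?_)
  · exact_mod_cast Submodule.finrank_le _
  · have : (1 : ℝ) ≤ qq := by exact_mod_cast Fintype.card_pos (α := F)
    linarith

end CfsgLib.MinDeg.SLn
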