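import Cfsg.Agent.Lib.KnownB.MinDeg.OrthSiegel.Fixed
import Cfsg.Agent.Lib.KnownB.MinDeg.OrthSiegel.SLBound

/-!
# The degree bound for a two-dimensional anisotropic part
-/

set_option autoImplicit false
set_option linter.unusedSectionVars false
set_option backward.isDefEq.respectTransparency false
set_option maxHeartbeats 4000000
set_option synthInstance.maxHeartbeats 200000

open Matrix

namespace CfsgLib.MinDeg.OrthSiegel

open QuadraticMap CfsgLib.Orth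
open CfsgLib.KnownA.MinIndex (T T_mulVec vecMul_T T_inv T_conj T_mul_right T_mul_left T_smul)

variable {F : Type*} [Field F] [Fintype F] [DecidableEq F] {s : ℕ}
  {W : Type*} [AddCommGroup W] [Module F W] [Fintype W] {g : QuadraticForm F W}
  {V : Type*} [AddCommGroup V] [Module ℂ V] [FiniteDimensional ℂ V]
  {ρ : Representation ℂ (Om (s + 2 + 1) g) V} {ψ₀ : AddChar F ℂ}

theorem char_symm {χ : AddChar (Matrix (Fin (s + 2 + 1)) (Fin (s + 2 + 1)) F) ℂ}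
    (h : weightSpace ρ (zD g) χ ≠ ⊥) {S : Matrix (Fin (s + 2 + 1)) (Fin (s + 2 + 1)) F} (hS : Sᵀ = S) :
    χ S = 1 := by
  obtain ⟨v, hv, hv0⟩ := Submodule.exists_mem_ne_zero_of_ne_bot h
  have e := zD_on hv S
  rw [zD_symm S hS, map_one, Module.End.one_apply] at e
  exact smul_left_injective ℂ hv0 (e.symm.trans (one_smul ℂ v).symm)

/-- Conjugation does not lower the multiplicity. -/
theorem finrank_ws_le {χ χ' : AddChar (Matrix (Fin (s + 2 + 1)) (Fin (s + 2 + 1)) F) ℂ}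
    (A : SLn.SLg F (s + 2)) (h : ∀ S, χ' (cong A S) = χ S) :
    Module.finrank ℂ (weightSpace ρ (zD g) χ) ≤ Module.finrank ℂ (weightSpace ρ (zD g) χ') :=
  SLn.finrank_weight_le (congE A) (fun S => lD_zD S A) h

theorem finrank_rank_four (hψ : ψ₀ ≠ 0) (hg : (QuadraticMap.polarBilin g).Nondegenerate)
    {χ : AddChar (Matrix (Fin (s + 2 + 1)) (Fin (s + 2 + 1)) F) ℂ}
    (hne : weightSpace ρ (zD g) χ ≠ ⊥)
    {B : Matrix (Fin (s + 2 + 1)) (Fin (s + 2 + 1)) F} {u v u' v' : Fin (s + 2 + 1) → F}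
    (hv : ∀ (t : F) x y, χ (t • vecMulVec x y) = ψ₀ (t * (x ⬝ᵥ B *ᵥ y)))
    (hsk : ∀ x y, x ⬝ᵥ B *ᵥ y + y ⬝ᵥ B *ᵥ x = 0) (halt : ∀ x, x ⬝ᵥ B *ᵥ x = 0)
    (huv : u ⬝ᵥ B *ᵥ v = 1) (huv' : u' ⬝ᵥ B *ᵥ v' = 1) (h1 : u ⬝ᵥ B *ᵥ u' = 0)
    (h2 : u ⬝ᵥ B *ᵥ v' = 0) :
    (Fintype.card F ^ (s + 1)) ^ 2 * Fintype.card W ^ 2 ≤ Module.finrank ℂ V := by
  classical
  have hvu : v ⬝ᵥ B *ᵥ u = -1 := by linear_combination hsk u v - huv
  have hvu' : v' ⬝ᵥ B *ᵥ u' = -1 := by linear_combination hsk u' v' - huv'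
  obtain ⟨D1, -⟩ := exists_shift (ρ := ρ) hψ hg χ u v (fun t => by rw [hv, hvu]; ring_nf) _ le_rfl
    (fun w _ hx => nD_keep _ w hx) (fun w _ hx => nD_keep _ w hx)
  set L := weightSpace ρ (zD g) χ ⊓ weightSpace ρ (nD g u) (0 : AddChar W ℂ) with hL
  have hkeep : ∀ {x : Fin (s + 2 + 1) → F}, u ⬝ᵥ B *ᵥ x = 0 → ∀ w, ∀ z ∈ L, ρ (nD g x w) z ∈ L := by
    intro x hx w z hz
    refine ⟨nD_keep _ w hz.1, fun a => ?_⟩
    rw [act_mul, nD_mul, ← act_mul, ← act_mul, mem_weightSpace.1 hz.2 a, map_smul, map_smul,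
      zD_on (nD_keep _ w hz.1), hv, show x ⬝ᵥ B *ᵥ u = 0 by linear_combination hsk u x - hx, mul_zero,
      AddChar.map_zero_eq_one, one_smul]
  obtain ⟨D2, -⟩ := exists_shift (ρ := ρ) hψ hg χ u' v' (fun t => by rw [hv, hvu']; ring_nf) L inf_le_left
    (hkeep h1) (hkeep h2)
  have hLne : L ≠ ⊥ := D1.ne_bot hne
  have hlow : Fintype.card W ^ 2 ≤ Module.finrank ℂ (weightSpace ρ (zD g) χ) := by
    refine le_trans ?_ D1.card_le
    rw [AddChar.card_eq, _root_.sq]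
    refine Nat.mul_le_mul_left _ (le_trans ?_ D2.card_le)
    rw [AddChar.card_eq]
    exact Nat.le_mul_of_pos_right _ (Nat.pos_of_ne_zero fun h => D2.ne_bot hLne (Submodule.finrank_eq_zero.1 h))
  let P := Finset.univ.filter fun φ : Fin (s + 2 + 1) → F => φ ⬝ᵥ u = 0 ∧ φ ⬝ᵥ v = 0
  have hP : Fintype.card F ^ (s + 1) ≤ P.card := by
    have h := card_orth (F := F) (r := s + 2) u v
    rwa [Nat.card_eq_fintype_card, Fintype.card_subtype] at h
  let A : (Fin (s + 2 + 1) → F) × (Fin (s + 2 + 1) → F) → SLn.SLg F (s + 2) :=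
    fun φ => T u φ.1 * T v φ.2
  let Φ := fun φ : (Fin (s + 2 + 1) → F) × (Fin (s + 2 + 1) → F) =>
    χ.compAddMonoidHom (congE (A φ)).toAddMonoidHom
  have hΦ : ∀ φ S, Φ φ S = χ (cong (A φ) S) := fun _ _ => rfl
  have hac : ∀ φ ∈ P ×ˢ P, ∀ x, SLn.ac (A φ) x = x + (φ.2 ⬝ᵥ x) • v + (φ.1 ⬝ᵥ x) • u := by
    intro φ hφ x
    simp only [Finset.mem_product, P, Finset.mem_filter, Finset.mem_univ, true_and] at hφ
    rw [SLn.ac_mul, SLn.ac, SLn.ac, T_mulVec hφ.2.2, T_mulVec hφ.1.1, dotProduct_add, dotProduct_smul,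
      hφ.1.2, smul_zero, add_zero]
  have hΦv : ∀ φ ∈ P ×ˢ P, ∀ (t : F) (y x : Fin (s + 2 + 1) → F), Φ φ (t • vecMulVec y x) =
      ψ₀ (t * (SLn.ac (A φ) y ⬝ᵥ B *ᵥ SLn.ac (A φ) x)) := by
    intro φ _ t y x
    rw [hΦ, ← hv, ← Matrix.smul_vecMulVec, cong_vmv, SLn.ac_smul, Matrix.smul_vecMulVec]
  have hinj : Set.InjOn Φ ↑(P ×ˢ P) := by
    intro φ hφ φ' hφ' h
    have hu : ∀ ψ ∈ P ×ˢ P, SLn.ac (A ψ) u = u ∧ SLn.ac (A ψ) v = v := fun ψ hψ' => by
      have hψ'' := hψ'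
      simp only [Finset.mem_product, P, Finset.mem_filter, Finset.mem_univ, true_and] at hψ''
      rw [hac ψ hψ', hac ψ hψ', hψ''.1.1, hψ''.1.2, hψ''.2.1, hψ''.2.2]
      simp
    have e : ∀ y x : Fin (s + 2 + 1) → F, SLn.ac (A φ) y ⬝ᵥ B *ᵥ SLn.ac (A φ) x =
        SLn.ac (A φ') y ⬝ᵥ B *ᵥ SLn.ac (A φ') x := fun y x => by
      refine sub_eq_zero.1 (eq_zero_of_char hψ fun t => ?_)
      rw [mul_sub, AddChar.map_sub_eq_div, ← hΦv φ hφ, ← hΦv φ' hφ', h, div_self (addChar_ne_zero _ _)]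
    refine Prod.ext (funext fun i => ?_) (funext fun i => ?_)
    · have h' := e v (Pi.single i 1)
      rw [(hu φ hφ).2, (hu φ' hφ').2, hac φ hφ, hac φ' hφ'] at h'
      simp only [Matrix.mulVec_add, Matrix.mulVec_smul, dotProduct_add, dotProduct_smul, halt, hvu,
        smul_eq_mul, dotProduct_single, mul_one, mul_zero, add_zero] at h'
      linear_combination -h'
    · have h' := e u (Pi.single i 1)
      rw [(hu φ hφ).1, (hu φ' hφ').1, hac φ hφ, hac φ' hφ'] at h'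
      simp only [Matrix.mulVec_add, Matrix.mulVec_smul, dotProduct_add, dotProduct_smul, halt, huv,
        smul_eq_mul, dotProduct_single, mul_one, mul_zero, add_zero] at h'
      linear_combination h'
  calc (Fintype.card F ^ (s + 1)) ^ 2 * Fintype.card W ^ 2
      ≤ (P ×ˢ P).card * Fintype.card W ^ 2 := by
        refine Nat.mul_le_mul_right _ ?_
        rw [Finset.card_product, ← _root_.sq]
        exact Nat.pow_le_pow_left hP 2
    _ = ∑ χ' ∈ (P ×ˢ P).image Φ, Fintype.card W ^ 2 := by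
        rw [Finset.sum_const, Finset.card_image_of_injOn hinj, smul_eq_mul]
    _ ≤ ∑ χ' ∈ (P ×ˢ P).image Φ, Module.finrank ℂ (weightSpace ρ (zD g) χ') := by
        refine Finset.sum_le_sum fun χ' hχ' => hlow.trans ?_
        obtain ⟨φ, -, rfl⟩ := Finset.mem_image.1 hχ'
        refine finrank_ws_le (A φ)⁻¹ fun S => ?_
        rw [hΦ]
        exact congrArg χ ((congE (A φ)).apply_symm_apply S)
    _ ≤ _ := sum_weights_le ρ _

theorem pr_carry (hr : 2 ≤ s + 2) {a b a' b' : Fin (s + 2 + 1) → F} (h : LinearIndependent F ![a, b])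
    (h' : LinearIndependent F ![a', b']) :
    ∃ A : SLn.SLg F (s + 2), ∀ S, pr ψ₀ a b (cong A S) = pr ψ₀ a' b' S := by
  obtain ⟨M, hM⟩ := SLn.exists_sl_map_exact ![a, b] h (by omega)
  obtain ⟨M', hM'⟩ := SLn.exists_sl_map_exact ![a', b'] h' (by omega)
  have key : ∀ (i : Fin 2) (hi : i.val < s + 2 + 1), SLn.ac (M' * M⁻¹) (![a, b] i) = ![a', b'] i :=
    fun i hi => by rw [← hM i hi, SLn.ac_mul, SLn.ac_inv_ac, hM' i hi]
  refine ⟨Matrix.SpecialLinearGroup.transpose (M' * M⁻¹), fun S => ?_⟩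
  rw [pr_cong, Matrix.SpecialLinearGroup.coe_transpose, Matrix.vecMul_transpose, Matrix.vecMul_transpose]
  show pr ψ₀ (SLn.ac (M' * M⁻¹) a) (SLn.ac (M' * M⁻¹) b) S = _
  rw [show SLn.ac (M' * M⁻¹) a = a' from key 0 (by simp), show SLn.ac (M' * M⁻¹) b = b' from key 1 (by simp)]

theorem ep_eq_indep : LinearIndependent F ![ep F s, eq' F s] := by
  rw [LinearIndependent.pair_iff]
  intro x y hxy
  refine ⟨?_, ?_⟩
  · simpa [ne12] using congrFun hxy 1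
  · simpa [ne12.symm] using congrFun hxy 2

theorem zχ_ne_zero (hψ : ψ₀ ≠ 0) : zχ ψ₀ s ≠ 0 := by
  intro h
  obtain ⟨z, hz⟩ := AddChar.ne_zero_iff.1 hψ
  have h1 := DFunLike.congr_fun h (z • vecMulVec (ep F s) (eq' F s))
  rw [zχ_vmv, ep_one, ep_two, eq_one, eq_two] at h1
  simp at h1
  exact hz h1

theorem zero_notMem_dec (hψ : ψ₀ ≠ 0) :
    (0 : AddChar (Matrix (Fin (s + 2 + 1)) (Fin (s + 2 + 1)) F) ℂ) ∉ dec ψ₀ (s + 2) := by
  intro h
  obtain ⟨a, b, hab, h0⟩ := mem_dec.1 h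
  obtain ⟨A, hA⟩ := pr_carry (ψ₀ := ψ₀) (two_le s) hab (ep_eq_indep (F := F) (s := s))
  exact zχ_ne_zero hψ (DFunLike.ext _ _ fun S => by rw [← hA, ← h0]; rfl)

/-- The Levi subgroup moves a vector of the centralizer of the centre of the radical. -/
theorem central_bound {u₀ : W} (hs : sw g (2 : Fin (s + 2 + 1)) * Hm g (refl g u₀) ∈ Om (s + 2 + 1) g)
    (C : Ctx ρ ψ₀) :
    (Fintype.card F : ℝ) ^ (s + 3) - Fintype.card F ≤
      (Module.finrank ℂ (weightSpace ρ (zD g) 0) : ℝ) * ((Fintype.card F : ℝ) - 1) := by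
  obtain ⟨v, hv, hvu, A, hA⟩ := exists_moved hs C
  have hW : ∀ A, ∀ x ∈ weightSpace ρ (zD g) (0 : AddChar _ ℂ),
      (ρ.comp (lD g)) A x ∈ weightSpace ρ (zD g) (0 : AddChar _ ℂ) :=
    fun A x hx => lD_map A (fun _ => rfl) hx
  let π := SLn.resRep (ρ := ρ.comp (lD g)) (weightSpace ρ (zD g) 0) hW
  have hv' : v ∈ weightSpace ρ (zD g) (0 : AddChar _ ℂ) := fun S => by rw [hv S]; simp
  refine SLn.fixQ_bound_of_not_fixed π (w := ⟨v, hv'⟩) (SLn.mem_fixQ.2 fun a => Subtype.ext ?_) (g₀ := A)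
    fun h => hA ?_
  · exact (SLn.resRep_coe (ρ := ρ.comp (lD g)) _ hW _ _).trans (hvu a)
  · exact (SLn.resRep_coe (ρ := ρ.comp (lD g)) _ hW A ⟨v, hv'⟩).symm.trans (congrArg Subtype.val h)

set_option maxHeartbeats 8000000 in
/-- The degree bound. -/
theorem degree_bound (hg : (QuadraticMap.polarBilin g).Nondegenerate)
    (hW : Fintype.card W = Fintype.card F ^ 2) (surj : ∀ γ, ∃ w, g w = γ)
    (rot : ∃ (h : orthGroup g) (_ : Hm (m := s + 2 + 1) g h ∈ Om (s + 2 + 1) g), ∀ w, h.1 w = w → w = 0)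
    (h4 : Good F (Sp F (s + 2 + 1) W)) (hn : 5 ≤ Module.finrank F (Sp F (s + 2 + 1) W))
    (hp : CfsgLib.Classical.HypPairs (bigForm (s + 2 + 1) g))
    (hρ : SLn.NoProper ρ) (h2 : 2 ≤ Module.finrank ℂ V) :
    (Fintype.card F ^ (s + 4) + 1) * (Fintype.card F ^ (s + 3) - Fintype.card F) ≤
      (Fintype.card F ^ 2 - 1) * Module.finrank ℂ V := by
  classical
  have : FiniteDimensional F W := Module.Finite.of_finite
  obtain ⟨ψ₀, hψ⟩ := SLn.exists_char (F := F)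
  set q := Fintype.card F with hq
  set d := Module.finrank ℂ V with hd
  have hq2 : 2 ≤ q := Fintype.one_lt_card
  have hnt : ∃ S, ρ (zD g S) ≠ 1 := by
    by_contra hall
    push Not at hall
    have h1 : ∀ x, ρ x = 1 := eq_one_of_zz g (two_le s) hg h4 hn hp ρ fun S => by
      have h := hall S
      unfold zD at h
      exact h
    obtain ⟨v, hv0⟩ : ∃ v : V, v ≠ 0 := by
      have : Nontrivial V := Module.nontrivial_of_finrank_pos (R := ℂ) (by omega)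
      exact exists_ne 0
    rcases hρ (Submodule.span ℂ {v}) (fun x w hw => by rw [h1, Module.End.one_apply]; exact hw) with h | h
    · exact hv0 (Submodule.span_singleton_eq_bot.1 h)
    · have := finrank_span_singleton (K := ℂ) hv0
      rw [h, finrank_top] at this
      omega
  obtain ⟨χ₀, hχ₀, hne₀⟩ := exists_weight ρ (zD g) zD_add hnt
  by_cases hdec : ∀ χ : AddChar (Matrix (Fin (s + 2 + 1)) (Fin (s + 2 + 1)) F) ℂ, χ ≠ 0 →
      weightSpace ρ (zD g) χ ≠ ⊥ → χ ∈ dec ψ₀ (s + 2)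
  swap
  · push Not at hdec
    obtain ⟨χ, hχ, hne, hnd⟩ := hdec
    rcases classify hψ χ hχ (fun S hS => char_symm hne hS) with
      ⟨B, u, v, u', v', hv, hsk, halt, huv, huv', h1, h2', -, -⟩ | hpr
    · have hb := finrank_rank_four hψ hg hne hv hsk halt huv huv' h1 h2'
      rw [hW, ← hq, ← hd, show (q ^ (s + 1)) ^ 2 * (q ^ 2) ^ 2 = q ^ (2 * s + 6) by ring] at hb
      refine le_trans ?_ (Nat.mul_le_mul_left _ hb)
      have h3 : q ^ (s + 3) - q ≤ q ^ (s + 3) := Nat.sub_le _ _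
      have h4' : q ^ (s + 3) ≤ q ^ (2 * s + 6) := Nat.pow_le_pow_right (by omega) (by omega)
      have h5 : 4 ≤ q ^ 2 := by nlinarith
      have h6 : q + 1 ≤ q ^ 2 - 1 := by
        have : 2 * q ≤ q ^ 2 := by nlinarith
        omega
      calc (q ^ (s + 4) + 1) * (q ^ (s + 3) - q) ≤ (q ^ (s + 4) + 1) * q ^ (s + 3) :=
            Nat.mul_le_mul_left _ h3
        _ = q * q ^ (2 * s + 6) + q ^ (s + 3) := by ring
        _ ≤ q * q ^ (2 * s + 6) + q ^ (2 * s + 6) := by omega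
        _ = (q + 1) * q ^ (2 * s + 6) := by ring
        _ ≤ (q ^ 2 - 1) * q ^ (2 * s + 6) := Nat.mul_le_mul_right _ h6
    · exact absurd (mem_dec.2 hpr) hnd
  set z := Module.finrank ℂ (Vz ρ ψ₀) with hz
  set l := Module.finrank ℂ (Lz ρ ψ₀) with hl
  have hall : ∀ χ ∈ dec ψ₀ (s + 2), z ≤ Module.finrank ℂ (weightSpace ρ (zD g) χ) := by
    intro χ hχ
    obtain ⟨a, b, hab, rfl⟩ := mem_dec.1 hχ
    obtain ⟨A, hA⟩ := pr_carry (ψ₀ := ψ₀) (two_le s) hab (ep_eq_indep (F := F) (s := s))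
    exact finrank_ws_le A hA
  have hzpos : Vz ρ ψ₀ ≠ ⊥ := by
    intro h
    obtain ⟨a, b, hab, rfl⟩ := mem_dec.1 (hdec χ₀ hχ₀ hne₀)
    obtain ⟨A, hA⟩ := pr_carry (ψ₀ := ψ₀) (two_le s) (ep_eq_indep (F := F) (s := s)) hab
    have h' := finrank_ws_le (ρ := ρ) A hA
    rw [show weightSpace ρ (zD g) (pr ψ₀ (ep F s) (eq' F s)) = ⊥ from h, finrank_bot, Nat.le_zero] at h'
    exact hne₀ (Submodule.finrank_eq_zero.1 h')
  obtain ⟨D, -⟩ := exists_shift (ρ := ρ) hψ hg (zχ ψ₀ s) (ep F s) (eq' F s)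
    (fun t => by rw [zχ_vmv]; simp [ne12, ne12.symm]) (Vz ρ ψ₀) le_rfl
    (fun w _ hx => nD_keep _ w hx) (fun w _ hx => nD_keep _ w hx)
  have hzl : q ^ 2 * l ≤ z := by
    have := D.card_le
    rwa [AddChar.card_eq, hW] at this
  have hlpos : 1 ≤ l := Nat.one_le_iff_ne_zero.2 fun h => D.ne_bot hzpos (Submodule.finrank_eq_zero.1 h)
  set v0 := Module.finrank ℂ (weightSpace ρ (zD g) (0 : AddChar _ ℂ)) with hv0
  have hsum : v0 + (dec ψ₀ (s + 2)).card * (q ^ 2 * l) ≤ d := by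
    refine le_trans ?_ (sum_weights_le ρ (u := zD g) (insert 0 (dec ψ₀ (s + 2))))
    rw [Finset.sum_insert (zero_notMem_dec hψ)]
    refine Nat.add_le_add_left ?_ _
    rw [← smul_eq_mul]
    exact Finset.card_nsmul_le_sum _ _ _ fun χ hχ => hzl.trans (hall χ hχ)
  have hN := card_pr (F := F) (r := s + 2) hψ (by omega)
  rw [← hq] at hN
  set N := (dec ψ₀ (s + 2)).card with hNdef
  have hl1 : l = 1 → (q : ℝ) ^ (s + 3) - q ≤ (v0 : ℝ) * ((q : ℝ) - 1) := by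
    intro hl'
    obtain ⟨u₀, hu₀⟩ := surj (-1)
    exact central_bound (sw_Hm_mem g hg h4 2 hu₀) ⟨hψ, hg, hdec, hl', rot, surj⟩
  have hqle : q ≤ q ^ (s + 3) := Nat.le_self_pow (by omega) q
  have h1le : 1 ≤ q ^ (s + 3) := Nat.one_le_pow _ _ (by omega)
  have h1le2 : 1 ≤ q ^ 2 := Nat.one_le_pow _ _ (by omega)
  rw [show s + 2 + 1 = s + 3 by omega] at hN
  have hQ : (2 : ℝ) ≤ (q : ℝ) := by exact_mod_cast hq2
  set Q : ℝ := (q : ℝ) with hQdef
  have hNr : (Q ^ (s + 3) - 1) * (Q ^ (s + 3) - Q) ≤ (N : ℝ) * ((Q ^ 2 - 1) * Q) := by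
    have := (Nat.cast_le (α := ℝ)).2 hN
    push_cast [Nat.cast_sub h1le, Nat.cast_sub hqle, Nat.cast_sub h1le2] at this
    exact this
  have hsumr : (v0 : ℝ) + (N : ℝ) * (Q ^ 2 * l) ≤ (d : ℝ) := by
    rw [hQdef]
    exact_mod_cast hsum
  have hR : Q ≤ Q ^ (s + 3) := le_self_pow₀ (by linarith) (by omega)
  have hR2 : Q + 1 ≤ Q ^ (s + 3) - 1 := by
    have : Q ^ 3 ≤ Q ^ (s + 3) := pow_le_pow_right₀ (by linarith) (by omega)
    nlinarith [mul_le_mul_of_nonneg_left hQ (show (0 : ℝ) ≤ Q * Q by positivity)]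
  rw [← Nat.cast_le (α := ℝ)]
  push_cast [Nat.cast_sub hqle, Nat.cast_sub h1le2]
  rw [← hQdef, show Q ^ (s + 4) = Q * Q ^ (s + 3) from pow_succ' Q (s + 3)]
  have hS : 0 ≤ Q ^ 2 - 1 := by nlinarith
  have main : (Q * Q ^ (s + 3) + 1) * (Q ^ (s + 3) - Q) ≤
      (Q ^ 2 - 1) * ((v0 : ℝ) + (N : ℝ) * (Q ^ 2 * l)) := by
    have hd1 : Q * (Q ^ (s + 3) - 1) * (Q ^ (s + 3) - Q) + (Q + 1) * (Q ^ (s + 3) - Q) =
        (Q * Q ^ (s + 3) + 1) * (Q ^ (s + 3) - Q) := by ring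
    rcases Nat.lt_or_ge l 2 with hlt | hge
    · obtain rfl' : l = 1 := by omega
      have hc := hl1 rfl'
      rw [rfl', Nat.cast_one, mul_one]
      have e1 := mul_le_mul_of_nonneg_left hc (show (0 : ℝ) ≤ Q + 1 by linarith)
      have e2 := mul_le_mul_of_nonneg_left hNr (show (0 : ℝ) ≤ Q by linarith)
      nlinarith
    · have hge' : (2 : ℝ) ≤ (l : ℝ) := by exact_mod_cast hge
      have e2 := mul_le_mul_of_nonneg_left hNr (show (0 : ℝ) ≤ Q by linarith)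
      have e3 : (Q + 1) * (Q ^ (s + 3) - Q) ≤ Q * (Q ^ (s + 3) - 1) * (Q ^ (s + 3) - Q) := by
        refine mul_le_mul_of_nonneg_right (hR2.trans ?_) (by linarith)
        exact le_mul_of_one_le_left (by linarith) (by linarith)
      have e4 : 0 ≤ ((N : ℝ) * (Q ^ 2 * (Q ^ 2 - 1))) := by positivity
      nlinarith [mul_le_mul_of_nonneg_left hge' e4, mul_nonneg hS (Nat.cast_nonneg (α := ℝ) v0)]
  exact main.trans (mul_le_mul_of_nonneg_left hsumr hS)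

end CfsgLib.MinDeg.OrthSiegel
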