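import Cfsg.Agent.Lib.KnownB.MinDeg.OrthSiegel.Elements
import Cfsg.Agent.Lib.Classical.OrthSimple

/-!
# The Siegel parabolic lies in the commutator subgroup
-/

set_option autoImplicit false
set_option linter.unusedSectionVars false
set_option backward.isDefEq.respectTransparency false

open Matrix
open scoped commutatorElement

namespace CfsgLib.MinDeg.OrthSiegel

open QuadraticMap CfsgLib.Orth
open CfsgLib.KnownA.MinIndex (T T_mulVec vecMul_T T_inv)

variable {F : Type*} [Field F] {r : ℕ} {W : Type*} [AddCommGroup W] [Module F W]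
  (g : QuadraticForm F W)

/-- The commutator subgroup. -/
noncomputable abbrev Om (m : ℕ) (g : QuadraticForm F W) : Subgroup (orthGroup (bigForm m g)) :=
  commutator (orthGroup (bigForm m g))

theorem comm_mem {m : ℕ} (a b : orthGroup (bigForm m g)) : ⁅a, b⁆ ∈ Om m g :=
  Subgroup.commutator_mem_commutator trivial trivial

theorem om_normal {m : ℕ} {a : orthGroup (bigForm m g)} (ha : a ∈ Om m g)
    (b : orthGroup (bigForm m g)) : b * a * b⁻¹ ∈ Om m g := by
  have h := mul_mem (comm_mem g b a) ha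
  rwa [commutatorElement_def, inv_mul_cancel_right] at h

theorem Lv_mem (hr : 2 ≤ r) (A : SLn.SLg F r) : Lv g A ∈ Om (r + 1) g := by
  have h : commutator (SLn.SLg F r) ≤ (Om (r + 1) g).comap (Lv g) := by
    rw [commutator_def, Subgroup.commutator_le]
    intro a _ b _
    rw [Subgroup.mem_comap, map_commutatorElement]
    exact comm_mem g _ _
  rw [CfsgLib.Classical.sl_perfect (by simp; omega)] at h
  exact h (Subgroup.mem_top A)

theorem single_dot_single {i j : Fin (r + 1)} (h : j ≠ i) (c : F) :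
    (Pi.single j c : Fin (r + 1) → F) ⬝ᵥ Pi.single i 1 = 0 := by
  rw [dotProduct_single, Pi.single_eq_of_ne h.symm, zero_mul]

theorem ac_T_single {i j k : Fin (r + 1)} (hji : j ≠ i) :
    SLn.ac (T (Pi.single i (1 : F)) (Pi.single j 1)) (Pi.single k 1) =
      Pi.single k 1 + if j = k then Pi.single i 1 else 0 := by
  rw [SLn.ac, T_mulVec (single_dot_single hji 1)]
  split_ifs with h
  · subst h
    rw [dotProduct_single, Pi.single_eq_same, one_mul, one_smul]
  · rw [dotProduct_single, Pi.single_eq_of_ne (Ne.symm h), zero_mul, zero_smul]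

theorem zz_single_mem (hr : 2 ≤ r) (i k : Fin (r + 1)) (c : F) :
    zz g (c • vecMulVec (Pi.single i 1) (Pi.single k 1)) ∈ Om (r + 1) g := by
  by_cases hik : i = k
  · rw [zz_symm g (by rw [hik, Matrix.transpose_smul, Matrix.transpose_vecMulVec])]
    exact one_mem _
  obtain ⟨j, hji, hjk⟩ : ∃ j : Fin (r + 1), j ≠ i ∧ j ≠ k := by
    obtain ⟨j, -, hj⟩ := Finset.exists_mem_notMem_of_card_lt_card
      (s := ({i, k} : Finset (Fin (r + 1)))) (t := Finset.univ)
      (lt_of_le_of_lt Finset.card_le_two (by simp; omega))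
    exact ⟨j, fun h => hj (by simp [h]), fun h => hj (by simp [h])⟩
  set A : SLn.SLg F r := T (Pi.single i (1 : F)) (Pi.single j 1)
  have h1 : cong A (c • vecMulVec (Pi.single j 1) (Pi.single k 1)) =
      c • vecMulVec (Pi.single i 1) (Pi.single k 1) + c • vecMulVec (Pi.single j 1) (Pi.single k 1) := by
    rw [← Matrix.smul_vecMulVec, cong_vmv, SLn.ac_smul, ac_T_single hji, ac_T_single hji, if_pos rfl,
      if_neg hjk, add_zero, Matrix.smul_vecMulVec, Matrix.smul_vecMulVec, Matrix.add_vecMulVec, smul_add]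
    exact add_comm _ _
  have h2 := comm_mem g (Lv g A) (zz g (c • vecMulVec (Pi.single j 1) (Pi.single k 1)))
  rwa [commutatorElement_def, Lv_zz, mul_inv_cancel_right, h1, zz_add, mul_inv_cancel_right] at h2

theorem zz_mem (hr : 2 ≤ r) (S : Matrix (Fin (r + 1)) (Fin (r + 1)) F) : zz g S ∈ Om (r + 1) g := by
  rw [Matrix.matrix_eq_sum_single S]
  refine Finset.sum_induction _ (fun T => zz g T ∈ Om (r + 1) g) (fun a b ha hb => ?_) ?_ fun i _ => ?_
  · rw [zz_add]
    exact mul_mem ha hb
  · rw [zz_zero]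
    exact one_mem _
  refine Finset.sum_induction _ (fun T => zz g T ∈ Om (r + 1) g) (fun a b ha hb => ?_) ?_ fun j _ => ?_
  · rw [zz_add]
    exact mul_mem ha hb
  · rw [zz_zero]
    exact one_mem _
  rw [show Matrix.single i j (S i j) = S i j • vecMulVec (Pi.single i 1) (Pi.single j 1) by
    ext a b
    simp only [Matrix.single_apply, Matrix.smul_apply, vecMulVec_apply, Pi.single_apply, smul_eq_mul]
    by_cases ha : i = a <;> by_cases hb : j = b <;> simp [ha, hb, Ne.symm]]
  exact zz_single_mem g hr i j _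

theorem nu_mem (hr : 2 ≤ r) (u : Fin (r + 1) → F) (w : W) : nu g u w ∈ Om (r + 1) g := by
  have hs : ∀ (i : Fin (r + 1)) (w : W), nu g (Pi.single i 1) w ∈ Om (r + 1) g := by
    intro i w
    obtain ⟨j, hj⟩ : ∃ j : Fin (r + 1), j ≠ i :=
      Fintype.exists_ne_of_one_lt_card (by simp; omega) i
    have h2 := comm_mem g (Lv g (T (Pi.single i (1 : F)) (Pi.single j 1))) (nu g (Pi.single j 1) w)
    rw [commutatorElement_def, Lv_nu, mul_inv_cancel_right, ac_T_single hj, if_pos rfl,
      add_comm (Pi.single j 1 : Fin (r + 1) → F), nu_add_left, ← mul_assoc, mul_inv_cancel_right] at h2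
    exact (Subgroup.mul_mem_cancel_left _ (zz_mem g hr _)).1 h2
  rw [pi_eq_sum_univ' u]
  refine Finset.sum_induction _ (fun u => ∀ w, nu g u w ∈ Om (r + 1) g) (fun a b ha hb w => ?_)
    (fun w => ?_) (fun i _ w => ?_) w
  · rw [nu_add_left]
    exact mul_mem (zz_mem g hr _) (mul_mem (ha w) (hb w))
  · rw [show nu g (0 : Fin (r + 1) → F) w = nu g ((0 : F) • (0 : Fin (r + 1) → F)) w by rw [smul_zero],
      nu_smul, zero_smul, nu_zero]
    exact one_mem _
  · rw [nu_smul]
    exact hs i _

theorem nm_mem (hr : 2 ≤ r) (v : Fin (r + 1) → F) (w : W) : nm g v w ∈ Om (r + 1) g := by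
  have h := om_normal g (nu_mem g hr v w) (Jx g)
  rwa [inv_eq_of_mul_eq_one_right (Jx_mul_self g)] at h

/-- The radical element in the commutator subgroup. -/
noncomputable def zC (hr : 2 ≤ r) (S : Matrix (Fin (r + 1)) (Fin (r + 1)) F) : Om (r + 1) g :=
  ⟨zz g S, zz_mem g hr S⟩

/-- The radical element in the commutator subgroup. -/
noncomputable def nC (hr : 2 ≤ r) (u : Fin (r + 1) → F) (w : W) : Om (r + 1) g :=
  ⟨nu g u w, nu_mem g hr u w⟩

/-- The opposite radical element in the commutator subgroup. -/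
noncomputable def mC (hr : 2 ≤ r) (v : Fin (r + 1) → F) (w : W) : Om (r + 1) g :=
  ⟨nm g v w, nm_mem g hr v w⟩

/-- The Levi subgroup in the commutator subgroup. -/
noncomputable def lC (hr : 2 ≤ r) : SLn.SLg F r →* Om (r + 1) g :=
  (Lv g).codRestrict _ (Lv_mem g hr)

theorem zC_coe (hr : 2 ≤ r) (S : Matrix (Fin (r + 1)) (Fin (r + 1)) F) : (zC g hr S).1 = zz g S := rfl

theorem nC_coe (hr : 2 ≤ r) (u : Fin (r + 1) → F) (w : W) : (nC g hr u w).1 = nu g u w := rfl

theorem mC_coe (hr : 2 ≤ r) (v : Fin (r + 1) → F) (w : W) : (mC g hr v w).1 = nm g v w := rfl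

theorem lC_coe (hr : 2 ≤ r) (A : SLn.SLg F r) : (lC g hr A).1 = Lv g A := rfl

variable (hr : 2 ≤ r)

theorem zC_add (S S' : Matrix (Fin (r + 1)) (Fin (r + 1)) F) :
    zC g hr (S + S') = zC g hr S * zC g hr S' := Subtype.ext (zz_add g S S')

theorem nC_add (u : Fin (r + 1) → F) (w w' : W) :
    nC g hr u (w + w') = nC g hr u w * nC g hr u w' := Subtype.ext (nu_add g u w w')

section Ab

variable [FiniteDimensional F W] (hg : (QuadraticMap.polarBilin g).Nondegenerate)
include hg

theorem sw_Hm_mem {m : ℕ} (h4 : Good F (Sp F m W)) (i : Fin m) {u : W} (hu : g u = -1) :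
    sw g i * Hm g (refl g u) ∈ Om m g := by
  have hq : bigForm m g (0, 0, u) = -1 := by rw [bigForm_apply, zero_dotProduct, zero_add, hu]
  rw [mem_commutator_iff, Hm_refl, map_mul, sw,
    ab_refl_eq (bigForm_nondeg g hg) h4 (a := (Pi.single i 1, -Pi.single i 1, (0 : W))) (b := (0, 0, u))
      (by rw [sw_quad]; simp) (by rw [hq]; simp) ⟨1, by rw [sw_quad, hq]; ring⟩]
  exact ab_refl_sq _

theorem Hm_pair_mem {m : ℕ} (h4 : Good F (Sp F m W)) {u v : W} (hu : g u ≠ 0) (huv : g u = g v) :
    Hm (m := m) g (refl g u * refl g v) ∈ Om m g := by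
  have hq : ∀ w : W, bigForm m g (0, 0, w) = g w := fun w => by
    rw [bigForm_apply, zero_dotProduct, zero_add]
  rw [mem_commutator_iff, map_mul, Hm_refl, Hm_refl, map_mul,
    ab_refl_eq (bigForm_nondeg g hg) h4 (a := ((0 : Fin m → F), (0 : Fin m → F), u)) (b := (0, 0, v))
      (by rw [hq]; exact hu) (by rw [hq, ← huv]; exact hu) ⟨g v, by rw [hq, hq, huv]⟩]
  exact ab_refl_sq _

end Ab

set_option maxHeartbeats 1000000 in
/-- A representation trivial on the central part of the radical is trivial. -/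
theorem eq_one_of_zz {k : Type*} [Monoid k] [FiniteDimensional F W]
    (hg : (QuadraticMap.polarBilin g).Nondegenerate) (h4 : Good F (Sp F (r + 1) W))
    (hn : 5 ≤ Module.finrank F (Sp F (r + 1) W)) (hp : CfsgLib.Classical.HypPairs (bigForm (r + 1) g))
    (φ : Om (r + 1) g →* k) (htriv : ∀ S, φ (zC g hr S) = 1) (x : Om (r + 1) g) : φ x = 1 := by
  classical
  have hQ := bigForm_nondeg (m := r + 1) g hg
  have := CfsgLib.Classical.commutator_quotient_simple hQ h4 hp hn
  set C := Subgroup.center ↥(Om (r + 1) g) with hC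
  set e : Fin 3 → Fin (r + 1) := Fin.castLE (by omega) with he
  have hne : ∀ a b : Fin 3, a ≠ b → e a ≠ e b := fun a b h h' => h (Fin.castLE_injective _ h')
  set S := vecMulVec (Pi.single (e 0) (1 : F)) (Pi.single (e 1) (1 : F)) with hS
  have hnc : zC g hr S ∉ C := by
    intro h
    have h1 := congrArg (fun z : ↥(Om (r + 1) g) => z.1.1 (0, Pi.single (e 1) 1, 0))
      (Subgroup.mem_center_iff.1 h (lC g hr (T (Pi.single (e 2) (1 : F)) (Pi.single (e 0) 1))))
    change ((Lv g _ * zz g S).1 : _) _ = ((zz g S * Lv g _).1 : _) _ at h1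
    rw [orth_mul_apply, orth_mul_apply, hS, zz_vmv_apply] at h1
    rw [Lv_T_apply g (single_dot_single (hne 0 2 (by decide)) 1),
      Lv_T_apply g (single_dot_single (hne 0 2 (by decide)) 1)] at h1
    have h2 := congrFun (congrArg Prod.fst h1) (e 2)
    simp [zz_vmv_apply, hne 0 1 (by decide), hne 2 0 (by decide), hne 2 1 (by decide),
      hne 1 0 (by decide), hne 1 2 (by decide)] at h2
  have hN : Subgroup.map (QuotientGroup.mk' C) φ.ker = ⊤ := by
    refine ((Subgroup.Normal.map φ.normal_ker _ (QuotientGroup.mk'_surjective C)).eq_bot_or_eq_top).resolve_left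
      fun h => hnc ?_
    rw [Subgroup.map_eq_bot_iff, QuotientGroup.ker_mk'] at h
    exact h (htriv S)
  have hdec : ∀ y : Om (r + 1) g, ∃ a b, a ∈ φ.ker ∧ b ∈ C ∧ y = a * b := by
    intro y
    obtain ⟨a, ha, hay⟩ := (hN ▸ Subgroup.mem_top (QuotientGroup.mk' C y) :
      QuotientGroup.mk' C y ∈ Subgroup.map (QuotientGroup.mk' C) φ.ker)
    exact ⟨a, a⁻¹ * y, ha, QuotientGroup.eq.1 hay, by rw [mul_inv_cancel_left]⟩
  have hperf : commutator ↥(Om (r + 1) g) = ⊤ := by
    apply Subgroup.map_injective (Om (r + 1) g).subtype_injective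
    rw [Subgroup.map_subtype_commutator, ← MonoidHom.range_eq_map, Subgroup.range_subtype]
    exact le_antisymm (Subgroup.commutator_le.2 fun a _ b _ => comm_mem g a b)
      (CfsgLib.Classical.commutator_perfect hQ h4 hp hn)
  have hφ : ∀ y : Om (r + 1) g, ∃ c ∈ C, φ y = φ c := fun y => by
    obtain ⟨a, c, ha, hc, rfl⟩ := hdec y
    exact ⟨c, hc, by rw [map_mul, MonoidHom.mem_ker.1 ha, one_mul]⟩
  have hle : commutator ↥(Om (r + 1) g) ≤ φ.ker := by
    rw [commutator_def, Subgroup.commutator_le]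
    intro a _ b _
    obtain ⟨c, hc, hac⟩ := hφ a
    have hab : φ (a * b) = φ (b * a) := by
      rw [map_mul, map_mul, hac, ← map_mul, ← map_mul, Subgroup.mem_center_iff.1 hc b]
    rw [MonoidHom.mem_ker, show ⁅a, b⁆ = a * b * (a⁻¹ * b⁻¹) by rw [commutatorElement_def, mul_assoc],
      map_mul, hab, ← map_mul]
    simp
  exact hle (hperf ▸ Subgroup.mem_top x)

end CfsgLib.MinDeg.OrthSiegel
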