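import Cfsg.Agent.Lib.KnownB.MinDeg.OrthSiegel.Main
import Cfsg.Agent.Lib.Orth.Standard

/-!
# The orthogonal groups of minus type
-/

set_option autoImplicit false
set_option linter.unusedSectionVars false
set_option backward.isDefEq.respectTransparency false
set_option maxHeartbeats 4000000
set_option synthInstance.maxHeartbeats 200000

open Matrix

namespace CfsgLib.MinDeg.OrthSiegel

open QuadraticMap CfsgLib.Orth

section Transfer

variable {F : Type*} [Field F] {U V : Type*} [AddCommGroup U] [Module F U] [AddCommGroup V] [Module F V]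
  {Q : QuadraticForm F U} {R : QuadraticForm F V}

/-- Isometric spaces have isomorphic orthogonal groups. -/
def orthTransport (e : U ≃ₗ[F] V) (he : ∀ v, R (e v) = Q v) : orthGroup Q ≃* orthGroup R where
  toFun g := ⟨(e.symm.trans g.1).trans e, fun v => by
    show R (e (g.1 (e.symm v))) = R v
    rw [he, apply_quad, ← he, e.apply_symm_apply]⟩
  invFun g := ⟨(e.trans g.1).trans e.symm, fun v => by
    show Q (e.symm (g.1 (e v))) = Q v
    rw [← he, e.apply_symm_apply, apply_quad, he]⟩
  left_inv g := Subtype.ext (LinearEquiv.ext fun v => by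
    show e.symm (e (g.1 (e.symm (e v)))) = g.1 v
    rw [e.symm_apply_apply, e.symm_apply_apply])
  right_inv g := Subtype.ext (LinearEquiv.ext fun v => by
    show e (e.symm (g.1 (e (e.symm v)))) = g.1 v
    rw [e.apply_symm_apply, e.apply_symm_apply])
  map_mul' g h := Subtype.ext (LinearEquiv.ext fun v => by
    show e (g.1 (h.1 (e.symm v))) = e (g.1 (e.symm (e (h.1 (e.symm v)))))
    rw [e.symm_apply_apply])

/-- Their commutator subgroups are isomorphic. -/
noncomputable def commTransport (e : U ≃ₗ[F] V) (he : ∀ v, R (e v) = Q v) :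
    ↥(commutator (orthGroup Q)) ≃* ↥(commutator (orthGroup R)) :=
  ((orthTransport e he).subgroupMap (commutator (orthGroup Q))).trans
    (MulEquiv.subgroupCongr (by
      rw [commutator_def, commutator_def, Subgroup.map_commutator,
        Subgroup.map_top_of_surjective _ (orthTransport e he).surjective]))

end Transfer

section Binary

variable {F : Type*} [Field F]

/-- The binary form `z₁² + a z₁ z₂ + b z₂²`. -/
noncomputable def binForm (a b : F) : QuadraticForm F (Fin 2 → F) :=
  QuadraticMap.linMulLin (LinearMap.proj 0) (LinearMap.proj 0) +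
    a • QuadraticMap.linMulLin (LinearMap.proj 0) (LinearMap.proj 1) +
    b • QuadraticMap.linMulLin (LinearMap.proj 1) (LinearMap.proj 1)

theorem binForm_apply (a b : F) (z : Fin 2 → F) :
    binForm a b z = z 0 ^ 2 + a * z 0 * z 1 + b * z 1 ^ 2 := by
  simp [binForm, pow_two, mul_assoc]

/-- The coordinates. -/
def minusCoord (F : Type*) [Field F] (m : ℕ) :
    ((Fin m ⊕ Fin m) ⊕ Fin 2 → F) ≃ₗ[F] Sp F m (Fin 2 → F) where
  toFun v := (fun i => v (Sum.inl (Sum.inl i)), fun i => v (Sum.inl (Sum.inr i)), fun j => v (Sum.inr j))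
  map_add' _ _ := rfl
  map_smul' _ _ := rfl
  invFun p := Sum.elim (Sum.elim p.1 p.2.1) p.2.2
  left_inv v := funext fun k => by rcases k with (i | i) | i <;> rfl
  right_inv _ := rfl

theorem minusCoord_quad (m : ℕ) (a b : F) (v : (Fin m ⊕ Fin m) ⊕ Fin 2 → F) :
    bigForm m (binForm a b) (minusCoord F m v) = minusForm F m a b v := by
  rw [← minusForm_apply]
  show bigForm m (binForm a b) (_, _, _) = _
  rw [bigForm_apply, binForm_apply]
  rfl

variable [Fintype F] {a b : F} (hab : ∀ z₁ z₂ : F, z₁ ^ 2 + a * z₁ * z₂ + b * z₂ ^ 2 = 0 → z₁ = 0 ∧ z₂ = 0)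
include hab

theorem binForm_nondeg : (QuadraticMap.polarBilin (binForm a b)).Nondegenerate := by
  have hp : ∀ z z', polar (binForm a b) z z' = polar (minusForm F 0 a b) (Sum.elim 0 z) (Sum.elim 0 z') := by
    intro z z'
    rw [minusForm_polar]
    simp only [polar, binForm_apply, Pi.add_apply, Finset.univ_eq_empty, Finset.sum_empty, Sum.elim_inr]
    ring
  refine nondegenerate_of_left fun v hv => ?_
  have h := (minusForm_nondeg 0 a b hab).1 (Sum.elim 0 v) fun w => by
    rw [QuadraticMap.polarBilin_apply_apply, show w = Sum.elim (0 : Fin 0 ⊕ Fin 0 → F) (fun j => w (Sum.inr j)) from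
      funext fun k => by rcases k with (i | i) | i <;> first | exact i.elim0 | rfl, ← hp]
    exact hv _
  exact funext fun j => congrFun h (Sum.inr j)

theorem binForm_surj (γ : F) : ∃ z, binForm a b z = γ := by
  classical
  by_cases h2 : (2 : F) = 0
  · have hc : ringChar F = 2 := by
      by_contra hne
      exact Ring.two_ne_zero hne h2
    obtain ⟨r, hr⟩ := FiniteField.isSquare_of_char_two hc γ
    exact ⟨![r, 0], by rw [binForm_apply]; simp [hr, pow_two]⟩
  have hD : b - a ^ 2 / 4 ≠ 0 := fun h => one_ne_zero (hab (-a / 2) 1 (by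
    have h4 : (4 : F) ≠ 0 := by
      intro h4
      exact mul_ne_zero h2 h2 (by linear_combination h4)
    field_simp at h ⊢
    linear_combination h)).2
  have hodd : Fintype.card F % 2 = 1 := FiniteField.odd_card_of_char_ne_two fun h => h2 (by
    have := ringChar.Nat.cast_ringChar (R := F)
    rw [h] at this
    exact_mod_cast this)
  obtain ⟨A, B, h⟩ := FiniteField.exists_root_sum_quadratic
    (f := Polynomial.X ^ 2 + Polynomial.C (-γ)) (g := Polynomial.C (b - a ^ 2 / 4) * Polynomial.X ^ 2)
    (Polynomial.degree_X_pow_add_C (by norm_num) _) (Polynomial.degree_C_mul_X_pow 2 hD) hodd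
  simp only [Polynomial.eval_add, Polynomial.eval_mul, Polynomial.eval_pow, Polynomial.eval_X,
    Polynomial.eval_C] at h
  refine ⟨![A - a * B / 2, B], ?_⟩
  have h4 : (4 : F) ≠ 0 := fun h4 => mul_ne_zero h2 h2 (by linear_combination h4)
  rw [binForm_apply]
  simp only [Matrix.cons_val_zero, Matrix.cons_val_one]
  field_simp at h ⊢
  linear_combination h

theorem binForm_pair : ∃ u v, binForm a b u ≠ 0 ∧ binForm a b u = binForm a b v ∧
    LinearIndependent F ![u, v] := by
  by_cases ha : a = 0
  · subst ha
    have h2 : (2 : F) ≠ 0 := by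
      intro h2
      have hc : ringChar F = 2 := by
        by_contra hne
        exact Ring.two_ne_zero hne h2
      obtain ⟨r, hr⟩ := FiniteField.isSquare_of_char_two hc b
      exact one_ne_zero (hab r 1 (by linear_combination (r * r) * h2 + hr)).2
    refine ⟨![1, 1], ![1, -1], fun h => one_ne_zero (hab 1 1 ?_).2, by simp [binForm_apply], ?_⟩
    · rw [binForm_apply] at h; simpa using h
    · rw [LinearIndependent.pair_iff]
      intro x y hxy
      have h1 := congrFun hxy 0
      have h2' := congrFun hxy 1
      simp at h1 h2'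
      have hx : x = 0 := mul_left_cancel₀ h2 (by linear_combination h1 + h2')
      exact ⟨hx, by linear_combination h1 - hx⟩
  · refine ⟨![0, 1], ![a, -1], fun h => one_ne_zero (hab 0 1 ?_).2, ?_, ?_⟩
    · rw [binForm_apply] at h; simpa using h
    · simp [binForm_apply]; ring
    · rw [LinearIndependent.pair_iff]
      intro x y hxy
      have h1 := congrFun hxy 0
      have h2' := congrFun hxy 1
      simp at h1 h2'
      have hy : y = 0 := h1.resolve_right ha
      exact ⟨by linear_combination h2' + hy, hy⟩

theorem binForm_rot {m : ℕ} (h4 : Good F (Sp F m (Fin 2 → F))) :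
    ∃ (h : orthGroup (binForm a b)) (_ : Hm (m := m) (binForm a b) h ∈ Om m (binForm a b)),
      ∀ w, h.1 w = w → w = 0 := by
  obtain ⟨u, v, hu, huv, hli⟩ := binForm_pair hab
  set g := binForm a b
  refine ⟨refl g u * refl g v, Hm_pair_mem g (binForm_nondeg hab) h4 hu huv, fun w hw => ?_⟩
  have e : (refl g v).1 w = (refl g u).1 w := by
    conv_lhs => rw [← reflFun_reflFun g u ((refl g v).1 w)]
    exact congrArg (reflFun g u) hw
  rw [refl_apply, refl_apply, sub_right_inj, ← sub_eq_zero, sub_eq_add_neg, ← neg_smul] at e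
  have hco := LinearIndependent.pair_iff.1 hli _ _ ((add_comm _ _).trans e)
  have p1 : polar g v w = 0 := (mul_eq_zero.1 hco.2).resolve_left (inv_ne_zero (huv ▸ hu))
  have p2 : polar g u w = 0 := (mul_eq_zero.1 (neg_eq_zero.1 hco.1)).resolve_left (inv_ne_zero hu)
  refine (binForm_nondeg hab).1 w fun z => ?_
  have hspan : z ∈ Submodule.span F (Set.range ![u, v]) := by
    rw [hli.span_eq_top_of_card_eq_finrank' (by simp)]
    trivial
  obtain ⟨c, rfl⟩ := (Submodule.mem_span_range_iff_exists_fun F).1 hspan
  simp [Fin.sum_univ_two, polar_comm _ w u, polar_comm _ w v]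
  linear_combination c 0 * p2 + c 1 * p1

/-- The degree bound for the orthogonal groups of minus type. -/
theorem minus_degree_bound (s : ℕ) {k : ℕ}
    (ρ : Representation ℂ (Cfsg.Omega F (Cfsg.quadFormMinus (s + 3) F a b)) (Fin k → ℂ))
    (hρ : ρ.IsIrreducible) (hk : 2 ≤ k) :
    (Fintype.card F ^ (s + 4) + 1) * (Fintype.card F ^ (s + 3) - Fintype.card F) ≤
      (Fintype.card F ^ 2 - 1) * k := by
  classical
  set g := binForm a b with hg
  set E := (CfsgLib.Classical.omegaEquiv (minusForm F (s + 3) a b) (minusForm_apply (s + 3) a b)).trans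
    (commTransport (minusCoord F (s + 3)) (minusCoord_quad (s + 3) a b))
  let ρ' : Representation ℂ (Om (s + 2 + 1) g) (Fin k → ℂ) := ρ.comp E.symm.toMonoidHom
  have hρ' : SLn.NoProper ρ' := fun U hU => SLn.noProper_of_irreducible hρ U fun x v hv => by
    have := hU (E x) v hv
    rwa [show ρ' (E x) = ρ x from congrArg ρ (E.symm_apply_apply x)] at this
  have hfr : Module.finrank F (Sp F (s + 2 + 1) (Fin 2 → F)) = 2 * s + 8 := by
    rw [Module.finrank_prod, Module.finrank_prod, Module.finrank_fin_fun, Module.finrank_fin_fun]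
    ring
  have h4 : Good F (Sp F (s + 2 + 1) (Fin 2 → F)) := Or.inr (by rw [hfr]; omega)
  have h := degree_bound (g := g) (s := s) (ρ := ρ') (binForm_nondeg hab)
    (by rw [Fintype.card_fun, Fintype.card_fin]) (binForm_surj hab) (binForm_rot hab h4) h4
    (by rw [hfr]; omega)
    ((CfsgLib.Classical.hypPairs_minus (s + 3) (by omega) a b).ofPreserving
      (minusCoord F (s + 3)).toLinearMap (minusCoord_quad (s + 3) a b))
    hρ' (by rw [Module.finrank_fin_fun]; exact hk)
  rwa [Module.finrank_fin_fun] at h

end Binary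

end CfsgLib.MinDeg.OrthSiegel
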