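import Cfsg.Agent.Lib.KnownB.MinDeg.OrthSiegel.PairModel

/-!
# The centralizer of the centre of the radical in odd dimension
-/

set_option autoImplicit false
set_option linter.unusedSectionVars false
set_option backward.isDefEq.respectTransparency false
set_option maxHeartbeats 4000000
set_option synthInstance.maxHeartbeats 200000

open Matrix

namespace CfsgLib.MinDeg.OrthSiegel

open QuadraticMap CfsgLib.Orth
open CfsgLib.KnownA.MinIndex (T T_mulVec vecMul_T T_inv T_conj T_mul_right T_mul_left T_smul)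

variable {F : Type*} [Field F] [Fintype F] [DecidableEq F] {s : ℕ}
  {W : Type*} [AddCommGroup W] [Module F W] [Fintype W] {g : QuadraticForm F W}
  {V : Type*} [AddCommGroup V] [Module ℂ V] [FiniteDimensional ℂ V]
  {ρ : Representation ℂ (Om (s + 2 + 1) g) V}

variable (ρ) in
/-- Vectors fixed by the roots outside the pair and by the transvections of the pair. -/
structure InB (v : V) : Prop where
  l : v ∈ fixL ρ
  x : ∀ t, ρ (lD g (xu t)) v = v
  y : ∀ t, ρ (lD g (xl t)) v = v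

theorem InB.w {v : V} (hv : InB ρ v) : ρ (lD g wL) v = v := by
  simp only [wL, map_mul, Module.End.mul_apply, hv.x, hv.y]

/-- The data in odd dimension. -/
structure OddData (ρ : Representation ℂ (Om (s + 2 + 1) g) V) : Prop where
  ctx : ∀ ψ' : AddChar F ℂ, ψ' ≠ 0 → CtxQ ρ ψ'
  aniso : ∀ w, g w = 0 → w = 0
  pol : ∃ w w' : W, polar g w w' ≠ 0
  two : (2 : F) ≠ 0
  card : Fintype.card W = Fintype.card F

theorem inB_central (C : OddData ρ) {v : V} (hv : InB ρ v) (S : Matrix (Fin (s + 2 + 1)) (Fin (s + 2 + 1)) F) :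
    ρ (zD g S) v = v := by
  classical
  have h0 : ∀ ψ' : AddChar F ℂ, ψ' ≠ 0 → SLn.proj ρ (z0 g) ψ' v = 0 := by
    intro ψ' hψ'
    refine eq_zero_of_sl2 (C.ctx ψ' hψ') C.aniso C.pol (proj_z0_mem hv.l ψ').2 (fun t => ?_) ?_
    · rw [SLn.proj_comm (ρ := ρ) (u := z0 g) (χ := ψ') (χ' := ψ') (AddEquiv.refl F)
        (fun a => xu_z0 t a) (fun _ => rfl) v, hv.x]
    · rw [SLn.proj_comm (ρ := ρ) (u := z0 g) (χ := ψ') (χ' := ψ') (AddEquiv.refl F)
        (fun a => xl_z0 1 a) (fun _ => rfl) v, hv.y]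
  have hv0 : SLn.proj ρ (z0 g) (0 : AddChar F ℂ) v = v := by
    conv_rhs => rw [← SLn.sum_proj (ρ := ρ) (u := z0 g) z0_add v]
    rw [Finset.sum_eq_single (0 : AddChar F ℂ) (fun χ _ hχ => h0 χ hχ) (by simp)]
  have h := (proj_z0_mem hv.l (0 : AddChar F ℂ)).2 S
  rw [hv0] at h
  rw [h, pr_apply]
  simp

/-- A vector fixed by the centre and by the roots outside the pair, moved by the Levi subgroup. -/
theorem odd_moved (C : OddData ρ) {u₀ : W}
    (hs : swp g (2 : Fin (s + 2 + 1)) * Hm g (refl g u₀) ∈ Om (s + 2 + 1) g) :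
    ∃ v : V, (∀ S, ρ (zD g S) v = v) ∧ (∀ a, ρ (lD g (SLn.u a)) v = v) ∧ ∃ A, ρ (lD g A) v ≠ v := by
  obtain ⟨ψ₀, hψ⟩ := SLn.exists_char (F := F)
  by_contra hall
  push Not at hall
  set S : Om (s + 2 + 1) g := ⟨_, hs⟩
  let F1 : Submodule ℂ V := fixL ρ ⊓ weightSpace ρ (z0 g) (0 : AddChar F ℂ)
  let F2 : Submodule ℂ V := fixL ρ ⊓ weightSpace ρ (fun t : F => lD g (xu t)) (0 : AddChar F ℂ)
  have hcen : ∀ v ∈ F1, ∀ S, ρ (zD g S) v = v := fun v hv S => by
    rw [zD_of_inL hv.1 (0 : AddChar F ℂ) hv.2, pr_apply]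
    simp
  have hrad : ∀ v ∈ F1, ∀ a, ρ (lD g (SLn.u a)) v = v := fun v hv a =>
    hv.1.l 0 ne01 ne02 (Fin.cons 0 a) (by simp)
  have h12 : F1 ≤ F2 := fun v hv => ⟨hv.1, fun t => by
    rw [hall v (hcen v hv) (hrad v hv)]
    simp⟩
  obtain ⟨v₀, hv₀, h0, -⟩ := qexists_v0 (C.ctx ψ₀ hψ)
  have hne : F1 ≠ F2 := by
    intro h
    have hm : v₀ ∈ F2 := ⟨vz_le_fixL (C.ctx ψ₀ hψ) hv₀.1, fun t => by
      rw [xu_fix_lz (C.ctx ψ₀ hψ) t hv₀]; simp⟩
    rw [← h] at hm
    obtain ⟨z, hz⟩ := AddChar.ne_zero_iff.1 hψ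
    have h1 := hcen v₀ hm (z • vecMulVec (ep F s) (eq' F s))
    rw [zD_on hv₀.1, zχ_vmv, ep_one, ep_two, eq_one, eq_two] at h1
    refine hz (smul_left_injective ℂ h0 ?_)
    simpa using h1
  have hmap1 : ∀ v ∈ F2, ρ S v ∈ F1 := fun v hv => ⟨swap_fixL hs hv.1, fun t => by
    rw [z0_swap hs, hv.2]; simp; rfl⟩
  have hmap2 : ∀ v ∈ F1, ρ S v ∈ F2 := fun v hv => ⟨swap_fixL hs hv.1, fun t => by
    show ρ (lD g (xu t)) (ρ S v) = _
    rw [xu_swap hs, hv.2]; simp; rfl⟩
  exact absurd (le_antisymm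
    (LinearMap.finrank_le_finrank_of_injective (f := (ρ S).restrict hmap2) fun v w h =>
      Subtype.ext (act_cancel _ (congrArg Subtype.val h)))
    (LinearMap.finrank_le_finrank_of_injective (f := (ρ S).restrict hmap1) fun v w h =>
      Subtype.ext (act_cancel _ (congrArg Subtype.val h))))
    (Submodule.finrank_lt_finrank_of_lt (lt_of_le_of_ne h12 hne)).ne

theorem xl_word (x : F) :
    (xl x : SLn.SLg F (s + 2)) = xu (-1) * xl 1 * xu (-x) * xl (-1) * xu 1 := by
  refine SLn.sl_ext_ac fun i => ?_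
  generalize SLn.ev F i = z
  simp only [SLn.ac_mul, xu_ac, xl_ac]
  funext k
  simp [ne12, ne12.symm]
  ring

/-- A nonconstant function generates all functions under translations and the exchange. -/
theorem span_line (K : Submodule ℂ (Option F → ℂ)) (h1 : (fun _ => (1 : ℂ)) ∈ K)
    (hu : ∀ t, ∀ h ∈ K, (fun p => h (σu t p)) ∈ K) (hw : ∀ h ∈ K, (fun p => h (σw p)) ∈ K)
    {h : Option F → ℂ} (hh : h ∈ K) {p : Option F} (hp : h p ≠ h none) : K = ⊤ := by
  classical
  set n : ℂ := (Fintype.card F : ℂ) + 1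
  obtain ⟨k, hk, hkn⟩ : ∃ k ∈ K, n * k none ≠ ∑ r, k r := by
    by_cases hc : n * h none = ∑ r, h r
    swap
    · exact ⟨h, hh, hc⟩
    have hn : n ≠ 0 := Nat.cast_add_one_ne_zero _
    have hperm : ∀ e : Option F → Option F, Function.Involutive e → ∑ r, h (e r) = ∑ r, h r :=
      fun e he => Fintype.sum_equiv he.toPerm _ _ fun r => rfl
    cases p with
    | none => exact absurd rfl hp
    | some a =>
      refine ⟨fun r => (fun r => h (σu a r)) (σw r), hw _ (hu a h hh), fun hc' => hp ?_⟩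
      have e : ∑ r, h (σu a (σw r)) = ∑ r, h r := by
        rw [show ∑ r, h (σu a (σw r)) = ∑ r, h (σu a r) from
          Fintype.sum_equiv (Function.Involutive.toPerm σw σw_invol) _ _ fun r => rfl]
        exact Fintype.sum_equiv ⟨σu a, σu (-a), fun r => (σu_inv a r).2, fun r => (σu_inv a r).1⟩ _ _
          fun r => rfl
      refine mul_left_cancel₀ hn ?_
      rw [hc, ← e, ← hc']
      simp [σw, σu]
  set A : Option F → ℂ := fun p => ∑ t : F, k (σu t p) with hA
  have hAK : A ∈ K := by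
    rw [show A = ∑ t : F, fun p => k (σu t p) from funext fun p => by simp [hA]]
    exact Submodule.sum_mem _ fun t _ => hu t k hk
  have hAs : ∀ a, A (some a) = (∑ r, k r) - k none := by
    intro a
    rw [Fintype.sum_option, add_sub_cancel_left]
    exact Fintype.sum_equiv (Equiv.addLeft a) _ _ fun t => rfl
  have hAn : A none = (Fintype.card F : ℂ) * k none := by simp [hA, σu]
  have hδ : (Pi.single none 1 : Option F → ℂ) ∈ K := by
    have hd : A - ((∑ r, k r) - k none) • (fun _ => (1 : ℂ)) =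
        (n * k none - ∑ r, k r) • (Pi.single none 1 : Option F → ℂ) := by
      funext r
      cases r with
      | none => simp [hAn, n]; ring
      | some a => simp [hAs]
    have := K.sub_mem hAK (K.smul_mem ((∑ r, k r) - k none) h1)
    rw [hd] at this
    have h2 := K.smul_mem (n * k none - ∑ r, k r)⁻¹ this
    rwa [inv_smul_smul₀ (sub_ne_zero.2 hkn)] at h2
  have hall : ∀ r : Option F, (Pi.single r 1 : Option F → ℂ) ∈ K := by
    intro r
    cases r with
    | none => exact hδ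
    | some a =>
      have e : (fun p => (fun p => (Pi.single none 1 : Option F → ℂ) (σw p)) (σu (-a) p)) =
          Pi.single (some a) 1 := by
        funext p
        cases p with
        | none => simp [σu, σw]
        | some b =>
          by_cases hb : b = a
          · subst hb; simp [σu, σw]
          · simp [σu, σw, hb, ← sub_eq_add_neg, sub_eq_zero]
      rw [← e]
      exact hu (-a) _ (hw _ hδ)
  refine eq_top_iff.2 fun f _ => ?_
  rw [pi_eq_sum_univ' f]
  exact Submodule.sum_mem _ fun r _ => K.smul_mem _ (hall r)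

/-- A subspace below the number of vectors on which the centre is trivial is fixed by the radical. -/
theorem nD_trivial_small (hW1 : ∃ w₁ : W, ∀ w, ∃ t : F, t • w₁ = w)
    (hlt : Module.finrank ℂ (weightSpace ρ (zD g) (0 : AddChar _ ℂ)) + 1 < Fintype.card F ^ (s + 3))
    (u : Fin (s + 2 + 1) → F) (w : W) {v : V} (hv : v ∈ weightSpace ρ (zD g) (0 : AddChar _ ℂ)) :
    ρ (nD g u w) v = v := by
  classical
  set Y := weightSpace ρ (zD g) (0 : AddChar (Matrix (Fin (s + 2 + 1)) (Fin (s + 2 + 1)) F) ℂ) with hY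
  obtain ⟨w₁, hw₁⟩ := hW1
  let H : Subgroup (Om (s + 2 + 1) g) :=
    { carrier := {x | (∀ y ∈ Y, ρ x y ∈ Y) ∧ ∀ y ∈ Y, ρ x⁻¹ y ∈ Y}
      one_mem' := ⟨fun y hy => by simpa using hy, fun y hy => by simpa using hy⟩
      mul_mem' := fun {a b} ha hb => ⟨fun y hy => by rw [← act_mul]; exact ha.1 _ (hb.1 y hy),
        fun y hy => by rw [_root_.mul_inv_rev, ← act_mul]; exact hb.2 _ (ha.2 y hy)⟩
      inv_mem' := fun {a} ha => ⟨ha.2, by rw [inv_inv]; exact ha.1⟩ }
  let ρY : Representation ℂ H Y := SLn.resRep (ρ := ρ.comp H.subtype) Y fun x y hy => x.2.1 y hy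
  let τ : Representation ℂ (Y ≃ₗ[ℂ] Y) Y :=
    { toFun := fun e => e.toLinearMap, map_one' := rfl, map_mul' := fun _ _ => rfl }
  let eqv : H →* (Y ≃ₗ[ℂ] Y) :=
    { toFun := fun x => LinearEquiv.ofLinear (ρY x) (ρY x⁻¹)
        (by rw [← Module.End.mul_eq_comp, ← map_mul, mul_inv_cancel, map_one]; rfl)
        (by rw [← Module.End.mul_eq_comp, ← map_mul, inv_mul_cancel, map_one]; rfl)
      map_one' := LinearEquiv.ext fun y => by show ρY 1 y = y; rw [map_one]; rfl
      map_mul' := fun a b => LinearEquiv.ext fun y => by show ρY (a * b) y = ρY a (ρY b y); rw [map_mul]; rfl }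
  have hn : ∀ a w', nD g a w' ∈ H := fun a w' =>
    ⟨fun y hy => nD_keep a w' hy, fun y hy => by
      rw [inv_eq_of_mul_eq_one_right (b := nD g a (-w')) (by rw [← nD_add, add_neg_cancel, nD_zero])]
      exact nD_keep a _ hy⟩
  have hl : ∀ A, lD g A ∈ H := fun A =>
    ⟨fun y hy => lD_map A (fun _ => rfl) hy, fun y hy => by
      rw [← map_inv]; exact lD_map A⁻¹ (fun _ => rfl) hy⟩
  let ua : (Fin (s + 2 + 1) → F) → (Y ≃ₗ[ℂ] Y) := fun a => eqv ⟨nD g a w₁, hn a w₁⟩
  have hua : ∀ a y, ((ua a y : Y) : V) = ρ (nD g a w₁) (y : V) := fun a y => rfl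
  have hadd : ∀ a b, ua (a + b) = ua a * ua b := fun a b => LinearEquiv.ext fun y => Subtype.ext (by
    show _ = ((ua a (ua b y) : Y) : V)
    have hz : ∀ S, ∀ x ∈ Y, ρ (zD g S) x = x := fun S x hx => by simpa using hx S
    rw [hua, hua, hua, nD_add_left, ← act_mul, ← act_mul,
      hz _ _ (nD_keep a w₁ (nD_keep b w₁ y.2))])
  obtain ⟨t, rfl⟩ := hw₁ w
  have key : ∀ a, ua a = 1 := by
    obtain ⟨ψ₀, hψ⟩ := SLn.exists_char (F := F)
    by_contra hall
    push Not at hall
    obtain ⟨a₀, ha₀⟩ := hall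
    obtain ⟨χ₀, hχ₀, hne₀⟩ : ∃ χ : AddChar (Fin (s + 2 + 1) → F) ℂ,
        χ ≠ 0 ∧ weightSpace τ ua χ ≠ ⊥ := by
      by_contra h
      push Not at h
      refine ha₀ (LinearEquiv.ext fun y => ?_)
      have hy : y ∈ weightSpace τ ua (0 : AddChar _ ℂ) := by
        rw [← SLn.sum_proj (ρ := τ) (u := ua) hadd y]
        refine Submodule.sum_mem _ fun χ _ => ?_
        by_cases hχ : χ = 0
        · subst hχ; exact SLn.proj_mem hadd 0 y
        · have := SLn.proj_mem (ρ := τ) hadd χ y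
          rw [h χ hχ, Submodule.mem_bot] at this
          rw [this]
          exact zero_mem _
      have h2 := mem_weightSpace.1 hy a₀
      rw [AddChar.zero_apply, one_smul] at h2
      exact h2
    obtain ⟨y₀, hy₀⟩ := (SLn.ch_bijective (r := s + 2 + 1) hψ).2 χ₀
    have hy₀0 : y₀ ≠ 0 := fun h => hχ₀ (by rw [← hy₀, h, SLn.ch_zero])
    have hge : ∀ χ ∈ (Finset.univ : Finset (AddChar (Fin (s + 2 + 1) → F) ℂ)).erase 0,
        1 ≤ Module.finrank ℂ (weightSpace τ ua χ) := by
      intro χ hχ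
      obtain ⟨y, hy⟩ := (SLn.ch_bijective (r := s + 2 + 1) hψ).2 χ
      have hy0 : y ≠ 0 := fun h => (Finset.mem_erase.1 hχ).1 (by rw [← hy, h, SLn.ch_zero])
      obtain ⟨A, hA⟩ := SLn.exists_sl_map_one (F := F) (r := s + 2) (by omega) hy₀0
      obtain ⟨B, hB⟩ := SLn.exists_sl_map_one (F := F) (r := s + 2) (by omega) hy0
      set C := Matrix.SpecialLinearGroup.transpose (A * B⁻¹) with hC
      have hrow : y ᵥ* C.1 = y₀ := by
        rw [hC, Matrix.SpecialLinearGroup.coe_transpose, Matrix.vecMul_transpose]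
        show SLn.ac (A * B⁻¹) y = y₀
        rw [← hB, SLn.ac_mul, SLn.ac_inv_ac, hA]
      refine le_trans (Nat.one_le_iff_ne_zero.2 fun h => hne₀ (Submodule.finrank_eq_zero.1 h)) ?_
      refine SLn.finrank_weight_le (l := eqv ⟨lD g C, hl C⟩)
        ⟨⟨SLn.ac C, SLn.ac C⁻¹, SLn.ac_inv_ac C, SLn.ac_ac_inv C⟩, SLn.ac_add C⟩ (fun a => ?_) (fun a => ?_)
      · show eqv _ * eqv _ = eqv _ * eqv _
        rw [← map_mul, ← map_mul]
        exact congrArg eqv (Subtype.ext (lD_nD a w₁ C))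
      · rw [← hy, ← hy₀, SLn.ch_apply, SLn.ch_apply, ← hrow]
        show ψ₀ (y ⬝ᵥ SLn.ac C a) = _
        rw [SLn.ac, Matrix.dotProduct_mulVec]
    have h1 := (Finset.card_nsmul_le_sum _ _ 1 hge).trans (sum_weights_le τ _)
    rw [smul_eq_mul, mul_one, Finset.card_erase_of_mem (Finset.mem_univ _), Finset.card_univ, AddChar.card_eq,
      Fintype.card_fun, Fintype.card_fin] at h1
    have e : s + 2 + 1 = s + 3 := by omega
    rw [e] at h1
    omega
  rw [← nD_smul]
  have h := hua (t • u) ⟨v, hv⟩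
  rw [key] at h
  exact h.symm

set_option maxHeartbeats 8000000 in
/-- The central part has at least as many dimensions as points. -/
theorem odd_central (C : OddData ρ) {u₀ : W}
    (hs : swp g (2 : Fin (s + 2 + 1)) * Hm g (refl g u₀) ∈ Om (s + 2 + 1) g) :
    (Fintype.card F : ℝ) ^ (s + 3) - 1 ≤
      (Module.finrank ℂ (weightSpace ρ (zD g) 0) : ℝ) * ((Fintype.card F : ℝ) - 1) := by
  classical
  by_contra hlt
  push Not at hlt
  obtain ⟨ψ₀, hψ⟩ := SLn.exists_char (F := F)
  obtain ⟨vm, hvm, hvu, Am, hAm⟩ := odd_moved C hs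
  have hW : ∀ A, ∀ x ∈ weightSpace ρ (zD g) (0 : AddChar _ ℂ),
      (ρ.comp (lD g)) A x ∈ weightSpace ρ (zD g) (0 : AddChar _ ℂ) :=
    fun A x hx => lD_map A (fun _ => rfl) hx
  let π := SLn.resRep (ρ := ρ.comp (lD g)) (weightSpace ρ (zD g) 0) hW
  have hval : ∀ A (v : weightSpace ρ (zD g) (0 : AddChar _ ℂ)),
      (π A v : V) = ρ (lD g A) (v : V) := fun A v => SLn.resRep_coe (ρ := ρ.comp (lD g)) _ hW A v
  have hv' : vm ∈ weightSpace ρ (zD g) (0 : AddChar _ ℂ) := fun S => by rw [hvm S]; simp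
  have hq : 4 ≤ Fintype.card F := (C.ctx ψ₀ hψ).q4
  have hmem : (⟨vm, hv'⟩ : weightSpace ρ (zD g) (0 : AddChar _ ℂ)) ∈ SLn.fixQ π :=
    SLn.mem_fixQ.2 fun a => Subtype.ext ((hval _ _).trans (hvu a))
  have hmove : π Am ⟨vm, hv'⟩ ≠ ⟨vm, hv'⟩ := fun h =>
    hAm ((hval _ _).symm.trans (congrArg Subtype.val h))
  have hfix := SLn.no_fixed_of_small (π := π) hlt hmem hmove
  have hne : SLn.fixQ π ≠ ⊥ := fun h => hmove (by
    rw [h, Submodule.mem_bot] at hmem
    rw [hmem, map_zero])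
  have hW1 : ∃ w₁ : W, ∀ w, ∃ t : F, t • w₁ = w := by
    obtain ⟨w₁, w', hp⟩ := C.pol
    have hw0 : w₁ ≠ 0 := fun h => hp (by rw [h, polar_zero_left])
    have hbij : Function.Bijective fun t : F => t • w₁ :=
      (Fintype.bijective_iff_injective_and_card _).2
        ⟨smul_left_injective F hw0, C.card.symm⟩
    exact ⟨w₁, hbij.2⟩
  have hltN : Module.finrank ℂ (weightSpace ρ (zD g) (0 : AddChar _ ℂ)) + 1 < Fintype.card F ^ (s + 3) := by
    have hq' : (4 : ℝ) ≤ Fintype.card F := by exact_mod_cast hq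
    have hN : (Fintype.card F : ℝ) ^ 3 ≤ (Fintype.card F : ℝ) ^ (s + 3) :=
      pow_le_pow_right₀ (by linarith) (by omega)
    rify
    nlinarith [(Nat.cast_nonneg _ : (0 : ℝ) ≤ (Module.finrank ℂ (weightSpace ρ (zD g) (0 : AddChar _ ℂ)) : ℝ))]
  obtain ⟨M⟩ := SLn.exists_pmodel (π := π) (by omega) hfix hne hlt
  let P : (Option F → ℂ) →ₗ[ℂ] V := (weightSpace ρ (zD g) (0 : AddChar _ ℂ)).subtype.comp (pairMap M)
  have hPinj : Function.Injective P := fun a b h => pairMap_injective M (Subtype.ext h)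
  have hPxu : ∀ t h, ρ (lD g (xu t)) (P h) = P fun p => h (σu (-t) p) := fun t h =>
    (hval _ _).symm.trans (congrArg Subtype.val (pairMap_xu M t h))
  have hPw : ∀ h, ρ (lD g wL) (P h) = P fun p => h (σw p) := fun h =>
    (hval _ _).symm.trans (congrArg Subtype.val (pairMap_wL M h))
  have hPc : ∀ h, ∀ S, ρ (zD g S) (P h) = P h := fun h S => by
    rw [show ρ (zD g S) (P h) = (0 : AddChar _ ℂ) S • P h from (pairMap M h).2 S]
    simp
  -- invariant vectors are the constants
  have hB : ∀ v, InB ρ v → ∃ c : ℂ, v = c • P (fun _ => 1) := by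
    intro v hv
    have hm : v ∈ weightSpace ρ (zD g) (0 : AddChar _ ℂ) := fun S => by rw [inB_central C hv S]; simp
    obtain ⟨h, hh⟩ := exists_pairMap M (v := ⟨v, hm⟩) fun i h1 h2 φ hφ =>
      Subtype.ext ((hval _ _).trans (hv.l.l i h1 h2 φ hφ))
    have hP : v = P h := congrArg Subtype.val hh
    have hu : ∀ t, (fun p => h (σu (-t) p)) = h := fun t => hPinj (by rw [← hPxu, ← hP, hv.x t])
    have hw : (fun p => h (σw p)) = h := hPinj (by rw [← hPw, ← hP, hv.w])
    refine ⟨h none, hP.trans ?_⟩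
    rw [← map_smul]
    congr 1
    funext p
    cases p with
    | none => simp
    | some a =>
      have e1 := congrFun (hu a) (some a)
      have e2 := congrFun hw (some 0)
      simp only [σu, σw, Option.map_some, add_neg_cancel, Option.elim] at e1 e2
      simp [← e1, ← e2]
  have hPl : ∀ h, P h ∈ fixL ρ := by
    intro h
    set v := P h
    have hl : ∀ i : Fin (s + 2 + 1), i ≠ 1 → i ≠ 2 → ∀ φ : Fin (s + 2 + 1) → F, φ i = 0 →
        ρ (lD g (T (Pi.single i 1) φ)) v = v := by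
      intro i h1 h2 φ hφ
      refine (hval _ _).symm.trans (congrArg Subtype.val ?_)
      rw [pairMap_apply, M.lam_map]
      congr 1
      funext x
      have e : cd (SLn.ac (T (Pi.single i (1 : F)) φ)⁻¹ x) = cd x := by
        have hd : φ ⬝ᵥ (Pi.single i 1 : Fin (s + 2 + 1) → F) = 0 := by simp [hφ]
        rw [T_inv hd, SLn.ac, T_mulVec (by simp [hφ])]
        simp [cd, h1.symm, h2.symm]
      rw [lift, lift, e]
    have hz : ∀ S, ρ (zD g S) v = v := hPc h
    refine ⟨fun i h1 h2 w => ?_, fun i h1 h2 b => hz _, hl⟩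
    exact nD_trivial_small hW1 hltN _ w (pairMap M h).2
  obtain ⟨S2, hS2⟩ : ∃ x : Om (s + 2 + 1) g, x = ⟨_, hs⟩ := ⟨_, rfl⟩
  set xo : F → Om (s + 2 + 1) g := fun t => (⟨_, hs⟩ : Om (s + 2 + 1) g) * lD g (xl t) * ⟨_, hs⟩ with hxo
  have hxoxu : ∀ t a v, ρ (lD g (xu a)) (ρ (xo t) v) = ρ (xo t) (ρ (lD g (xu a)) v) := fun t a v => by
    rw [act_mul, act_mul, hxo, ← xo_xu hs]
  have hxoxl : ∀ t a v, ρ (lD g (xl a)) (ρ (xo t) v) = ρ (xo t) (ρ (lD g (xl a)) v) := fun t a v => by
    rw [act_mul, act_mul, hxo, ← xo_xl hs]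
  have hxow : ∀ t v, ρ (lD g wL) (ρ (xo t) v) = ρ (xo t) (ρ (lD g wL) v) := fun t v => by
    simp only [wL, map_mul, Module.End.mul_apply, hxoxu, hxoxl]
  have hone : InB ρ (P fun _ => 1) := by
    refine ⟨hPl _, fun a => by rw [hPxu], fun a => ?_⟩
    have e : (xl a : SLn.SLg F (s + 2)) = wL * xu (-a) * wL⁻¹ := by
      rw [eq_mul_inv_iff_mul_eq]
      refine SLn.sl_ext_ac fun i => ?_
      generalize SLn.ev F i = z
      simp only [SLn.ac_mul, xu_ac, xl_ac, wL_ac]
      funext k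
      simp [ne12, ne12.symm]
      ring
    have hwi : ρ (lD g wL⁻¹) (P fun _ => 1) = P fun _ => 1 := by
      refine act_cancel (ρ := ρ) (lD g wL) ?_
      rw [act_mul, ← map_mul, mul_inv_cancel, map_one, map_one, Module.End.one_apply, hPw]
    simp only [e, map_mul, Module.End.mul_apply, hwi, hPxu, hPw]
  -- the opposite root subgroup keeps the vectors of the line
  have hkeep : ∀ t h, ρ (z0 g t) (P h) = P h := fun t h => hPc h _
  have hpres : ∀ t h b, ρ (z0 g b) (ρ (xo t) (P h)) = ρ (xo t) (P h) := by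
    intro t h b
    set x := ρ (xo t) (P h) with hx
    suffices hp : ∀ ψ' : AddChar F ℂ, ψ' ≠ 0 → SLn.proj ρ (z0 g) ψ' x = 0 by
      have e : SLn.proj ρ (z0 g) (0 : AddChar F ℂ) x = x := by
        conv_rhs => rw [← SLn.sum_proj (ρ := ρ) (u := z0 g) z0_add x]
        rw [Finset.sum_eq_single (0 : AddChar F ℂ) (fun χ _ hχ => hp χ hχ) (by simp)]
      have h' := SLn.proj_mem (ρ := ρ) (u := z0 g) z0_add (0 : AddChar F ℂ) x b
      rw [e] at h'
      simpa using h'
    intro ψ' hψ'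
    let Pm : (Option F → ℂ) →ₗ[ℂ] V := (SLn.proj ρ (z0 g) ψ').comp ((ρ (xo t)).comp P)
    have hPmu : ∀ a h, Pm (fun p => h (σu (-a) p)) = ρ (lD g (xu a)) (Pm h) := fun a h => by
      simp only [Pm, LinearMap.comp_apply]
      rw [← hPxu, ← hxoxu, SLn.proj_comm (ρ := ρ) (u := z0 g) (χ := ψ') (χ' := ψ') (AddEquiv.refl F)
        (fun c => xu_z0 a c) (fun _ => rfl)]
    have hwz : ∀ c : F, lD g wL * z0 g c = z0 g c * lD g (wL : SLn.SLg F (s + 2)) := fun c => by
      rw [wL, map_mul, map_mul, mul_assoc, mul_assoc, xu_z0, ← mul_assoc (lD g (xl (-1))), xl_z0,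
        mul_assoc (z0 g c), ← mul_assoc (lD g (xu 1)), xu_z0]
      group
    have hPmw : ∀ h, Pm (fun p => h (σw p)) = ρ (lD g wL) (Pm h) := fun h => by
      simp only [Pm, LinearMap.comp_apply]
      rw [← hPw, ← hxow, SLn.proj_comm (ρ := ρ) (u := z0 g) (χ := ψ') (χ' := ψ') (AddEquiv.refl F)
        (fun c => hwz c) (fun _ => rfl)]
    have hPm1 : Pm (fun _ => 1) = 0 := by
      have hb : InB ρ (ρ (xo t) (P fun _ => 1)) :=
        ⟨xo_fixL hs t (hPl _), fun a => by rw [hxoxu, hone.x], fun a => by rw [hxoxl, hone.y]⟩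
      have hm : ρ (xo t) (P fun _ => 1) ∈ weightSpace ρ (z0 g) (0 : AddChar F ℂ) := fun c => by
        rw [inB_central C hb]; simp
      simp only [Pm, LinearMap.comp_apply]
      rw [SLn.proj_of_mem hm, if_neg hψ'.symm]
    let K := LinearMap.ker Pm
    have hK : K = ⊤ := by
      obtain ⟨k, hk, p, hp⟩ : ∃ k ∈ K, ∃ p, k p ≠ k none := by
        by_contra hno
        push Not at hno
        let ι : (F → ℂ) →ₗ[ℂ] (Option F → ℂ) :=
          { toFun := fun f p => p.elim 0 f
            map_add' := fun a b => funext fun p => by cases p <;> simp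
            map_smul' := fun a b => funext fun p => by cases p <;> simp }
        let ε : Module.End ℂ V := ρ (lD g (SLn.tor 1 (-1)))
        let E : Submodule ℂ V := Vz ρ ψ' ⊓ LinearMap.eqLocus ε LinearMap.id
        have hin : ∀ f, Pm (ι f) ∈ E := fun f => by
          refine ⟨(proj_z0_mem (xo_fixL hs t (hPl _)) ψ').2, ?_⟩
          show ρ (lD g (SLn.tor 1 (-1))) (Pm (ι f)) = Pm (ι f)
          rw [← wL_sq, map_mul, ← act_mul, ← hPmw, ← hPmw]
          simp only [σw_invol]
        have hinj : Function.Injective ((Pm.comp ι).codRestrict E hin) := by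
          rw [← LinearMap.ker_eq_bot, LinearMap.ker_eq_bot']
          intro f hf
          have h0 : ι f ∈ K := congrArg Subtype.val hf
          funext a
          exact hno _ h0 (some a)
        have h1 := LinearMap.finrank_le_finrank_of_injective hinj
        rw [Module.finrank_pi] at h1
        obtain ⟨v, hv, hvm⟩ := neg_moves (C.ctx ψ' hψ') C.two C.pol
        have hlt2 : E < Vz ρ ψ' := lt_of_le_of_ne inf_le_left fun h => hvm (by
          have : v ∈ E := h ▸ hv
          exact this.2)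
        have h2 := Submodule.finrank_lt_finrank_of_lt hlt2
        have h3 := finrank_vz_le (C.ctx ψ' hψ')
        rw [C.card] at h3
        omega
      refine span_line K hPm1 (fun a h hh => ?_) (fun h hh => ?_) hk hp
      · show Pm _ = 0
        have := hPmu (-a) h
        rw [neg_neg] at this
        rw [this, LinearMap.mem_ker.1 hh, map_zero]
      · show Pm _ = 0
        rw [hPmw, LinearMap.mem_ker.1 hh, map_zero]
    exact (hK ▸ Submodule.mem_top : h ∈ K)
  -- hence it fixes them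
  have hS2' : ∀ a : F, lD g (xu a) = (⟨_, hs⟩ : Om (s + 2 + 1) g) * z0 g (-a) * ⟨_, hs⟩ := fun a => by
    rw [pD_z0 hs, neg_neg, mul_assoc, pD_sq, mul_one]
  have hxofix : ∀ t h, ρ (xo t) (P h) = P h := by
    intro t h
    set S : Om (s + 2 + 1) g := ⟨_, hs⟩ with hS
    have hSS : S * S = 1 := pD_sq g hs
    have e : xo t = z0 g (- -1) * xo 1 * z0 g (- -t) * xo (-1) * z0 g (-1) := by
      have hx : ∀ a, z0 g (-a) = S * lD g (xu a) * S := fun a => by
        rw [hS2' a]
        calc z0 g (-a) = (S * S) * z0 g (-a) * (S * S) := by rw [hSS, one_mul, mul_one]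
          _ = _ := by group
      rw [hxo]
      simp only [hx, ← hS]
      rw [xl_word t, map_mul, map_mul, map_mul, map_mul]
      generalize lD g (xu (-1 : F)) = a1
      generalize lD g (xl (1 : F)) = a2
      generalize lD g (xu (-t)) = a3
      generalize lD g (xl (-1 : F)) = a4
      generalize lD g (xu (1 : F)) = a5
      simp only [mul_assoc]
      simp only [← mul_assoc S S, hSS, one_mul]
    have e1 : ρ (xo 1) (ρ (xo (-1)) (P h)) = P h := by
      rw [act_mul]
      have : xo 1 * xo (-1) = 1 := by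
        rw [hxo]
        show S * _ * S * (S * _ * S) = 1
        calc _ = S * lD g (xl 1) * (S * S) * lD g (xl (-1)) * S := by group
          _ = S * (lD g (xl 1) * lD g (xl (-1))) * S := by rw [hSS, mul_one]; group
          _ = 1 := by
            rw [← map_mul, show (xl 1 : SLn.SLg F (s + 2)) * xl (-1) = 1 from ?_, map_one, mul_one, hSS]
            refine SLn.sl_ext_ac fun i => ?_
            generalize SLn.ev F i = z
            simp only [SLn.ac_mul, xl_ac, SLn.ac_one]
            funext k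
            simp [ne12]
      rw [this, map_one, Module.End.one_apply]
    rw [e]
    simp only [← act_mul]
    rw [hkeep, hpres, e1, hkeep]
  -- so the exchanged vectors are invariant
  have hexch : ∀ h, InB ρ (ρ (⟨_, hs⟩ : Om (s + 2 + 1) g) (P h)) := fun h =>
    ⟨swap_fixL hs (hPl h), fun a => by rw [xu_swap hs, hkeep], fun a => by
      have := hxofix a h
      rw [hxo] at this
      simp only [← act_mul] at this
      refine act_cancel (ρ := ρ) (⟨_, hs⟩ : Om (s + 2 + 1) g) ?_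
      rw [this, act_mul, pD_sq, map_one, Module.End.one_apply]⟩
  obtain ⟨a, ha⟩ := hB _ (hexch (Pi.single none 1))
  obtain ⟨b, hb⟩ := hB _ (hexch (Pi.single (some 0) 1))
  have hcomb : b • (Pi.single none 1 : Option F → ℂ) - a • Pi.single (some 0) 1 = 0 := hPinj (by
    rw [map_sub, map_smul, map_smul, map_zero]
    refine act_cancel (ρ := ρ) (⟨_, hs⟩ : Om (s + 2 + 1) g) ?_
    rw [map_sub, map_smul, map_smul, ha, hb, smul_comm, sub_self, map_zero])
  have hb0 : b = 0 := by simpa using congrFun hcomb none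
  rw [hb0, zero_smul] at hb
  have hz : P (Pi.single (some 0) 1) = 0 :=
    act_cancel (ρ := ρ) (⟨_, hs⟩ : Om (s + 2 + 1) g) (hb.trans (map_zero _).symm)
  have h1 := congrFun (hPinj (hz.trans (map_zero P).symm)) (some 0)
  simp at h1

end CfsgLib.MinDeg.OrthSiegel
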