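import Cfsg.Agent.Lib.KnownB.MinDeg.OrthSiegel.OddCentral
import Cfsg.Agent.Lib.KnownB.MinDeg.OrthSiegel.Minus

/-!
# The degree bound for the orthogonal groups of odd dimension
-/

set_option autoImplicit false
set_option linter.unusedSectionVars false
set_option backward.isDefEq.respectTransparency false
set_option maxHeartbeats 4000000
set_option synthInstance.maxHeartbeats 200000

open Matrix

namespace CfsgLib.MinDeg.OrthSiegel

open QuadraticMap CfsgLib.Orth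
open CfsgLib.KnownA.MinIndex (T T_mulVec vecMul_T T_inv T_conj T_mul_right T_mul_left T_smul)

variable {F : Type*} [Field F] [Fintype F] [DecidableEq F] {s : ℕ}
  {W : Type*} [AddCommGroup W] [Module F W] [Fintype W] {g : QuadraticForm F W}
  {V : Type*} [AddCommGroup V] [Module ℂ V] [FiniteDimensional ℂ V]
  {ρ : Representation ℂ (Om (s + 2 + 1) g) V} {ψ₀ : AddChar F ℂ}

/-- A form of rank at least four has many translates, one family for every non-zero scalar. -/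
theorem finrank_rank_four_mul (hψ : ψ₀ ≠ 0) (hg : (QuadraticMap.polarBilin g).Nondegenerate)
    {χ : AddChar (Matrix (Fin (s + 2 + 1)) (Fin (s + 2 + 1)) F) ℂ}
    (hne : weightSpace ρ (zD g) χ ≠ ⊥)
    {B : Matrix (Fin (s + 2 + 1)) (Fin (s + 2 + 1)) F} {u v u' v' : Fin (s + 2 + 1) → F}
    (hv : ∀ (t : F) x y, χ (t • vecMulVec x y) = ψ₀ (t * (x ⬝ᵥ B *ᵥ y)))
    (hsk : ∀ x y, x ⬝ᵥ B *ᵥ y + y ⬝ᵥ B *ᵥ x = 0) (halt : ∀ x, x ⬝ᵥ B *ᵥ x = 0)
    (huv : u ⬝ᵥ B *ᵥ v = 1) (huv' : u' ⬝ᵥ B *ᵥ v' = 1) (h1 : u ⬝ᵥ B *ᵥ u' = 0)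
    (h2 : u ⬝ᵥ B *ᵥ v' = 0) :
    (Fintype.card F - 1) * ((Fintype.card F ^ (s + 1)) ^ 2 * Fintype.card W ^ 2) ≤ Module.finrank ℂ V := by
  classical
  have hvu : v ⬝ᵥ B *ᵥ u = -1 := by linear_combination hsk u v - huv
  have hvu' : v' ⬝ᵥ B *ᵥ u' = -1 := by linear_combination hsk u' v' - huv'
  obtain ⟨D1, -⟩ := exists_shift (ρ := ρ) hψ hg χ u v (fun t => by rw [hv, hvu]; ring_nf) _ le_rfl
    (fun w _ hx => nD_keep _ w hx) (fun w _ hx => nD_keep _ w hx)
  set L := weightSpace ρ (zD g) χ ⊓ weightSpace ρ (nD g u) (0 : AddChar W ℂ) with hL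
  have hkeep : ∀ {x : Fin (s + 2 + 1) → F}, u ⬝ᵥ B *ᵥ x = 0 → ∀ w, ∀ z ∈ L, ρ (nD g x w) z ∈ L := by
    intro x hx w z hz
    refine ⟨nD_keep _ w hz.1, fun a => ?_⟩
    rw [act_mul, nD_mul, ← act_mul, ← act_mul, mem_weightSpace.1 hz.2 a, map_smul, map_smul,
      zD_on (nD_keep _ w hz.1), hv, show x ⬝ᵥ B *ᵥ u = 0 by linear_combination hsk u x - hx, mul_zero,
      AddChar.map_zero_eq_one, one_smul]
  obtain ⟨D2, -⟩ := exists_shift (ρ := ρ) hψ hg χ u' v' (fun t => by rw [hv, hvu']; ring_nf) L inf_le_left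
    (hkeep h1) (hkeep h2)
  have hLne : L ≠ ⊥ := D1.ne_bot hne
  have hlow : Fintype.card W ^ 2 ≤ Module.finrank ℂ (weightSpace ρ (zD g) χ) := by
    refine le_trans ?_ D1.card_le
    rw [AddChar.card_eq, _root_.sq]
    refine Nat.mul_le_mul_left _ (le_trans ?_ D2.card_le)
    rw [AddChar.card_eq]
    exact Nat.le_mul_of_pos_right _ (Nat.pos_of_ne_zero fun h => D2.ne_bot hLne (Submodule.finrank_eq_zero.1 h))
  have hind : ∀ b : F, b ≠ 0 → LinearIndependent F ![b • u, v] := by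
    intro b hb
    rw [LinearIndependent.pair_iff]
    intro x y hxy
    have e1 := congrArg (fun z => z ⬝ᵥ B *ᵥ v) hxy
    have e2 := congrArg (fun z => z ⬝ᵥ B *ᵥ u) hxy
    simp only [add_dotProduct, smul_dotProduct, zero_dotProduct, smul_eq_mul, halt, huv, hvu] at e1 e2
    exact ⟨(mul_eq_zero.1 (by linear_combination e1 : x * b = 0)).resolve_right hb,
      by linear_combination -e2⟩
  have hM : ∀ b : F, ∃ M : SLn.SLg F (s + 2), b ≠ 0 → SLn.ac M u = b • u ∧ SLn.ac M v = v := by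
    intro b
    by_cases hb : b = 0
    · exact ⟨1, fun h => absurd hb h⟩
    obtain ⟨M, hMb⟩ := SLn.exists_sl_map_exact ![b • u, v] (hind b hb) (by omega)
    obtain ⟨M₀, hM₀⟩ := SLn.exists_sl_map_exact ![u, v] (by simpa using hind 1 one_ne_zero) (by omega)
    have key : ∀ (i : Fin 2) (hi : i.val < s + 2 + 1), SLn.ac (M * M₀⁻¹) (![u, v] i) = ![b • u, v] i :=
      fun i hi => by rw [← hM₀ i hi, SLn.ac_mul, SLn.ac_inv_ac, hMb i hi]
    exact ⟨M * M₀⁻¹, fun _ => ⟨key 0 (by simp), key 1 (by simp)⟩⟩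
  choose M hMs using hM
  let P := Finset.univ.filter fun φ : Fin (s + 2 + 1) → F => φ ⬝ᵥ u = 0 ∧ φ ⬝ᵥ v = 0
  have hP : Fintype.card F ^ (s + 1) ≤ P.card := by
    have h := card_orth (F := F) (r := s + 2) u v
    rwa [Nat.card_eq_fintype_card, Fintype.card_subtype] at h
  let A : (Fin (s + 2 + 1) → F) × (Fin (s + 2 + 1) → F) → SLn.SLg F (s + 2) :=
    fun φ => T u φ.1 * T v φ.2
  let J := ((Finset.univ : Finset F).erase 0) ×ˢ (P ×ˢ P)
  let Φ := fun p : F × (Fin (s + 2 + 1) → F) × (Fin (s + 2 + 1) → F) =>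
    χ.compAddMonoidHom (congE (A p.2 * M p.1)).toAddMonoidHom
  have hΦ : ∀ p S, Φ p S = χ (cong (A p.2 * M p.1) S) := fun _ _ => rfl
  have hac : ∀ φ ∈ P ×ˢ P, ∀ x, SLn.ac (A φ) x = x + (φ.2 ⬝ᵥ x) • v + (φ.1 ⬝ᵥ x) • u := by
    intro φ hφ x
    simp only [Finset.mem_product, P, Finset.mem_filter, Finset.mem_univ, true_and] at hφ
    rw [SLn.ac_mul, SLn.ac, SLn.ac, T_mulVec hφ.2.2, T_mulVec hφ.1.1, dotProduct_add, dotProduct_smul,
      hφ.1.2, smul_zero, add_zero]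
  have hfix : ∀ ψ ∈ P ×ˢ P, SLn.ac (A ψ) u = u ∧ SLn.ac (A ψ) v = v := fun ψ hψ' => by
    have hψ'' := hψ'
    simp only [Finset.mem_product, P, Finset.mem_filter, Finset.mem_univ, true_and] at hψ''
    rw [hac ψ hψ', hac ψ hψ', hψ''.1.1, hψ''.1.2, hψ''.2.1, hψ''.2.2]
    simp
  have hΦv : ∀ p (t : F) (y x : Fin (s + 2 + 1) → F), Φ p (t • vecMulVec y x) =
      ψ₀ (t * (SLn.ac (A p.2 * M p.1) y ⬝ᵥ B *ᵥ SLn.ac (A p.2 * M p.1) x)) := by
    intro p t y x
    rw [hΦ, ← hv, ← Matrix.smul_vecMulVec, cong_vmv, SLn.ac_smul, Matrix.smul_vecMulVec]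
  have hinj : Set.InjOn Φ ↑J := by
    rintro ⟨b, φ⟩ hp ⟨b', φ'⟩ hp' h
    simp only [Finset.coe_product, Set.mem_prod, Finset.mem_coe, J, Finset.mem_erase, Finset.mem_univ,
      and_true] at hp hp'
    obtain ⟨hb, hφ⟩ := hp
    obtain ⟨hb', hφ'⟩ := hp'
    replace hφ : φ ∈ P ×ˢ P := Finset.mem_product.2 hφ
    replace hφ' : φ' ∈ P ×ˢ P := Finset.mem_product.2 hφ'
    have e0 : ∀ y x : Fin (s + 2 + 1) → F, SLn.ac (A φ * M b) y ⬝ᵥ B *ᵥ SLn.ac (A φ * M b) x =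
        SLn.ac (A φ' * M b') y ⬝ᵥ B *ᵥ SLn.ac (A φ' * M b') x := fun y x => by
      refine sub_eq_zero.1 (eq_zero_of_char hψ fun t => ?_)
      rw [mul_sub, AddChar.map_sub_eq_div, ← hΦv (b, φ), ← hΦv (b', φ'), h,
        div_self (addChar_ne_zero _ _)]
    have hbb : b = b' := by
      have h' := e0 u v
      simp only [SLn.ac_mul, (hMs b hb).1, (hMs b hb).2, (hMs b' hb').1, (hMs b' hb').2, SLn.ac_smul,
        (hfix φ hφ).1, (hfix φ hφ).2, (hfix φ' hφ').1, (hfix φ' hφ').2, smul_dotProduct, huv,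
        smul_eq_mul, mul_one] at h'
      exact h'
    subst hbb
    have e : ∀ y x : Fin (s + 2 + 1) → F, SLn.ac (A φ) y ⬝ᵥ B *ᵥ SLn.ac (A φ) x =
        SLn.ac (A φ') y ⬝ᵥ B *ᵥ SLn.ac (A φ') x := fun y x => by
      have := e0 (SLn.ac (M b)⁻¹ y) (SLn.ac (M b)⁻¹ x)
      simpa only [SLn.ac_mul, SLn.ac_ac_inv] using this
    refine Prod.ext rfl (Prod.ext (funext fun i => ?_) (funext fun i => ?_))
    · have h' := e v (Pi.single i 1)
      rw [(hfix φ hφ).2, (hfix φ' hφ').2, hac φ hφ, hac φ' hφ'] at h'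
      simp only [Matrix.mulVec_add, Matrix.mulVec_smul, dotProduct_add, dotProduct_smul, halt, hvu,
        smul_eq_mul, dotProduct_single, mul_one, mul_zero, add_zero] at h'
      linear_combination -h'
    · have h' := e u (Pi.single i 1)
      rw [(hfix φ hφ).1, (hfix φ' hφ').1, hac φ hφ, hac φ' hφ'] at h'
      simp only [Matrix.mulVec_add, Matrix.mulVec_smul, dotProduct_add, dotProduct_smul, halt, huv,
        smul_eq_mul, dotProduct_single, mul_one, mul_zero, add_zero] at h'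
      linear_combination h'
  calc (Fintype.card F - 1) * ((Fintype.card F ^ (s + 1)) ^ 2 * Fintype.card W ^ 2)
      ≤ J.card * Fintype.card W ^ 2 := by
        rw [← mul_assoc]
        refine Nat.mul_le_mul_right _ ?_
        rw [Finset.card_product, Finset.card_erase_of_mem (Finset.mem_univ _), Finset.card_univ,
          Finset.card_product, ← _root_.sq]
        exact Nat.mul_le_mul_left _ (Nat.pow_le_pow_left hP 2)
    _ = ∑ χ' ∈ J.image Φ, Fintype.card W ^ 2 := by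
        rw [Finset.sum_const, Finset.card_image_of_injOn hinj, smul_eq_mul]
    _ ≤ ∑ χ' ∈ J.image Φ, Module.finrank ℂ (weightSpace ρ (zD g) χ') := by
        refine Finset.sum_le_sum fun χ' hχ' => hlow.trans ?_
        obtain ⟨p, -, rfl⟩ := Finset.mem_image.1 hχ'
        refine finrank_ws_le (A p.2 * M p.1)⁻¹ fun S => ?_
        rw [hΦ]
        exact congrArg χ ((congE (A p.2 * M p.1)).apply_symm_apply S)
    _ ≤ _ := sum_weights_le ρ _

/-- The multiplicity does not depend on the character of the field. -/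
theorem exists_mult (hψ : ψ₀ ≠ 0) (hg : (QuadraticMap.polarBilin g).Nondegenerate)
    {χ₀ : AddChar (Matrix (Fin (s + 2 + 1)) (Fin (s + 2 + 1)) F) ℂ}
    (hne₀ : weightSpace ρ (zD g) χ₀ ≠ ⊥) (hd₀ : χ₀ ∈ dec ψ₀ (s + 2)) :
    ∀ ψ' : AddChar F ℂ, ψ' ≠ 0 → 1 ≤ Module.finrank ℂ (Lz ρ ψ') ∧
      ∀ χ ∈ dec ψ₀ (s + 2),
        Fintype.card W * Module.finrank ℂ (Lz ρ ψ') ≤ Module.finrank ℂ (weightSpace ρ (zD g) χ) := by
  classical
  intro ψ' hψ'
  obtain ⟨γ, hγ⟩ := exists_mulShift hψ ψ'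
  have hγ0 : γ ≠ 0 := fun h => hψ' (DFunLike.ext _ _ fun t => by rw [hγ, h]; simp)
  have hzeq : zχ ψ' s = pr ψ₀ (γ • ep F s) (eq' F s) := DFunLike.ext _ _ fun S => by
    show ψ' _ = ψ₀ _
    rw [hγ]
    congr 1
    simp only [smul_dotProduct, Matrix.mulVec_smul, dotProduct_smul, smul_eq_mul]
    ring
  have hind : LinearIndependent F ![γ • ep F s, eq' F s] := by
    rw [LinearIndependent.pair_iff]
    intro x y hxy
    rw [smul_smul] at hxy
    have h := LinearIndependent.pair_iff.1 (ep_eq_indep (F := F) (s := s)) _ _ hxy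
    exact ⟨(mul_eq_zero.1 h.1).resolve_right hγ0, h.2⟩
  have hall : ∀ χ ∈ dec ψ₀ (s + 2),
      Module.finrank ℂ (Vz ρ ψ') ≤ Module.finrank ℂ (weightSpace ρ (zD g) χ) := by
    intro χ hχ
    obtain ⟨a, b, hab, rfl⟩ := mem_dec.1 hχ
    obtain ⟨A, hA⟩ := pr_carry (ψ₀ := ψ₀) (two_le s) hab hind
    exact finrank_ws_le A fun S => by rw [hA, hzeq]
  have hzpos : Vz ρ ψ' ≠ ⊥ := by
    intro h
    obtain ⟨a, b, hab, rfl⟩ := mem_dec.1 hd₀
    obtain ⟨A, hA⟩ := pr_carry (ψ₀ := ψ₀) (two_le s) hind hab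
    have h' := finrank_ws_le (ρ := ρ) A hA
    rw [← hzeq, show weightSpace ρ (zD g) (zχ ψ' s) = ⊥ from h, finrank_bot, Nat.le_zero] at h'
    exact hne₀ (Submodule.finrank_eq_zero.1 h')
  obtain ⟨D, -⟩ := exists_shift (ρ := ρ) hψ' hg (zχ ψ' s) (ep F s) (eq' F s)
    (fun t => by rw [zχ_vmv]; simp [ne12, ne12.symm]) (Vz ρ ψ') le_rfl
    (fun w _ hx => nD_keep _ w hx) (fun w _ hx => nD_keep _ w hx)
  refine ⟨Nat.one_le_iff_ne_zero.2 fun h => D.ne_bot hzpos (Submodule.finrank_eq_zero.1 h),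
    fun χ hχ => ?_⟩
  have h := D.card_le
  rw [AddChar.card_eq] at h
  exact h.trans (hall χ hχ)

set_option maxHeartbeats 8000000 in
/-- The degree bound in odd dimension. -/
theorem odd_degree_bound (hg : (QuadraticMap.polarBilin g).Nondegenerate)
    (hW : Fintype.card W = Fintype.card F) (aniso : ∀ w, g w = 0 → w = 0)
    (pol : ∃ w w' : W, polar g w w' ≠ 0) (two : (2 : F) ≠ 0) (hq : 4 ≤ Fintype.card F)
    {u₀ : W} (hu₀ : g u₀ = 1)
    (h4 : Good F (Sp F (s + 2 + 1) W)) (hn : 5 ≤ Module.finrank F (Sp F (s + 2 + 1) W))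
    (hp : CfsgLib.Classical.HypPairs (bigForm (s + 2 + 1) g))
    (hρ : SLn.NoProper ρ) (h2 : 2 ≤ Module.finrank ℂ V) :
    Fintype.card F ^ (2 * (s + 3)) - 1 ≤ (Fintype.card F ^ 2 - 1) * Module.finrank ℂ V := by
  classical
  have : FiniteDimensional F W := Module.Finite.of_finite
  obtain ⟨ψ₀, hψ⟩ := SLn.exists_char (F := F)
  set q := Fintype.card F with hqdef
  set d := Module.finrank ℂ V with hd
  have hnt : ∃ S, ρ (zD g S) ≠ 1 := by
    by_contra hall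
    push Not at hall
    have h1 : ∀ x, ρ x = 1 := eq_one_of_zz g (two_le s) hg h4 hn hp ρ fun S => by
      have h := hall S
      unfold zD at h
      exact h
    obtain ⟨v, hv0⟩ : ∃ v : V, v ≠ 0 := by
      have : Nontrivial V := Module.nontrivial_of_finrank_pos (R := ℂ) (by omega)
      exact exists_ne 0
    rcases hρ (Submodule.span ℂ {v}) (fun x w hw => by rw [h1, Module.End.one_apply]; exact hw) with h | h
    · exact hv0 (Submodule.span_singleton_eq_bot.1 h)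
    · have := finrank_span_singleton (K := ℂ) hv0
      rw [h, finrank_top] at this
      omega
  obtain ⟨χ₀, hχ₀, hne₀⟩ := exists_weight ρ (zD g) zD_add hnt
  have h1le2 : 1 ≤ q ^ 2 := Nat.one_le_pow _ _ (by omega)
  have h1le6 : 1 ≤ q ^ (2 * (s + 3)) := Nat.one_le_pow _ _ (by omega)
  have hQ : (4 : ℝ) ≤ (q : ℝ) := by exact_mod_cast hq
  rw [← Nat.cast_le (α := ℝ)]
  push_cast [Nat.cast_sub h1le2, Nat.cast_sub h1le6]
  set Q : ℝ := (q : ℝ) with hQdef
  have hS : 0 ≤ Q ^ 2 - 1 := by nlinarith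
  have hpw : Q ^ (2 * (s + 3)) = Q ^ (s + 3) * Q ^ (s + 3) := by rw [← pow_add]; congr 1; omega
  by_cases hdec : ∀ χ : AddChar (Matrix (Fin (s + 2 + 1)) (Fin (s + 2 + 1)) F) ℂ, χ ≠ 0 →
      weightSpace ρ (zD g) χ ≠ ⊥ → χ ∈ dec ψ₀ (s + 2)
  swap
  · push Not at hdec
    obtain ⟨χ, hχ, hne, hnd⟩ := hdec
    rcases classify hψ χ hχ (fun S hS => char_symm hne hS) with
      ⟨B, u, v, u', v', hv, hsk, halt, huv, huv', h1, h2', -, -⟩ | hpr
    · have hb := finrank_rank_four_mul hψ hg hne hv hsk halt huv huv' h1 h2'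
      rw [hW, ← hd, ← hqdef] at hb
      have hb' : 2 * ((q ^ (s + 1)) ^ 2 * q ^ 2) ≤ d := le_trans (Nat.mul_le_mul_right _ (by omega)) hb
      have hbr : 2 * ((Q ^ (s + 1)) ^ 2 * Q ^ 2) ≤ (d : ℝ) := by rw [hQdef]; exact_mod_cast hb'
      refine le_trans ?_ (mul_le_mul_of_nonneg_left hbr hS)
      have e : Q ^ (2 * (s + 3)) = (Q ^ (s + 1)) ^ 2 * Q ^ 2 * Q ^ 2 := by
        rw [← pow_mul, ← pow_add, ← pow_add]; congr 1; omega
      rw [e]
      have hnn : 0 ≤ (Q ^ (s + 1)) ^ 2 * Q ^ 2 := by positivity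
      nlinarith [mul_le_mul_of_nonneg_left (show (2 : ℝ) ≤ Q ^ 2 by nlinarith) hnn]
    · exact absurd (mem_dec.2 hpr) hnd
  have hmult := exists_mult (ρ := ρ) hψ hg hne₀ (hdec χ₀ hχ₀ hne₀)
  set v0 := Module.finrank ℂ (weightSpace ρ (zD g) (0 : AddChar _ ℂ)) with hv0
  set N := (dec ψ₀ (s + 2)).card with hNdef
  have hsum : ∀ c, (∀ χ ∈ dec ψ₀ (s + 2), c ≤ Module.finrank ℂ (weightSpace ρ (zD g) χ)) →
      v0 + N * c ≤ d := by
    intro c hc
    refine le_trans ?_ (sum_weights_le ρ (u := zD g) (insert 0 (dec ψ₀ (s + 2))))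
    rw [Finset.sum_insert (zero_notMem_dec hψ)]
    refine Nat.add_le_add_left ?_ _
    rw [← smul_eq_mul]
    exact Finset.card_nsmul_le_sum _ _ _ hc
  have hN := card_pr (F := F) (r := s + 2) hψ (by omega)
  rw [← hqdef, ← hNdef, show s + 2 + 1 = s + 3 by omega] at hN
  have hqle : q ≤ q ^ (s + 3) := Nat.le_self_pow (by omega) q
  have h1le : 1 ≤ q ^ (s + 3) := Nat.one_le_pow _ _ (by omega)
  have hNr : (Q ^ (s + 3) - 1) * (Q ^ (s + 3) - Q) ≤ (N : ℝ) * ((Q ^ 2 - 1) * Q) := by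
    have := (Nat.cast_le (α := ℝ)).2 hN
    push_cast [Nat.cast_sub h1le, Nat.cast_sub hqle, Nat.cast_sub h1le2] at this
    exact this
  have hR3 : Q ^ 3 ≤ Q ^ (s + 3) := pow_le_pow_right₀ (by linarith) (by omega)
  have hR : 2 * Q + 1 ≤ Q ^ (s + 3) := by
    nlinarith [mul_le_mul_of_nonneg_left hQ (show (0 : ℝ) ≤ Q * Q by positivity)]
  rw [hpw]
  by_cases hbig : ∃ ψ' : AddChar F ℂ, ψ' ≠ 0 ∧ 2 ≤ Module.finrank ℂ (Lz ρ ψ')
  · obtain ⟨ψ', hψ', hl⟩ := hbig
    have h := hsum (2 * q) fun χ hχ => le_trans (by rw [hW, mul_comm 2]; exact Nat.mul_le_mul_left _ hl)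
      ((hmult ψ' hψ').2 χ hχ)
    have hr : (v0 : ℝ) + (N : ℝ) * (2 * Q) ≤ (d : ℝ) := by rw [hQdef]; exact_mod_cast h
    refine le_trans ?_ (mul_le_mul_of_nonneg_left hr hS)
    have hR1 : 0 ≤ Q ^ (s + 3) - 1 := by linarith
    nlinarith [mul_le_mul_of_nonneg_left hR hR1, mul_nonneg hS (Nat.cast_nonneg (α := ℝ) v0)]
  · push Not at hbig
    have hone : ∀ ψ' : AddChar F ℂ, ψ' ≠ 0 → Module.finrank ℂ (Lz ρ ψ') = 1 := fun ψ' hψ' => by
      have := (hmult ψ' hψ').1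
      have := hbig ψ' hψ'
      omega
    have hcen := odd_central (ρ := ρ)
      ⟨fun ψ' hψ' => ⟨hq, hψ', hg, hone ψ' hψ'⟩, aniso, pol, two, hW⟩ (swp_Hm_mem g hg h4 2 hu₀)
    rw [← hqdef, ← hQdef, ← hv0] at hcen
    have h := hsum q fun χ hχ => le_trans (by rw [hW, hone ψ₀ hψ, mul_one]) ((hmult ψ₀ hψ).2 χ hχ)
    have hr : (v0 : ℝ) + (N : ℝ) * Q ≤ (d : ℝ) := by rw [hQdef]; exact_mod_cast h
    refine le_trans ?_ (mul_le_mul_of_nonneg_left hr hS)
    nlinarith [mul_le_mul_of_nonneg_left hcen (show (0 : ℝ) ≤ Q + 1 by linarith)]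

section Odd

variable (F) in
/-- The square. -/
noncomputable def sqF : QuadraticForm F F := QuadraticMap.linMulLin LinearMap.id LinearMap.id

theorem sqF_apply (w : F) : sqF F w = w * w := by simp [sqF]

theorem sqF_polar (w w' : F) : polar (sqF F) w w' = 2 * w * w' := by
  simp [polar, sqF_apply]; ring

/-- The coordinates. -/
def oddCoord (F : Type*) [Field F] (m : ℕ) : (Unit ⊕ (Fin m ⊕ Fin m) → F) ≃ₗ[F] Sp F m F where
  toFun v := (fun i => v (Sum.inr (Sum.inl i)), fun i => v (Sum.inr (Sum.inr i)), v (Sum.inl ()))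
  map_add' _ _ := rfl
  map_smul' _ _ := rfl
  invFun p := Sum.elim (fun _ => p.2.2) (Sum.elim p.1 p.2.1)
  left_inv v := funext fun k => by rcases k with i | i | i <;> rfl
  right_inv _ := rfl

theorem oddCoord_quad (m : ℕ) (v : Unit ⊕ (Fin m ⊕ Fin m) → F) :
    bigForm m (sqF F) (oddCoord F m v) = oddForm F m v := by
  rw [← oddForm_apply]
  show bigForm m (sqF F) (_, _, _) = _
  rw [bigForm_apply, sqF_apply, Cfsg.quadFormOdd]
  simp only [dotProduct, pow_two]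
  ring

/-- The degree bound for the orthogonal groups of odd dimension. -/
theorem odd_omega_bound (s : ℕ) (two : (2 : F) ≠ 0) (hq : 4 ≤ Fintype.card F) {k : ℕ}
    (ρ : Representation ℂ (Cfsg.Omega F (Cfsg.quadFormOdd (s + 3) F)) (Fin k → ℂ))
    (hρ : ρ.IsIrreducible) (hk : 2 ≤ k) :
    Fintype.card F ^ (2 * (s + 3)) - 1 ≤ (Fintype.card F ^ 2 - 1) * k := by
  classical
  set E := (CfsgLib.Classical.omegaEquiv (oddForm F (s + 3)) (oddForm_apply (s + 3))).trans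
    (commTransport (oddCoord F (s + 3)) (oddCoord_quad (s + 3)))
  let ρ' : Representation ℂ (Om (s + 2 + 1) (sqF F)) (Fin k → ℂ) := ρ.comp E.symm.toMonoidHom
  have hρ' : SLn.NoProper ρ' := fun U hU => SLn.noProper_of_irreducible hρ U fun x v hv => by
    have := hU (E x) v hv
    rwa [show ρ' (E x) = ρ x from congrArg ρ (E.symm_apply_apply x)] at this
  have hfr : Module.finrank F (Sp F (s + 2 + 1) F) = 2 * s + 7 := by
    rw [Module.finrank_prod, Module.finrank_prod, Module.finrank_fin_fun, Module.finrank_self]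
    ring
  have h4 : Good F (Sp F (s + 2 + 1) F) := Or.inr (by rw [hfr]; omega)
  have hnd : (QuadraticMap.polarBilin (sqF F)).Nondegenerate := nondegenerate_of_left fun v hv => by
    have h := hv 1
    rw [sqF_polar, mul_one] at h
    exact (mul_eq_zero.1 h).resolve_left two
  have h := odd_degree_bound (g := sqF F) (s := s) (ρ := ρ') hnd rfl
    (fun w hw => mul_self_eq_zero.1 ((sqF_apply w).symm.trans hw))
    ⟨1, 1, by rw [sqF_polar, mul_one, mul_one]; exact two⟩ two hq (u₀ := 1) (by rw [sqF_apply, one_mul])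
    h4 (by rw [hfr]; omega)
    ((CfsgLib.Classical.hypPairs_odd (s + 3) (by omega)).ofPreserving
      (oddCoord F (s + 3)).toLinearMap (oddCoord_quad (s + 3)))
    hρ' (by rw [Module.finrank_fin_fun]; exact hk)
  rwa [Module.finrank_fin_fun] at h

end Odd

end CfsgLib.MinDeg.OrthSiegel
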