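import Cfsg.Agent.Lib.KnownB.MinDeg.OrthSiegel.QFix
import Cfsg.Agent.Lib.KnownB.MinDeg.SLn.PermModel

/-!
# The functions on the projective line of the pair inside the point model
-/

set_option autoImplicit false
set_option linter.unusedSectionVars false
set_option backward.isDefEq.respectTransparency false
set_option maxHeartbeats 4000000
set_option synthInstance.maxHeartbeats 200000

open Matrix

namespace CfsgLib.MinDeg.OrthSiegel

open QuadraticMap CfsgLib.Orth
open CfsgLib.KnownA.MinIndex (T T_mulVec vecMul_T T_inv T_conj T_mul_right T_mul_left T_smul)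

variable {F : Type*} [Field F] [Fintype F] [DecidableEq F] {s : ℕ}

/-- The point of the projective line of the pair under a vector. -/
def cd (x : Fin (s + 2 + 1) → F) : Option (Option F) :=
  if x 2 = 0 then (if x 1 = 0 then none else some none) else some (some (x 1 / x 2))

/-- The exchange of the two points. -/
noncomputable def wL : SLn.SLg F (s + 2) := xu 1 * xl (-1) * xu 1

/-- The action of `wL` on the projective line. -/
def σw (p : Option F) : Option F := p.elim (some 0) fun a => if a = 0 then none else some (-a⁻¹)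

/-- The action of the upper transvections on the projective line. -/
def σu (t : F) (p : Option F) : Option F := p.map (· + t)

theorem σw_invol (p : Option F) : σw (σw p) = p := by
  cases p with
  | none => simp [σw]
  | some a =>
    by_cases h : a = 0
    · simp [σw, h]
    · simp [σw, h]

theorem σu_inv (t : F) (p : Option F) : σu t (σu (-t) p) = p ∧ σu (-t) (σu t p) = p := by
  cases p <;> simp [σu]

theorem wL_ac (x : Fin (s + 2 + 1) → F) : SLn.ac wL x = x + (x 2 - x 1) • ep F s + (-x 1 - x 2) • eq' F s := by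
  rw [wL, SLn.ac_mul, SLn.ac_mul, xu_ac, xl_ac, xu_ac]
  funext k
  simp only [Pi.add_apply, Pi.smul_apply, smul_eq_mul, ep_one, ep_two, eq_one, eq_two]
  ring

theorem wL_pair (x : Fin (s + 2 + 1) → F) : SLn.ac wL x 1 = x 2 ∧ SLn.ac wL x 2 = -x 1 := by
  rw [wL_ac]
  constructor <;> simp [ne12, ne12.symm]

theorem wL_sq : (wL : SLn.SLg F (s + 2)) * wL = SLn.tor 1 (-1) := by
  refine SLn.sl_ext_ac fun i => ?_
  obtain ⟨h01, h02, h12⟩ := SLn.idx_ne (s := s)
  rw [SLn.ac_mul, SLn.tor_ac_ev, wL_ac, (wL_pair _).1, (wL_pair _).2, wL_ac]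
  funext k
  simp only [Pi.add_apply, Pi.smul_apply, smul_eq_mul, SLn.torDiag, Units.val_one, Units.val_neg]
  by_cases hi1 : i = 1
  · subst hi1
    simp [h01.symm, ne12, ne12.symm]
  by_cases hi2 : i = 2
  · subst hi2
    simp [h02.symm, h12.symm, ne12, ne12.symm]
  simp [hi1, hi2, Ne.symm hi1, Ne.symm hi2]

theorem cd_smul (a : F) (x : Fin (s + 2 + 1) → F) (ha : a ≠ 0) : cd (a • x) = cd x := by
  simp only [cd, Pi.smul_apply, smul_eq_mul, mul_eq_zero, ha, false_or, mul_div_mul_left _ _ ha]

theorem cd_xu (t : F) (x : Fin (s + 2 + 1) → F) : cd (SLn.ac (xu t) x) = (cd x).map (σu t) := by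
  have h1 : SLn.ac (xu t) x 1 = x 1 + x 2 * t := by rw [xu_ac]; simp
  have h2 : SLn.ac (xu t) x 2 = x 2 := by rw [xu_ac]; simp [ne12.symm]
  rw [cd, cd, h1, h2]
  by_cases hx : x 2 = 0
  · by_cases hy : x 1 = 0 <;> simp [hx, hy, σu]
  · rw [if_neg hx, if_neg hx]
    simp [σu, add_div, hx]

theorem cd_wL (x : Fin (s + 2 + 1) → F) : cd (SLn.ac wL x) = (cd x).map σw := by
  rw [cd, cd, (wL_pair x).1, (wL_pair x).2]
  by_cases hx : x 2 = 0
  · by_cases hy : x 1 = 0 <;> simp [hx, hy, σw]
  · by_cases hy : x 1 = 0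
    · simp [hx, hy, σw]
    · simp [hx, hy, σw, div_neg, inv_div]

theorem cd_zero : cd (0 : Fin (s + 2 + 1) → F) = none := by simp [cd]

variable {V : Type*} [AddCommGroup V] [Module ℂ V] [FiniteDimensional ℂ V]
  {π : Representation ℂ (SLn.SLg F (s + 2)) V} (M : SLn.PModel π)

/-- The function on vectors from a function on the projective line. -/
def lift (h : Option F → ℂ) (x : Fin (s + 2 + 1) → F) : ℂ := (cd x).elim 0 h

theorem lift_lineFun (h : Option F → ℂ) : SLn.PModel.LineFun (s := s) (lift h) :=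
  ⟨by rw [lift, cd_zero]; rfl, fun a x ha => by rw [lift, lift, cd_smul a x ha]⟩

/-- The vectors from the functions on the projective line. -/
noncomputable def pairMap : (Option F → ℂ) →ₗ[ℂ] V where
  toFun h := M.lam (lift h)
  map_add' h h' := by
    simp only [SLn.PModel.lam, ← Finset.sum_add_distrib, ← add_smul]
    refine Finset.sum_congr rfl fun x _ => ?_
    congr 1
    simp only [lift]
    cases cd x <;> simp
  map_smul' c h := by
    simp only [SLn.PModel.lam, RingHom.id_apply, Finset.smul_sum, smul_smul]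
    refine Finset.sum_congr rfl fun x _ => ?_
    congr 1
    simp only [lift]
    cases cd x <;> simp

theorem pairMap_apply (h : Option F → ℂ) : pairMap M h = M.lam (lift h) := rfl

theorem pairMap_xu (t : F) (h : Option F → ℂ) :
    π (xu t) (pairMap M h) = pairMap M fun p => h (σu (-t) p) := by
  rw [pairMap_apply, pairMap_apply, M.lam_map]
  congr 1
  funext x
  have e := cd_xu t (SLn.ac (xu t)⁻¹ x)
  rw [SLn.ac_ac_inv] at e
  rw [lift, lift, e]
  cases cd (SLn.ac (xu t)⁻¹ x) with
  | none => rfl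
  | some p => exact (congrArg h (σu_inv t p).2).symm

theorem pairMap_wL (h : Option F → ℂ) : π wL (pairMap M h) = pairMap M fun p => h (σw p) := by
  rw [pairMap_apply, pairMap_apply, M.lam_map]
  congr 1
  funext x
  have e := cd_wL (SLn.ac (wL : SLn.SLg F (s + 2))⁻¹ x)
  rw [SLn.ac_ac_inv] at e
  rw [lift, lift, e]
  cases cd (SLn.ac (wL : SLn.SLg F (s + 2))⁻¹ x) with
  | none => rfl
  | some p => exact (congrArg h (σw_invol p)).symm

theorem pairMap_injective : Function.Injective (pairMap M) := by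
  rw [← LinearMap.ker_eq_bot, LinearMap.ker_eq_bot']
  intro h hh
  rw [pairMap_apply] at hh
  have he : lift h (e₀ F s) = 0 := by simp [lift, cd]
  funext p
  obtain ⟨x, hx, hp⟩ : ∃ x : Fin (s + 2 + 1) → F, x ≠ 0 ∧ cd x = some p := by
    cases p with
    | none => exact ⟨ep F s, by simp, by simp [cd]⟩
    | some a => exact ⟨a • ep F s + eq' F s, fun h0 => by simpa using congrFun h0 2, by simp [cd]⟩
  have := M.eq_of_lam_eq_zero (lift_lineFun h) hh hx (y := e₀ F s) (by simp)
  rw [he, lift, hp] at this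
  exact this

/-- A combination invariant under the roots outside the pair comes from the projective line. -/
theorem exists_pairMap {v : V}
    (hv : ∀ i : Fin (s + 2 + 1), i ≠ 1 → i ≠ 2 → ∀ φ : Fin (s + 2 + 1) → F, φ i = 0 →
      π (T (Pi.single i 1) φ) v = v) : ∃ h, v = pairMap M h := by
  classical
  obtain ⟨f, hf, rfl⟩ := M.repr v
  have hinv : ∀ i : Fin (s + 2 + 1), i ≠ 1 → i ≠ 2 → ∀ φ : Fin (s + 2 + 1) → F, φ i = 0 →
      ∀ x : Fin (s + 2 + 1) → F, f (x + (φ ⬝ᵥ x) • Pi.single i 1) = f x := by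
    intro i h1 h2 φ hφ x
    have h := M.invariant_of_fixed hf (hv i h1 h2 φ hφ) x
    rwa [SLn.ac, T_mulVec (by simp [hφ])] at h
  have hmove : ∀ i : Fin (s + 2 + 1), i ≠ 1 → i ≠ 2 → ∀ (x : Fin (s + 2 + 1) → F) (j : Fin (s + 2 + 1)),
      j ≠ i → x j ≠ 0 → ∀ c, f (Function.update x i c) = f x := by
    intro i h1 h2 x j hji hj c
    rw [← hinv i h1 h2 (Pi.single j ((c - x i) / x j)) (by simp [hji.symm]) x]
    congr 1
    funext k
    by_cases hk : k = i
    · subst hk; simp [div_mul_cancel₀ _ hj]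
    · simp [hk]
  have hclear : ∀ (S : Finset (Fin (s + 2 + 1))) (x : Fin (s + 2 + 1) → F) (j : Fin (s + 2 + 1)),
      j ∉ S → x j ≠ 0 → (∀ i ∈ S, i ≠ 1 ∧ i ≠ 2) → f (fun k => if k ∈ S then 0 else x k) = f x := by
    intro S
    induction S using Finset.induction_on with
    | empty => intro x j _ _ _; simp
    | insert i S hi ih =>
      intro x j hj hxj hS
      have hjS : j ∉ S := fun h => hj (Finset.mem_insert_of_mem h)
      have hji : j ≠ i := fun h => hj (by simp [h])
      rw [← ih x j hjS hxj (fun k hk => hS k (Finset.mem_insert_of_mem hk)),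
        ← hmove i (hS i (Finset.mem_insert_self i S)).1 (hS i (Finset.mem_insert_self i S)).2
          (fun k => if k ∈ S then 0 else x k) j hji (by simpa [hjS] using hxj) 0]
      congr 1
      funext k
      by_cases hk : k = i
      · subst hk; simp
      · simp [hk]
  set L : Finset (Fin (s + 2 + 1)) := Finset.univ.filter fun i => i ≠ 1 ∧ i ≠ 2 with hL
  have h0L : (0 : Fin (s + 2 + 1)) ≠ 1 ∧ (0 : Fin (s + 2 + 1)) ≠ 2 := ⟨ne01, ne02⟩
  -- outside the pair the value is constant
  have hout : ∀ x, x ≠ 0 → x 1 = 0 → x 2 = 0 → f x = f (e₀ F s) := by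
    intro x hx hx1 hx2
    obtain ⟨j, hj⟩ := Function.ne_iff.1 hx
    have hj1 : j ≠ 1 := fun h => hj (by rw [h, hx1]; rfl)
    have hj2 : j ≠ 2 := fun h => hj (by rw [h, hx2]; rfl)
    obtain ⟨y, hy0, hy1, hy2, hyx⟩ : ∃ y : Fin (s + 2 + 1) → F, y 0 ≠ 0 ∧ y 1 = 0 ∧ y 2 = 0 ∧ f y = f x := by
      by_cases hj0 : j = 0
      · exact ⟨x, by subst hj0; simpa using hj, hx1, hx2, rfl⟩
      · exact ⟨Function.update x 0 1, by simp, by simp [hx1, h0L.1.symm], by simp [hx2, h0L.2.symm],
          hmove 0 h0L.1 h0L.2 x j hj0 (by simpa using hj) 1⟩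
    rw [← hyx, ← hclear (L.erase 0) y 0 (by simp) hy0 (fun i hi => by simp [hL] at hi; exact hi.2),
      ← hf.scale (y 0) (e₀ F s) hy0]
    congr 1
    funext k
    by_cases hk0 : k = 0
    · subst hk0; simp
    · by_cases hk1 : k = 1
      · subst hk1; simp [hk0, hL, hy1]
      · by_cases hk2 : k = 2
        · subst hk2; simp [hk0, hL, hy2]
        · simp [hk0, hk1, hk2, hL]
  let rep : Option F → (Fin (s + 2 + 1) → F) := fun p => p.elim (ep F s) fun a => a • ep F s + eq' F s
  have hin : ∀ x p, cd x = some p → f x = f (rep p) := by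
    intro x p hp
    obtain ⟨c, hc, hclr⟩ : ∃ c : F, c ≠ 0 ∧ (fun k => if k ∈ L then 0 else x k) = c • rep p := by
      by_cases hx2 : x 2 = 0
      · have hx1 : x 1 ≠ 0 := fun h => by simp [cd, hx2, h] at hp
        simp [cd, hx2, hx1] at hp
        subst hp
        refine ⟨x 1, hx1, funext fun k => ?_⟩
        by_cases hk1 : k = 1
        · subst hk1; simp [hL, rep]
        by_cases hk2 : k = 2
        · subst hk2; simp [hL, rep, hx2]
        simp [hL, rep, hk1, hk2]
      · simp [cd, hx2] at hp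
        subst hp
        refine ⟨x 2, hx2, funext fun k => ?_⟩
        by_cases hk1 : k = 1
        · subst hk1; simp [hL, rep, ne12, mul_div_cancel₀ _ hx2]
        by_cases hk2 : k = 2
        · subst hk2; simp [hL, rep, ne12.symm]
        simp [hL, rep, hk1, hk2]
    obtain ⟨j, hjL, hj⟩ : ∃ j, j ∉ L ∧ x j ≠ 0 := by
      by_cases hx2 : x 2 = 0
      · exact ⟨1, by simp [hL], fun h => by simp [cd, hx2, h] at hp⟩
      · exact ⟨2, by simp [hL], hx2⟩
    rw [← hclear L x j hjL hj (fun i hi => by simpa [hL] using hi), hclr, hf.scale c _ hc]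
  set a := f (e₀ F s) with ha
  refine ⟨fun p => f (rep p) - a, ?_⟩
  let one : (Fin (s + 2 + 1) → F) → ℂ := fun x => if x = 0 then 0 else 1
  have h1 : M.lam one = 0 := by
    rw [SLn.PModel.lam, ← M.star]
    refine Finset.sum_congr rfl fun x _ => ?_
    by_cases hx : x = 0
    · rw [hx, SLn.PModel.P, SLn.phi1_zero, smul_zero]
    · simp [one, hx]
  have e : ∀ x, lift (fun p => f (rep p) - a) x = f x - a * one x := by
    intro x
    by_cases hx : x = 0
    · subst hx; simp [lift, cd_zero, one, hf.zero]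
    rcases hc : cd x with _ | p
    · have hx12 : x 1 = 0 ∧ x 2 = 0 := by
        unfold cd at hc
        split_ifs at hc with h2 h1
        exact ⟨h1, h2⟩
      simp [lift, hc, one, hx, hout x hx hx12.1 hx12.2, ← ha]
    · simp [lift, hc, one, hx, hin x p hc]
  rw [pairMap_apply, show lift (fun p => f (rep p) - a) = fun x => f x - a * one x from funext e,
    M.lam_sub]
  have h2 : M.lam (fun x => a * one x) = a • M.lam one := by
    simp only [SLn.PModel.lam, Finset.smul_sum, smul_smul]
  rw [h2, h1, smul_zero, sub_zero]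

end CfsgLib.MinDeg.OrthSiegel
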