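import Cfsg.Agent.Lib.KnownB.MinDeg.OrthSiegel.PairModel

/-!
# Functions on the projective line of the pair: the sums used in the comparison of two models
-/

set_option autoImplicit false
set_option linter.unusedSectionVars false
set_option backward.isDefEq.respectTransparency false
set_option maxHeartbeats 4000000
set_option synthInstance.maxHeartbeats 200000

open Matrix
open scoped ComplexConjugate

namespace CfsgLib.MinDeg.OrthSiegel

open CfsgLib.KnownA.MinIndex (T T_mulVec vecMul_T T_inv T_conj T_mul_right T_mul_left T_smul)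

variable {F : Type*} [Field F] [Fintype F] [DecidableEq F] {s : ℕ}

variable (F) in
/-- The invariant function under translations of sum zero. -/
noncomputable def αL : Option F → ℂ := fun p => p.elim (Fintype.card F : ℂ) fun _ => -1

theorem αL_σu (t : F) (p : Option F) : αL F (σu t p) = αL F p := by
  cases p <;> rfl

/-- Every invariant subspace with a nonconstant function contains `αL`. -/
theorem αL_mem (K : Submodule ℂ (Option F → ℂ))
    (hu : ∀ t, ∀ h ∈ K, (fun p => h (σu t p)) ∈ K) (hw : ∀ h ∈ K, (fun p => h (σw p)) ∈ K)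
    {h : Option F → ℂ} (hh : h ∈ K) {p : Option F} (hp : h p ≠ h none) : αL F ∈ K := by
  classical
  set n : ℂ := (Fintype.card F : ℂ) + 1
  obtain ⟨k, hk, hkn⟩ : ∃ k ∈ K, n * k none ≠ ∑ r, k r := by
    by_cases hc : n * h none = ∑ r, h r
    swap
    · exact ⟨h, hh, hc⟩
    have hn : n ≠ 0 := Nat.cast_add_one_ne_zero _
    cases p with
    | none => exact absurd rfl hp
    | some a =>
      refine ⟨fun r => (fun r => h (σu a r)) (σw r), hw _ (hu a h hh), fun hc' => hp ?_⟩
      have e : ∑ r, h (σu a (σw r)) = ∑ r, h r := by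
        rw [show ∑ r, h (σu a (σw r)) = ∑ r, h (σu a r) from
          Fintype.sum_equiv (Function.Involutive.toPerm σw σw_invol) _ _ fun r => rfl]
        exact Fintype.sum_equiv ⟨σu a, σu (-a), fun r => (σu_inv a r).2, fun r => (σu_inv a r).1⟩ _ _
          fun r => rfl
      refine mul_left_cancel₀ hn ?_
      rw [hc, ← e, ← hc']
      simp [σw, σu]
  set A : Option F → ℂ := fun p => ∑ t : F, k (σu t p) with hA
  have hAK : A ∈ K := by
    rw [show A = ∑ t : F, fun p => k (σu t p) from funext fun p => by simp [hA]]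
    exact Submodule.sum_mem _ fun t _ => hu t k hk
  set β := (∑ r, k r) - k none with hβ
  set γ := (Fintype.card F : ℂ) * k none with hγ
  have hAs : ∀ a, A (some a) = β := by
    intro a
    rw [hβ, Fintype.sum_option, add_sub_cancel_left]
    exact Fintype.sum_equiv (Equiv.addLeft a) _ _ fun t => rfl
  have hAn : A none = γ := by simp [hA, hγ, σu]
  have hne : γ - β ≠ 0 := fun e => hkn (by
    rw [hβ, hγ] at e
    simp only [n]
    linear_combination e)
  have hD : (fun p => ∑ t : F, (A - fun p => A (σw p)) (σu t p)) ∈ K := by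
    rw [show (fun p => ∑ t : F, (A - fun p => A (σw p)) (σu t p)) =
      ∑ t : F, fun p => (A - fun p => A (σw p)) (σu t p) from funext fun p => by simp]
    exact Submodule.sum_mem _ fun t _ => hu t _ (K.sub_mem hAK (hw A hAK))
  have he : (fun p => ∑ t : F, (A - fun p => A (σw p)) (σu t p)) = (γ - β) • αL F := by
    funext p
    cases p with
    | none =>
      simp [σu, σw, hAn, hAs, αL]
      ring
    | some a =>
      rw [Finset.sum_eq_single (-a)]
      · simp [σu, σw, hAn, hAs, αL]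
      · intro t _ ht
        have : a + t ≠ 0 := fun h => ht (eq_neg_of_add_eq_zero_right h)
        simp [σu, σw, this, hAs]
      · simp
  rw [he] at hD
  have := K.smul_mem (γ - β)⁻¹ hD
  rwa [inv_smul_smul₀ hne] at this

/-- Sums of functions of the first three coordinates. -/
theorem sum_three (G : F → F → F → ℂ) :
    ∑ x : Fin (s + 2 + 1) → F, G (x 0) (x 1) (x 2) =
      (Fintype.card F : ℂ) ^ s * ∑ a, ∑ b, ∑ c, G a b c := by
  rw [← Equiv.sum_comp (Fin.consEquiv fun _ : Fin (s + 2 + 1) => F), Fintype.sum_prod_type, Finset.mul_sum]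
  refine Finset.sum_congr rfl fun a _ => ?_
  rw [← Equiv.sum_comp (Fin.consEquiv fun _ : Fin (s + 1 + 1) => F), Fintype.sum_prod_type, Finset.mul_sum]
  refine Finset.sum_congr rfl fun b _ => ?_
  rw [← Equiv.sum_comp (Fin.consEquiv fun _ : Fin (s + 1) => F), Fintype.sum_prod_type, Finset.mul_sum]
  refine Finset.sum_congr rfl fun c _ => ?_
  have h1 : (1 : Fin (s + 2 + 1)) = Fin.succ 0 := rfl
  have h2 : (2 : Fin (s + 2 + 1)) = Fin.succ (Fin.succ 0) := Fin.ext (by simp [Fin.val_ofNat, Nat.mod_eq_of_lt])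
  simp only [Fin.consEquiv_apply, h2, h1, Fin.cons_zero, Fin.cons_succ, Finset.sum_const, Finset.card_univ,
    Fintype.card_fun, Fintype.card_fin, nsmul_eq_mul, Nat.cast_pow]

/-- The indicator of zero. -/
def δ0 (a : F) : ℂ := if a = 0 then 1 else 0

theorem sum_δ0 : ∑ a : F, δ0 a = 1 := by simp [δ0]

theorem cd_eq (x : Fin (s + 2 + 1) → F) :
    cd x = if x 2 = 0 then (if x 1 = 0 then none else some none) else some (some (x 1 / x 2)) := rfl

theorem lift_one (x : Fin (s + 2 + 1) → F) :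
    lift (fun _ => 1) x = 1 - δ0 (x 1) * δ0 (x 2) := by
  rw [lift, cd_eq]
  by_cases h2 : x 2 = 0 <;> by_cases h1 : x 1 = 0 <;> simp [h1, h2, δ0]

theorem lift_αL (x : Fin (s + 2 + 1) → F) :
    lift (αL F) x = (Fintype.card F : ℂ) * δ0 (x 2) * (1 - δ0 (x 1)) - (1 - δ0 (x 2)) := by
  rw [lift, cd_eq]
  by_cases h2 : x 2 = 0 <;> by_cases h1 : x 1 = 0 <;> simp [h1, h2, δ0, αL]

theorem conj_δ0 (a : F) : conj (δ0 a) = δ0 a := by
  unfold δ0; split_ifs <;> simp

theorem δ0_mul_self (a : F) : δ0 a * δ0 a = δ0 a := by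
  unfold δ0; split_ifs <;> simp

theorem δ0_neg (a : F) : δ0 (-a) = δ0 a := by simp [δ0]

/-- The sums for the constant function. -/
theorem sums_one :
    (∑ x : Fin (s + 2 + 1) → F, lift (fun _ => (1 : ℂ)) x =
      (Fintype.card F : ℂ) ^ s * ((Fintype.card F : ℂ) ^ 3 - Fintype.card F)) ∧
    (∑ x : Fin (s + 2 + 1) → F, conj (lift (fun _ => (1 : ℂ)) x) * lift (fun _ => (1 : ℂ)) x =
      (Fintype.card F : ℂ) ^ s * ((Fintype.card F : ℂ) ^ 3 - Fintype.card F)) ∧
    ∑ x : Fin (s + 2 + 1) → F, conj (1 - δ0 (x 1) * δ0 (x 2)) * (1 - δ0 (F := F) (-x 0) * δ0 (x 2)) =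
      (Fintype.card F : ℂ) ^ s * ((Fintype.card F : ℂ) ^ 3 - 2 * Fintype.card F + 1) := by
  refine ⟨?_, ?_, ?_⟩
  · rw [Finset.sum_congr rfl fun x _ => lift_one x, sum_three fun _ b c => 1 - δ0 b * δ0 c]
    congr 1
    simp only [Finset.sum_sub_distrib, ← Finset.mul_sum, Finset.sum_const, Finset.card_univ,
      nsmul_eq_mul, mul_one, sum_δ0]
    ring
  · rw [Finset.sum_congr rfl fun x _ => show conj (lift (fun _ => (1 : ℂ)) x) * lift (fun _ => (1 : ℂ)) x =
      1 - δ0 (x 1) * δ0 (x 2) by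
        rw [lift_one]
        simp only [map_sub, map_mul, map_one, conj_δ0]
        linear_combination δ0 (x 2) * δ0 (x 2) * δ0_mul_self (x 1) + δ0 (x 1) * δ0_mul_self (x 2),
      sum_three fun _ b c => 1 - δ0 b * δ0 c]
    congr 1
    simp only [Finset.sum_sub_distrib, ← Finset.mul_sum, Finset.sum_const, Finset.card_univ,
      nsmul_eq_mul, mul_one, sum_δ0]
    ring
  · rw [Finset.sum_congr rfl fun x _ => show conj (1 - δ0 (x 1) * δ0 (x 2)) * (1 - δ0 (F := F) (-x 0) * δ0 (x 2)) =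
      1 - δ0 (x 1) * δ0 (x 2) - δ0 (x 0) * δ0 (x 2) + δ0 (x 0) * (δ0 (x 1) * δ0 (x 2)) by
        simp only [map_sub, map_mul, map_one, conj_δ0, δ0_neg]
        linear_combination δ0 (x 0) * δ0 (x 1) * δ0_mul_self (x 2),
      sum_three fun a b c => 1 - δ0 b * δ0 c - δ0 a * δ0 c + δ0 a * (δ0 b * δ0 c)]
    congr 1
    simp only [Finset.sum_add_distrib, Finset.sum_sub_distrib, ← Finset.mul_sum, Finset.sum_const,
      Finset.card_univ, nsmul_eq_mul, mul_one, sum_δ0]
    ring

/-- The sums for `αL`. -/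
theorem sums_αL :
    (∑ x : Fin (s + 2 + 1) → F, lift (αL F) x = 0) ∧
    (∑ x : Fin (s + 2 + 1) → F, conj (lift (αL F) x) * lift (αL F) x =
      (Fintype.card F : ℂ) ^ s * ((Fintype.card F : ℂ) ^ 2 * ((Fintype.card F : ℂ) ^ 2 - 1))) ∧
    ∑ x : Fin (s + 2 + 1) → F, conj ((Fintype.card F : ℂ) * δ0 (x 2) * (1 - δ0 (x 1)) - (1 - δ0 (x 2))) *
        ((Fintype.card F : ℂ) * δ0 (x 2) * (1 - δ0 (F := F) (-x 0)) - (1 - δ0 (x 2))) =
      (Fintype.card F : ℂ) ^ s * ((Fintype.card F : ℂ) ^ 3 * ((Fintype.card F : ℂ) - 1)) := by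
  set q : ℂ := (Fintype.card F : ℂ) with hq
  have hqc : conj q = q := Complex.conj_natCast _
  refine ⟨?_, ?_, ?_⟩
  · rw [Finset.sum_congr rfl fun x _ => show lift (αL F) x =
      (q + 1) * δ0 (x 2) - q * (δ0 (x 1) * δ0 (x 2)) - 1 by rw [lift_αL]; ring,
      sum_three fun _ b c => (q + 1) * δ0 c - q * (δ0 b * δ0 c) - 1]
    simp only [Finset.sum_sub_distrib, ← Finset.mul_sum, Finset.sum_const, Finset.card_univ,
      nsmul_eq_mul, mul_one, sum_δ0]
    ring
  · rw [Finset.sum_congr rfl fun x _ => show conj (lift (αL F) x) * lift (αL F) x =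
      (q ^ 2 - 1) * δ0 (x 2) - q ^ 2 * (δ0 (x 1) * δ0 (x 2)) + 1 by
        rw [lift_αL]
        simp only [map_sub, map_mul, map_one, conj_δ0, hqc, ← hq]
        linear_combination (q * (1 - δ0 (x 1)) + 1) ^ 2 * δ0_mul_self (x 2) +
          q ^ 2 * δ0 (x 2) * δ0_mul_self (x 1),
      sum_three fun _ b c => (q ^ 2 - 1) * δ0 c - q ^ 2 * (δ0 b * δ0 c) + 1]
    simp only [Finset.sum_add_distrib, Finset.sum_sub_distrib, ← Finset.mul_sum, Finset.sum_const,
      Finset.card_univ, nsmul_eq_mul, mul_one, sum_δ0]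
    ring
  · rw [Finset.sum_congr rfl fun x _ => show conj (q * δ0 (x 2) * (1 - δ0 (x 1)) - (1 - δ0 (x 2))) *
        (q * δ0 (x 2) * (1 - δ0 (F := F) (-x 0)) - (1 - δ0 (x 2))) =
      (q ^ 2 - 1) * δ0 (x 2) - q ^ 2 * (δ0 (x 1) * δ0 (x 2)) - q ^ 2 * (δ0 (x 0) * δ0 (x 2)) +
        q ^ 2 * (δ0 (x 0) * (δ0 (x 1) * δ0 (x 2))) + 1 by
        simp only [map_sub, map_mul, map_one, conj_δ0, hqc, δ0_neg]
        linear_combination (q * (1 - δ0 (x 1)) + 1) * (q * (1 - δ0 (x 0)) + 1) * δ0_mul_self (x 2),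
      sum_three fun a b c => (q ^ 2 - 1) * δ0 c - q ^ 2 * (δ0 b * δ0 c) - q ^ 2 * (δ0 a * δ0 c) +
        q ^ 2 * (δ0 a * (δ0 b * δ0 c)) + 1]
    simp only [Finset.sum_add_distrib, Finset.sum_sub_distrib, ← Finset.mul_sum, Finset.sum_const,
      Finset.card_univ, nsmul_eq_mul, mul_one, sum_δ0]
    ring

end CfsgLib.MinDeg.OrthSiegel
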