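import Cfsg.Agent.Lib.KnownB.MinDeg.OrthSiegel.PlusTwist
import Cfsg.Agent.Lib.KnownB.MinDeg.OrthSiegel.PlusLine
import Cfsg.Agent.Lib.KnownB.MinDeg.SLn.PermForm
import Cfsg.Agent.Lib.Classical.OrthCount

/-!
# The centralizer of the centre of the radical for plus type
-/

set_option autoImplicit false
set_option linter.unusedSectionVars false
set_option backward.isDefEq.respectTransparency false
set_option maxHeartbeats 4000000
set_option synthInstance.maxHeartbeats 200000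

open Matrix
open scoped ComplexConjugate

namespace CfsgLib.MinDeg.OrthSiegel

open QuadraticMap CfsgLib.Orth
open CfsgLib.KnownA.MinIndex (T T_mulVec vecMul_T T_inv T_conj T_mul_right T_mul_left T_smul)

variable {F : Type*} [Field F] [Fintype F] [DecidableEq F] {s : ℕ}
  {W : Type*} [AddCommGroup W] [Module F W] [Fintype W] {g : QuadraticForm F W}
  {V : Type*} [AddCommGroup V] [Module ℂ V] [FiniteDimensional ℂ V]
  {ρ : Representation ℂ (Om (s + 2 + 1) g) V} [Subsingleton W]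

variable (ρ) in
/-- The central part. -/
noncomputable abbrev Yc : Submodule ℂ V :=
  weightSpace ρ (zD g) (0 : AddChar (Matrix (Fin (s + 2 + 1)) (Fin (s + 2 + 1)) F) ℂ)

theorem yc_keep (A : SLn.SLg F (s + 2)) : ∀ x ∈ Yc ρ, (ρ.comp (lD g)) A x ∈ Yc ρ :=
  fun _ hx => lD_map A (fun _ => rfl) hx

variable (ρ) in
/-- The Levi subgroup on the central part. -/
noncomputable def piY : Representation ℂ (SLn.SLg F (s + 2)) (Yc ρ) :=
  SLn.resRep (ρ := ρ.comp (lD g)) (Yc ρ) yc_keep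

theorem piY_coe (A : SLn.SLg F (s + 2)) (v : Yc ρ) : (piY ρ A v : V) = ρ (lD g A) (v : V) := rfl

/-- Small central part and multiplicity one. -/
structure PlusData (ρ : Representation ℂ (Om (s + 2 + 1) g) V) : Prop where
  ctx : ∀ ψ' : AddChar F ℂ, ψ' ≠ 0 → CtxQ ρ ψ'
  small : (Module.finrank ℂ (Yc ρ) : ℝ) * ((Fintype.card F : ℝ) - 1) < (Fintype.card F : ℝ) ^ (s + 3) - 1

theorem wL_fix {v : V} (hx : ∀ t, ρ (lD g (xu t)) v = v) (hy : ∀ t, ρ (lD g (xl t)) v = v) :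
    ρ (lD g wL) v = v := by
  simp only [wL, map_mul, Module.End.mul_apply, hx, hy]

/-- The pair acts trivially on a weight space. -/
theorem vz_fix {ψ₀ : AddChar F ℂ} (C : CtxQ ρ ψ₀) {v : V} (hv : v ∈ Vz ρ ψ₀) :
    (∀ t, ρ (lD g (xu t)) v = v) ∧ ∀ t, ρ (lD g (xl t)) v = v := by
  have hLz : ∀ x ∈ Vz ρ ψ₀, x ∈ Lz ρ ψ₀ := fun x hx => ⟨hx, fun w => by
    rw [nD_eq_one, map_one, Module.End.one_apply]; simp⟩
  have hu : ∀ x ∈ Vz ρ ψ₀, ∀ t, ρ (lD g (xu t)) x = x := fun x hx t => xu_fix_lz C t (hLz x hx)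
  refine ⟨hu v hv, fun a => ?_⟩
  have e : (xl a : SLn.SLg F (s + 2)) = wL * xu (-a) * wL⁻¹ := by
    rw [eq_mul_inv_iff_mul_eq]
    refine SLn.sl_ext_ac fun i => ?_
    generalize SLn.ev F i = z
    simp only [SLn.ac_mul, xu_ac, xl_ac, wL_ac]
    funext k
    simp [ne12, ne12.symm]
    ring
  have hwk : ∀ x ∈ Vz ρ ψ₀, ρ (lD g wL) x ∈ Vz ρ ψ₀ := fun x hx => by
    simp only [wL, map_mul, Module.End.mul_apply]
    exact xu_keep _ (xl_keep _ (xu_keep _ hx))
  obtain ⟨y, hy⟩ : ∃ y : Vz ρ ψ₀, ρ (lD g wL) (y : V) = v := by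
    have hinj : Function.Injective ((ρ (lD g wL)).restrict hwk) := fun a b h =>
      Subtype.ext (act_cancel _ (congrArg Subtype.val h))
    obtain ⟨y, hy⟩ := LinearMap.injective_iff_surjective.1 hinj ⟨v, hv⟩
    exact ⟨y, congrArg Subtype.val hy⟩
  have hinv : ρ (lD g wL⁻¹) v = (y : V) := by
    rw [← hy, act_mul, ← map_mul, inv_mul_cancel, map_one, map_one, Module.End.one_apply]
  simp only [e, map_mul, Module.End.mul_apply]
  rw [hinv, hu _ y.2, hy]

/-- A vector of the twisted weight space. -/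
theorem twist_vec (C' : PlusData (tw ρ)) {ψ₀ : AddChar F ℂ} (hψ : ψ₀ ≠ 0) :
    ∃ v ∈ Yc ρ, v ∈ fixL ρ ∧ (∀ t, ρ (cS g (lD g (xl t))) v = v) ∧
      (∀ a, ρ (lD g (SLn.u a)) v = v) ∧ ∃ t, ρ (lD g (xu t)) v ≠ v := by
  obtain ⟨v, hv, h0, -⟩ := qexists_v0 (C'.ctx ψ₀ hψ)
  obtain ⟨hxu, hxl⟩ := vz_fix (C'.ctx ψ₀ hψ) hv.1
  have hfix : v ∈ fixL ρ := by
    have := vz_le_fixL (C'.ctx ψ₀ hψ) hv.1
    rwa [fixL_tw] at this
  have hz : ∀ t, ρ (z0 g t) v = v := fun t => by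
    have := hxu (-t)
    rwa [tw_apply, cS_xu, neg_neg] at this
  have hY : v ∈ Yc ρ := fun S => by
    rw [zD_of_inL hfix (0 : AddChar F ℂ) (fun t => by rw [hz, AddChar.zero_apply, one_smul]), pr_apply]
    simp
  refine ⟨v, hY, hfix, fun t => hxl t, fun a => hfix.l 0 ne01 ne02 (Fin.cons 0 a) (by simp), ?_⟩
  obtain ⟨z, hz'⟩ := AddChar.ne_zero_iff.1 hψ
  refine ⟨-z, fun h => hz' (smul_left_injective ℂ h0 ?_)⟩
  show ψ₀ z • v = (1 : ℂ) • v
  have h1 := zD_on hv.1 (vecMulVec (z • ep F s) (eq' F s))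
  rw [tw_apply, show cS g (zD g (vecMulVec (z • ep F s) (eq' F s))) = lD g (xu (-z)) from cS_z0 z, h,
    zχ_vmv'] at h1
  rw [one_smul]
  simpa using h1.symm

/-- The model of the central part. -/
theorem exists_plus_model (C : PlusData ρ) (C' : PlusData (tw ρ)) : Nonempty (SLn.PModel (piY ρ)) := by
  obtain ⟨ψ₀, hψ⟩ := SLn.exists_char (F := F)
  obtain ⟨v, hY, -, -, hrad, t, ht⟩ := twist_vec C' hψ
  have hmem : (⟨v, hY⟩ : Yc ρ) ∈ SLn.fixQ (piY ρ) :=
    SLn.mem_fixQ.2 fun a => Subtype.ext ((piY_coe _ _).trans (hrad a))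
  have hmove : piY ρ (xu t) ⟨v, hY⟩ ≠ ⟨v, hY⟩ := fun h =>
    ht ((piY_coe _ _).symm.trans (congrArg Subtype.val h))
  have hne : SLn.fixQ (piY ρ) ≠ ⊥ := fun h => hmove (by
    rw [h, Submodule.mem_bot] at hmem
    rw [hmem, map_zero])
  have hq : 4 ≤ Fintype.card F := (C.ctx ψ₀ hψ).q4
  exact SLn.exists_pmodel (by omega) (SLn.no_fixed_of_small C.small hmem hmove) hne C.small

/-- The functions on the line as vectors. -/
noncomputable def pY (M : SLn.PModel (piY ρ)) : (Option F → ℂ) →ₗ[ℂ] V :=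
  (Yc ρ).subtype.comp (pairMap M)

theorem pY_xu (M : SLn.PModel (piY ρ)) (t : F) (h : Option F → ℂ) :
    ρ (lD g (xu t)) (pY M h) = pY M fun p => h (σu (-t) p) :=
  (piY_coe _ _).symm.trans (congrArg Subtype.val (pairMap_xu M t h))

theorem pY_wL (M : SLn.PModel (piY ρ)) (h : Option F → ℂ) :
    ρ (lD g wL) (pY M h) = pY M fun p => h (σw p) :=
  (piY_coe _ _).symm.trans (congrArg Subtype.val (pairMap_wL M h))

theorem pY_injective (M : SLn.PModel (piY ρ)) : Function.Injective (pY M) :=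
  fun _ _ h => pairMap_injective M (Subtype.ext h)

theorem pY_mem (M : SLn.PModel (piY ρ)) (h : Option F → ℂ) : pY M h ∈ Yc ρ := (pairMap M h).2

theorem pY_fixL (M : SLn.PModel (piY ρ)) (h : Option F → ℂ) : pY M h ∈ fixL ρ := by
  refine ⟨fun i h1 h2 w => by rw [nD_eq_one, map_one, Module.End.one_apply], fun i h1 h2 b => ?_,
    fun i h1 h2 φ hφ => ?_⟩
  · rw [zD_on (pY_mem M h), AddChar.zero_apply, one_smul]
  · refine (piY_coe _ _).symm.trans (congrArg Subtype.val ?_)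
    rw [pairMap_apply, M.lam_map]
    congr 1
    funext x
    have e : cd (SLn.ac (T (Pi.single i (1 : F)) φ)⁻¹ x) = cd x := by
      have hd : φ ⬝ᵥ (Pi.single i 1 : Fin (s + 2 + 1) → F) = 0 := by simp [hφ]
      rw [T_inv hd, SLn.ac, T_mulVec (by simp [hφ])]
      simp [cd, h1.symm, h2.symm]
    rw [lift, lift, e]

theorem exists_pY (M : SLn.PModel (piY ρ)) {v : V} (hY : v ∈ Yc ρ) (hL : v ∈ fixL ρ) :
    ∃ h, v = pY M h := by
  obtain ⟨h, hh⟩ := exists_pairMap M (v := ⟨v, hY⟩) fun i h1 h2 φ hφ =>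
    Subtype.ext ((piY_coe _ _).trans (hL.l i h1 h2 φ hφ))
  exact ⟨h, congrArg Subtype.val hh⟩

/-- The Levi element exchanging the first two coordinates. -/
noncomputable def w01 : SLn.SLg F (s + 2) :=
  T (e₀ F s) (ep F s) * T (-ep F s) (e₀ F s) * T (e₀ F s) (ep F s)

theorem w01_dots : ep F s ⬝ᵥ e₀ F s = 0 ∧ e₀ F s ⬝ᵥ (-ep F s) = 0 := by
  simp [ne01, ne01.symm]

theorem w01_ac (x : Fin (s + 2 + 1) → F) :
    SLn.ac w01 x = x + (x 1 - x 0) • e₀ F s + (-x 0 - x 1) • ep F s := by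
  obtain ⟨d1, d2⟩ := w01_dots (F := F) (s := s)
  rw [w01, SLn.ac_mul, SLn.ac_mul, SLn.ac, SLn.ac, SLn.ac, T_mulVec d1, T_mulVec d2, T_mulVec d1]
  funext k
  simp [ne01, ne01.symm]
  ring

theorem w01_cS : cS g (lD g (w01 : SLn.SLg F (s + 2))) = lD g w01 := by
  obtain ⟨d1, d2⟩ := w01_dots (F := F) (s := s)
  refine cS_lD ?_ ?_
  · rw [w01_ac]
    simp [ne12, ne02]
  · have f1 : eq' F s ᵥ* (T (e₀ F s) (ep F s)).1 = eq' F s := by
      rw [vecMul_T d1]; simp [ne02]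
    have f2 : eq' F s ᵥ* (T (-ep F s) (e₀ F s)).1 = eq' F s := by
      rw [vecMul_T d2]; simp [ne12]
    rw [w01, Matrix.SpecialLinearGroup.coe_mul, Matrix.SpecialLinearGroup.coe_mul, ← Matrix.vecMul_vecMul,
      ← Matrix.vecMul_vecMul, f1, f2, f1]

theorem w01_inv_coords (x : Fin (s + 2 + 1) → F) :
    SLn.ac w01⁻¹ x 1 = x 0 ∧ SLn.ac w01⁻¹ x 2 = x 2 ∧ SLn.ac w01⁻¹ x 0 = -x 1 := by
  obtain ⟨y, rfl⟩ : ∃ y, SLn.ac w01 y = x := ⟨SLn.ac w01⁻¹ x, SLn.ac_ac_inv _ x⟩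
  rw [SLn.ac_inv_ac, w01_ac]
  refine ⟨?_, ?_, ?_⟩ <;> simp [ne01, ne01.symm, ne02, ne02.symm, ne12, ne12.symm]

variable (I : SLn.InvForm ρ)

variable (ρ) in
/-- The form on the central part. -/
noncomputable def formY : SLn.InvForm (piY ρ) where
  B u v := I.B u v
  add_right u v w := I.add_right _ _ _
  smul_right c u v := I.smul_right _ _ _
  conj_symm u v := I.conj_symm _ _
  pos v hv := I.pos _ fun h => hv (Subtype.ext h)
  inv A u v := I.inv (lD g A) _ _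

variable (ρ) in
/-- The form for the twisted representation. -/
noncomputable def formTw : SLn.InvForm (tw ρ) where
  B := I.B
  add_right := I.add_right
  smul_right := I.smul_right
  conj_symm := I.conj_symm
  pos := I.pos
  inv x := I.inv (cS g x)

theorem gram_pY {M : SLn.PModel (piY ρ)} (hM : M.I = formY ρ I) (h : Option F → ℂ) :
    I.B (pY M h) (pY M h) = (1 - M.off) * ((Fintype.card F : ℂ) - 1) *
        (∑ x, conj (lift (s := s) h x) * lift h x) +
      M.off * (∑ x, conj (lift (s := s) h x)) * (∑ x, lift (s := s) h x) ∧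
    I.B (pY M h) (ρ (lD g w01) (pY M h)) = (1 - M.off) * ((Fintype.card F : ℂ) - 1) *
        (∑ x, conj (lift (s := s) h x) * lift h (SLn.ac w01⁻¹ x)) +
      M.off * (∑ x, conj (lift (s := s) h x)) * (∑ x, lift (s := s) h x) := by
  constructor
  · rw [← SLn.PModel.inner_lam M (lift_lineFun h) (lift_lineFun h), hM]
    rfl
  · have e : ρ (lD g w01) (pY M h) = ((M.lam fun x => lift h (SLn.ac w01⁻¹ x) : Yc ρ) : V) :=
      (piY_coe _ _).symm.trans (congrArg Subtype.val (M.lam_map _ _))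
    have e2 : ∑ x, lift h (SLn.ac w01⁻¹ x) = ∑ x, lift (s := s) h x :=
      Fintype.sum_equiv ⟨SLn.ac w01⁻¹, SLn.ac w01, SLn.ac_ac_inv w01, SLn.ac_inv_ac w01⟩ _ _ fun _ => rfl
    rw [← e2, ← SLn.PModel.inner_lam M (lift_lineFun h) (SLn.PModel.lineFun_comp (lift_lineFun h) w01⁻¹),
      hM, e]
    rfl

/-- One of the two central parts is large. -/
theorem plus_false (C : PlusData ρ) (C' : PlusData (tw ρ)) : False := by
  classical
  obtain ⟨ψ₀, hψ⟩ := SLn.exists_char (F := F)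
  obtain ⟨I⟩ := SLn.exists_invForm ρ
  obtain ⟨M₀⟩ := exists_plus_model C C'
  obtain ⟨M, hM⟩ := M₀.exists_withForm (formY ρ I)
  obtain ⟨M₁⟩ := exists_plus_model C' (by rw [tw_tw]; exact C)
  obtain ⟨M', hM'⟩ := M₁.exists_withForm (formY (tw ρ) (formTw ρ I))
  -- the functions fixed by the opposite root subgroup
  let K : Submodule ℂ (Option F → ℂ) :=
    ⨅ t : F, LinearMap.ker ((ρ (cS g (lD g (xl t))) - 1).comp (pY M))
  have hK : ∀ h, h ∈ K ↔ ∀ t, ρ (cS g (lD g (xl t))) (pY M h) = pY M h := fun h => by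
    simp [K, Submodule.mem_iInf, sub_eq_zero]
  have hKu : ∀ a, ∀ h ∈ K, (fun p => h (σu a p)) ∈ K := fun a h hh => by
    refine (hK _).2 fun t => ?_
    have := pY_xu M (-a) h
    rw [neg_neg] at this
    rw [← this, act_mul, ← xo_comm_xu, ← act_mul, (hK h).1 hh t]
  have hKw : ∀ h ∈ K, (fun p => h (σw p)) ∈ K := fun h hh => by
    refine (hK _).2 fun t => ?_
    have hc : cS g (lD g (xl t)) * lD g wL = lD g wL * cS g (lD g (xl (s := s) t)) := by
      simp only [wL, map_mul]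
      rw [← mul_assoc, ← mul_assoc, ← xo_comm_xu, mul_assoc (lD g (xu (1 : F))), ← xo_comm_xl]
      simp only [mul_assoc]
      rw [← xo_comm_xu]
    rw [← pY_wL, act_mul, hc, ← act_mul, (hK h).1 hh t]
  obtain ⟨v, hY, hL, hxo, -, t, ht⟩ := twist_vec C' hψ
  obtain ⟨hv, rfl⟩ := exists_pY M hY hL
  have hnc : ∃ p, hv p ≠ hv none := by
    by_contra hall
    push Not at hall
    refine ht ((pY_xu M t hv).trans (congrArg (pY M) (funext fun p => ?_)))
    rw [hall, hall p]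
  obtain ⟨p, hp⟩ := hnc
  have hαK := αL_mem K hKu hKw ((hK hv).2 hxo) hp
  -- this vector is the constant of the twisted model
  set w := pY M (αL F) with hw
  have hwx : ∀ a, ρ (lD g (xu a)) w = w := fun a => by
    rw [hw, pY_xu]
    exact congrArg (pY M) (funext fun p => αL_σu _ p)
  have hwz : ∀ a, ρ (z0 g a) w = w := fun a => by
    rw [zD_on (pY_mem M _), AddChar.zero_apply, one_smul]
  have hwL : w ∈ fixL (tw ρ) := by rw [fixL_tw]; exact pY_fixL M _
  have hwY : w ∈ Yc (tw ρ) := fun S => by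
    rw [zD_of_inL hwL (0 : AddChar F ℂ) (fun a => by
      rw [tw_apply, cS_z0, hwx, AddChar.zero_apply, one_smul]), pr_apply]
    simp
  obtain ⟨hc, hwc⟩ := exists_pY M' hwY hwL
  have hcu : ∀ a, (fun p => hc (σu (-a) p)) = hc := fun a => pY_injective M' (by
    rw [← pY_xu, ← hwc, tw_apply, cS_xu, hwz])
  have hcw : (fun p => hc (σw p)) = hc := pY_injective M' (by
    rw [← pY_wL, ← hwc]
    refine wL_fix (fun a => ?_) (fun a => ?_)
    · rw [tw_apply, cS_xu, hwz]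
    · exact (hK _).1 hαK a)
  have hconst : hc = hc none • fun _ => (1 : ℂ) := by
    funext p
    cases p with
    | none => simp
    | some a =>
      have e1 := congrFun (hcu a) (some a)
      have e2 := congrFun hcw (some 0)
      simp only [σu, σw, Option.map_some, add_neg_cancel, Option.elim] at e1 e2
      simp [← e1, ← e2]
  set u := pY M' (fun _ => (1 : ℂ)) with hu
  set d := hc none
  have hwu : w = d • u := by rw [hwc, hconst, map_smul]
  have hgw : ρ (lD g w01) w = d • tw ρ (lD g w01) u := by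
    rw [hwu, tw_apply, w01_cS, map_smul]
  have hcross : I.B w (ρ (lD g w01) w) * I.B u u = I.B u (tw ρ (lD g w01) u) * I.B w w := by
    rw [hgw, hwu]
    simp only [I.smul_left, I.smul_right]
    ring
  obtain ⟨ga1, ga2⟩ := gram_pY I hM (αL F)
  obtain ⟨gb1, gb2⟩ := gram_pY (formTw ρ I) hM' (fun _ => (1 : ℂ))
  obtain ⟨a0, a1, a2⟩ := sums_αL (F := F) (s := s)
  obtain ⟨b0, b1, b2⟩ := sums_one (F := F) (s := s)
  set q : ℂ := (Fintype.card F : ℂ) with hq
  set S : ℂ := q ^ s with hS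
  have hconjα : (∑ x : Fin (s + 2 + 1) → F, conj (lift (αL F) x)) = 0 := by
    rw [← map_sum, a0, map_zero]
  have hconj1 : (∑ x : Fin (s + 2 + 1) → F, conj (lift (fun _ => (1 : ℂ)) x)) = S * (q ^ 3 - q) := by
    rw [← map_sum, b0, map_mul, map_sub, map_pow, map_pow, hq, Complex.conj_natCast]
  have a2' : ∑ x : Fin (s + 2 + 1) → F, conj (lift (αL F) x) * lift (αL F) (SLn.ac w01⁻¹ x) =
      S * (q ^ 3 * (q - 1)) := by
    rw [← a2]
    refine Finset.sum_congr rfl fun x _ => ?_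
    rw [lift_αL, lift_αL, (w01_inv_coords x).1, (w01_inv_coords x).2.1, δ0_neg]
  have b2' : ∑ x : Fin (s + 2 + 1) → F, conj (lift (fun _ => (1 : ℂ)) x) *
      lift (fun _ => (1 : ℂ)) (SLn.ac w01⁻¹ x) = S * (q ^ 3 - 2 * q + 1) := by
    rw [← b2]
    refine Finset.sum_congr rfl fun x _ => ?_
    rw [lift_one, lift_one, (w01_inv_coords x).1, (w01_inv_coords x).2.1, δ0_neg]
  rw [a1, hconjα] at ga1
  rw [a2', hconjα] at ga2
  rw [b1, b0, hconj1] at gb1
  rw [b2', b0, hconj1] at gb2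
  rw [← hw] at ga1 ga2
  rw [← hu] at gb1 gb2
  have e1 : I.B w w = (1 - M.off) * (q - 1) * (S * (q ^ 2 * (q ^ 2 - 1))) := by
    rw [ga1]; ring
  have e2 : I.B w (ρ (lD g w01) w) = (1 - M.off) * (q - 1) * (S * (q ^ 3 * (q - 1))) := by
    rw [ga2]; ring
  have e3 : I.B u u = (1 - M'.off) * (q - 1) * (S * (q ^ 3 - q)) +
      M'.off * (S * (q ^ 3 - q)) * (S * (q ^ 3 - q)) := gb1
  have e4 : I.B u (tw ρ (lD g w01) u) = (1 - M'.off) * (q - 1) * (S * (q ^ 3 - 2 * q + 1)) +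
      M'.off * (S * (q ^ 3 - q)) * (S * (q ^ 3 - q)) := gb2
  rw [e1, e2, e3, e4] at hcross
  have hoff := M'.off_eq
  rw [← hq, pow_add, ← hS] at hoff
  have hq4 : 4 ≤ Fintype.card F := (C.ctx ψ₀ hψ).q4
  have hq1 : q - 1 ≠ 0 := sub_ne_zero.2 (by rw [hq]; exact Nat.cast_ne_one.2 (by omega))
  have hq0 : q ≠ 0 := by rw [hq]; exact Nat.cast_ne_zero.2 (by omega)
  have hS0 : S ≠ 0 := pow_ne_zero _ hq0
  have hoff1 : (1 : ℂ) - M.off ≠ 0 := sub_ne_zero.2 M.off_ne_one.symm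
  have hX : (1 - M'.off) * (q - 1) * ((q - 1) ^ 2 * (q + 1)) + M'.off * S * (q ^ 3 - q) ^ 2 = 0 := by
    refine (mul_eq_zero.1 ?_).resolve_left
      (mul_ne_zero (mul_ne_zero (mul_ne_zero hoff1 hq1) (mul_ne_zero hS0 hS0)) (mul_ne_zero (pow_ne_zero 2 hq0) hq1))
    linear_combination -hcross
  have hZ : (q - 1) ^ 3 * (q + 1) * (1 + S * q ^ 2) = 0 := by
    linear_combination -(S * q ^ 3 - q) * hX +
      (S * (q ^ 3 - q) ^ 2 - (q - 1) * ((q - 1) ^ 2 * (q + 1))) * hoff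
  rcases mul_eq_zero.1 hZ with h | h
  · rcases mul_eq_zero.1 h with h | h
    · exact hq1 (pow_eq_zero_iff (n := 3) (by norm_num) |>.1 h)
    · rw [hq] at h
      exact Nat.cast_add_one_ne_zero _ h
  · rw [hS, hq, add_comm, ← pow_add, ← Nat.cast_pow] at h
    exact Nat.cast_add_one_ne_zero _ h

end CfsgLib.MinDeg.OrthSiegel
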