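import Cfsg.Agent.Lib.KnownB.MinDeg.OrthSiegel.PlusRankFour
import Cfsg.Agent.Lib.KnownB.MinDeg.OrthSiegel.PlusCentral

/-!
# The degree bound for the orthogonal groups of plus type
-/

set_option autoImplicit false
set_option linter.unusedSectionVars false
set_option backward.isDefEq.respectTransparency false
set_option maxHeartbeats 4000000
set_option synthInstance.maxHeartbeats 200000

open Matrix

namespace CfsgLib.MinDeg.OrthSiegel

open QuadraticMap CfsgLib.Orth
open CfsgLib.KnownA.MinIndex (T T_mulVec vecMul_T T_inv T_conj T_mul_right T_mul_left T_smul)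

variable {F : Type*} [Field F] [Fintype F] [DecidableEq F] {s : ℕ}
  {W : Type*} [AddCommGroup W] [Module F W] [Fintype W] {g : QuadraticForm F W}
  {V : Type*} [AddCommGroup V] [Module ℂ V] [FiniteDimensional ℂ V]
  {ρ : Representation ℂ (Om (s + 2 + 1) g) V} [Subsingleton W]

/-- Either the bound or the exceptional configuration. -/
theorem plus_cases (hg : (QuadraticMap.polarBilin g).Nondegenerate) (hs1 : 1 ≤ s)
    (hq : 4 ≤ Fintype.card F)
    (h4 : Good F (Sp F (s + 2 + 1) W)) (hn : 5 ≤ Module.finrank F (Sp F (s + 2 + 1) W))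
    (hp : CfsgLib.Classical.HypPairs (bigForm (s + 2 + 1) g))
    (hρ : SLn.NoProper ρ) (h2 : 2 ≤ Module.finrank ℂ V) :
    ((Fintype.card F : ℝ) ^ (s + 3) - 1) * ((Fintype.card F : ℝ) ^ (s + 2) + Fintype.card F) ≤
        ((Fintype.card F : ℝ) ^ 2 - 1) * Module.finrank ℂ V ∨
      PlusData ρ := by
  classical
  have : FiniteDimensional F W := Module.Finite.of_finite
  obtain ⟨ψ₀, hψ⟩ := SLn.exists_char (F := F)
  set q := Fintype.card F with hqdef
  set d := Module.finrank ℂ V with hd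
  have hnt : ∃ S, ρ (zD g S) ≠ 1 := by
    by_contra hall
    push Not at hall
    have h1 : ∀ x, ρ x = 1 := eq_one_of_zz g (two_le s) hg h4 hn hp ρ fun S => by
      have h := hall S
      unfold zD at h
      exact h
    obtain ⟨v, hv0⟩ : ∃ v : V, v ≠ 0 := by
      have : Nontrivial V := Module.nontrivial_of_finrank_pos (R := ℂ) (by omega)
      exact exists_ne 0
    rcases hρ (Submodule.span ℂ {v}) (fun x w hw => by rw [h1, Module.End.one_apply]; exact hw) with h | h
    · exact hv0 (Submodule.span_singleton_eq_bot.1 h)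
    · have := finrank_span_singleton (K := ℂ) hv0
      rw [h, finrank_top] at this
      omega
  obtain ⟨χ₀, hχ₀, hne₀⟩ := exists_weight ρ (zD g) zD_add hnt
  have hQ : (4 : ℝ) ≤ (q : ℝ) := by exact_mod_cast hq
  set Q : ℝ := (q : ℝ) with hQdef
  have hS : 0 ≤ Q ^ 2 - 1 := by nlinarith
  by_cases hdec : ∀ χ : AddChar (Matrix (Fin (s + 2 + 1)) (Fin (s + 2 + 1)) F) ℂ, χ ≠ 0 →
      weightSpace ρ (zD g) χ ≠ ⊥ → χ ∈ dec ψ₀ (s + 2)
  swap
  · push Not at hdec
    obtain ⟨χ, hχ, hne, hnd⟩ := hdec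
    rcases classify hψ χ hχ (fun S hS => char_symm hne hS) with
      ⟨B, u, v, u', v', hv, hsk, halt, huv, huv', h1, h2', h3', h4'⟩ | hpr
    · left
      have hb := rank_four_count hψ hs1 hq hne hv hsk halt huv huv' h1 h3' h2' h4'
      rw [← hd, ← hqdef] at hb
      have hbr : 2 * ((Q - 1) * (Q ^ (s + 1)) ^ 2) ≤ (d : ℝ) := by
        have h := (Nat.cast_le (α := ℝ)).2 hb
        push_cast [Nat.cast_sub (show 1 ≤ q by omega)] at h
        exact h
      refine le_trans ?_ (mul_le_mul_of_nonneg_left hbr hS)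
      set X := (Q ^ (s + 1)) ^ 2 with hX
      have hXp : 0 ≤ X := by positivity
      have e1 : Q ^ (s + 3) * Q ^ (s + 2) = X * Q ^ 3 := by
        rw [hX, ← pow_mul, ← pow_add, ← pow_add]; congr 1; omega
      have e2 : Q ^ (s + 3) * Q ≤ X * Q := by
        refine mul_le_mul_of_nonneg_right ?_ (by linarith)
        rw [hX, ← pow_mul]
        exact pow_le_pow_right₀ (by linarith) (by omega)
      have e3 : Q ^ 3 + Q ≤ 2 * (Q - 1) * (Q ^ 2 - 1) := by
        nlinarith [mul_le_mul_of_nonneg_left hQ (show (0 : ℝ) ≤ Q * Q by positivity)]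
      nlinarith [mul_le_mul_of_nonneg_left e3 hXp, pow_nonneg (show (0 : ℝ) ≤ Q by linarith) (s + 2)]
    · exact absurd (mem_dec.2 hpr) hnd
  have hmult := exists_mult (ρ := ρ) hψ hg hne₀ (hdec χ₀ hχ₀ hne₀)
  have hW : Fintype.card W = 1 := Fintype.card_eq_one_iff.2 ⟨0, fun w => Subsingleton.elim w 0⟩
  set v0 := Module.finrank ℂ (Yc ρ) with hv0
  set N := (dec ψ₀ (s + 2)).card with hNdef
  have hsum : ∀ c, (∀ χ ∈ dec ψ₀ (s + 2), c ≤ Module.finrank ℂ (weightSpace ρ (zD g) χ)) →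
      v0 + N * c ≤ d := by
    intro c hc
    refine le_trans ?_ (sum_weights_le ρ (u := zD g) (insert 0 (dec ψ₀ (s + 2))))
    rw [Finset.sum_insert (zero_notMem_dec hψ)]
    refine Nat.add_le_add_left ?_ _
    rw [← smul_eq_mul]
    exact Finset.card_nsmul_le_sum _ _ _ hc
  have hN := card_pr (F := F) (r := s + 2) hψ (by omega)
  rw [← hqdef, ← hNdef, show s + 2 + 1 = s + 3 by omega] at hN
  have hqle : q ≤ q ^ (s + 3) := Nat.le_self_pow (by omega) q
  have h1le : 1 ≤ q ^ (s + 3) := Nat.one_le_pow _ _ (by omega)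
  have h1le2 : 1 ≤ q ^ 2 := Nat.one_le_pow _ _ (by omega)
  have hNr : (Q ^ (s + 3) - 1) * (Q ^ (s + 2) - 1) ≤ (N : ℝ) * (Q ^ 2 - 1) := by
    have := (Nat.cast_le (α := ℝ)).2 hN
    push_cast [Nat.cast_sub h1le, Nat.cast_sub hqle, Nat.cast_sub h1le2] at this
    rw [← hQdef] at this
    refine le_of_mul_le_mul_right ?_ (show (0 : ℝ) < Q by linarith)
    calc (Q ^ (s + 3) - 1) * (Q ^ (s + 2) - 1) * Q = (Q ^ (s + 3) - 1) * (Q ^ (s + 3) - Q) := by
          rw [pow_succ Q (s + 2)]; ring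
      _ ≤ _ := by rw [mul_assoc]; exact this
  have hR2 : 2 + Q ≤ Q ^ (s + 2) := by
    have : Q ^ 2 ≤ Q ^ (s + 2) := pow_le_pow_right₀ (by linarith) (by omega)
    nlinarith
  have hR1 : 0 ≤ Q ^ (s + 3) - 1 := sub_nonneg.2 (one_le_pow₀ (by linarith))
  by_cases hbig : ∃ ψ' : AddChar F ℂ, ψ' ≠ 0 ∧ 2 ≤ Module.finrank ℂ (Lz ρ ψ')
  · left
    obtain ⟨ψ', hψ', hl⟩ := hbig
    have h := hsum 2 fun χ hχ => le_trans (by rw [hW, one_mul]; exact hl) ((hmult ψ' hψ').2 χ hχ)
    have hr : (v0 : ℝ) + (N : ℝ) * 2 ≤ (d : ℝ) := by exact_mod_cast h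
    refine le_trans ?_ (mul_le_mul_of_nonneg_left hr hS)
    nlinarith [mul_le_mul_of_nonneg_left hR2 hR1, mul_nonneg hS (Nat.cast_nonneg (α := ℝ) v0)]
  push Not at hbig
  have hone : ∀ ψ' : AddChar F ℂ, ψ' ≠ 0 → Module.finrank ℂ (Lz ρ ψ') = 1 := fun ψ' hψ' => by
    have := (hmult ψ' hψ').1
    have := hbig ψ' hψ'
    omega
  by_cases hsmall : (v0 : ℝ) * (Q - 1) < Q ^ (s + 3) - 1
  · exact Or.inr ⟨fun ψ' hψ' => ⟨hq, hψ', hg, hone ψ' hψ'⟩, hsmall⟩
  left
  push Not at hsmall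
  have h := hsum 1 fun χ hχ => le_trans (by rw [hW, hone ψ₀ hψ]) ((hmult ψ₀ hψ).2 χ hχ)
  rw [mul_one] at h
  have hr : (v0 : ℝ) + (N : ℝ) ≤ (d : ℝ) := by exact_mod_cast h
  refine le_trans ?_ (mul_le_mul_of_nonneg_left hr hS)
  nlinarith [mul_le_mul_of_nonneg_left hsmall (show (0 : ℝ) ≤ Q + 1 by linarith)]

/-- The degree bound for plus type. -/
theorem plus_degree_bound (hg : (QuadraticMap.polarBilin g).Nondegenerate) (hs1 : 1 ≤ s)
    (hq : 4 ≤ Fintype.card F)
    (h4 : Good F (Sp F (s + 2 + 1) W)) (hn : 5 ≤ Module.finrank F (Sp F (s + 2 + 1) W))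
    (hp : CfsgLib.Classical.HypPairs (bigForm (s + 2 + 1) g))
    (hρ : SLn.NoProper ρ) (h2 : 2 ≤ Module.finrank ℂ V) :
    (Fintype.card F ^ (s + 3) - 1) * (Fintype.card F ^ (s + 2) + Fintype.card F) ≤
      (Fintype.card F ^ 2 - 1) * Module.finrank ℂ V := by
  have h1le : 1 ≤ Fintype.card F ^ (s + 3) := Nat.one_le_pow _ _ (by omega)
  have h1le2 : 1 ≤ Fintype.card F ^ 2 := Nat.one_le_pow _ _ (by omega)
  rw [← Nat.cast_le (α := ℝ)]
  push_cast [Nat.cast_sub h1le, Nat.cast_sub h1le2]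
  rcases plus_cases hg hs1 hq h4 hn hp hρ h2 with h | C
  · exact h
  rcases plus_cases (ρ := tw ρ) hg hs1 hq h4 hn hp (tw_noProper hρ) h2 with h | C'
  · exact h
  exact (plus_false C C').elim

section Plus

variable (F) in
/-- The zero form. -/
noncomputable def zeroF : QuadraticForm F (Fin 0 → F) := 0

/-- The coordinates. -/
def plusCoord (F : Type*) [Field F] (m : ℕ) : (Fin m ⊕ Fin m → F) ≃ₗ[F] Sp F m (Fin 0 → F) where
  toFun v := (fun i => v (Sum.inl i), fun i => v (Sum.inr i), 0)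
  map_add' _ _ := Prod.ext rfl (Prod.ext rfl (Subsingleton.elim _ _))
  map_smul' _ _ := Prod.ext rfl (Prod.ext rfl (Subsingleton.elim _ _))
  invFun p := Sum.elim p.1 p.2.1
  left_inv v := funext fun k => by rcases k with i | i <;> rfl
  right_inv _ := Prod.ext rfl (Prod.ext rfl (Subsingleton.elim _ _))

theorem plusCoord_quad (m : ℕ) (v : Fin m ⊕ Fin m → F) :
    bigForm m (zeroF F) (plusCoord F m v) = plusForm F m v := by
  rw [← plusForm_apply]
  show bigForm m (zeroF F) (_, _, _) = _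
  rw [bigForm_apply]
  simp [zeroF, Cfsg.quadFormPlus, dotProduct]

set_option synthInstance.maxHeartbeats 2000000 in
/-- The degree bound for the orthogonal groups of plus type. -/
theorem plus_omega_bound (s : ℕ) (hs1 : 1 ≤ s) (hq : 4 ≤ Fintype.card F) {k : ℕ}
    (ρ : Representation ℂ (Cfsg.Omega F (Cfsg.quadFormPlus (s + 3) F)) (Fin k → ℂ))
    (hρ : ρ.IsIrreducible) (hk : 2 ≤ k) :
    (Fintype.card F ^ (s + 3) - 1) * (Fintype.card F ^ (s + 2) + Fintype.card F) ≤
      (Fintype.card F ^ 2 - 1) * k := by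
  classical
  set E := (CfsgLib.Classical.omegaEquiv (plusForm F (s + 3)) (plusForm_apply (s + 3))).trans
    (commTransport (plusCoord F (s + 3)) (plusCoord_quad (s + 3)))
  let ρ' : Representation ℂ (Om (s + 2 + 1) (zeroF F)) (Fin k → ℂ) :=
    ρ.comp E.symm.toMonoidHom
  have hρ' : SLn.NoProper ρ' := fun U hU => SLn.noProper_of_irreducible hρ U fun x v hv => by
    have := hU (E x) v hv
    rwa [show ρ' (E x) = ρ x from congrArg ρ (E.symm_apply_apply x)] at this
  have hfr : Module.finrank F (Sp F (s + 2 + 1) (Fin 0 → F)) = 2 * s + 6 := by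
    rw [Module.finrank_prod, Module.finrank_prod, Module.finrank_fin_fun, Module.finrank_fin_fun]
    ring
  have h4 : Good F (Sp F (s + 2 + 1) (Fin 0 → F)) := Or.inr (by rw [hfr]; omega)
  have h := plus_degree_bound (g := (zeroF F)) (s := s) (ρ := ρ')
    (nondegenerate_of_left fun v _ => Subsingleton.elim v 0) hs1 hq h4 (by rw [hfr]; omega)
    ((CfsgLib.Classical.hypPairs_plus (s + 3) (by omega)).ofPreserving
      (plusCoord F (s + 3)).toLinearMap (plusCoord_quad (s + 3)))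
    hρ' (by rw [Module.finrank_fin_fun]; exact hk)
  rwa [Module.finrank_fin_fun] at h

end Plus

end CfsgLib.MinDeg.OrthSiegel
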