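import Cfsg.Agent.Lib.KnownB.MinDeg.OrthSiegel.OddMain

/-!
# Translates of a form of rank at least four under the Levi subgroup and one torus element
-/

set_option autoImplicit false
set_option linter.unusedSectionVars false
set_option backward.isDefEq.respectTransparency false
set_option maxHeartbeats 4000000
set_option synthInstance.maxHeartbeats 200000

open Matrix

namespace CfsgLib.MinDeg.OrthSiegel

open QuadraticMap CfsgLib.Orth
open CfsgLib.KnownA.MinIndex (T T_mulVec vecMul_T T_inv T_conj T_mul_right T_mul_left T_smul)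

variable {F : Type*} [Field F] [Fintype F] [DecidableEq F] {s : ℕ}
  {W : Type*} [AddCommGroup W] [Module F W] [Fintype W] {g : QuadraticForm F W}
  {V : Type*} [AddCommGroup V] [Module ℂ V] [FiniteDimensional ℂ V]
  {ρ : Representation ℂ (Om (s + 2 + 1) g) V} {ψ₀ : AddChar F ℂ}

theorem dv_smul (d : Fin (s + 2 + 1) → Fˣ) (t : F) (x : Fin (s + 2 + 1) → F) :
    dv d (t • x) = t • dv d x := by
  funext i
  simp [dv]
  ring

/-- Twice as many translates as the Levi subgroup alone gives. -/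
theorem rank_four_count (hψ : ψ₀ ≠ 0) (hs1 : 1 ≤ s) (hq : 4 ≤ Fintype.card F)
    {χ : AddChar (Matrix (Fin (s + 2 + 1)) (Fin (s + 2 + 1)) F) ℂ}
    (hne : weightSpace ρ (zD g) χ ≠ ⊥)
    {B : Matrix (Fin (s + 2 + 1)) (Fin (s + 2 + 1)) F} {u v u' v' : Fin (s + 2 + 1) → F}
    (hv : ∀ (t : F) x y, χ (t • vecMulVec x y) = ψ₀ (t * (x ⬝ᵥ B *ᵥ y)))
    (hsk : ∀ x y, x ⬝ᵥ B *ᵥ y + y ⬝ᵥ B *ᵥ x = 0) (halt : ∀ x, x ⬝ᵥ B *ᵥ x = 0)
    (huv : u ⬝ᵥ B *ᵥ v = 1) (huv' : u' ⬝ᵥ B *ᵥ v' = 1) (h1 : u ⬝ᵥ B *ᵥ u' = 0)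
    (h3 : v ⬝ᵥ B *ᵥ u' = 0) (h2 : u ⬝ᵥ B *ᵥ v' = 0) (h4 : v ⬝ᵥ B *ᵥ v' = 0) :
    2 * ((Fintype.card F - 1) * (Fintype.card F ^ (s + 1)) ^ 2) ≤ Module.finrank ℂ V := by
  classical
  have hvu : v ⬝ᵥ B *ᵥ u = -1 := by linear_combination hsk u v - huv
  have hu'v : u' ⬝ᵥ B *ᵥ v = 0 := by linear_combination hsk u' v - h3
  have hu'u : u' ⬝ᵥ B *ᵥ u = 0 := by linear_combination hsk u' u - h1
  have hind : ∀ b : F, b ≠ 0 → LinearIndependent F ![b • u, v] := by
    intro b hb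
    rw [LinearIndependent.pair_iff]
    intro x y hxy
    have e1 := congrArg (fun z => z ⬝ᵥ B *ᵥ v) hxy
    have e2 := congrArg (fun z => z ⬝ᵥ B *ᵥ u) hxy
    simp only [add_dotProduct, smul_dotProduct, zero_dotProduct, smul_eq_mul, halt, huv, hvu] at e1 e2
    exact ⟨(mul_eq_zero.1 (by linear_combination e1 : x * b = 0)).resolve_right hb,
      by linear_combination -e2⟩
  have hM : ∀ b : F, ∃ M : SLn.SLg F (s + 2), b ≠ 0 → SLn.ac M u = b • u ∧ SLn.ac M v = v := by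
    intro b
    by_cases hb : b = 0
    · exact ⟨1, fun h => absurd hb h⟩
    obtain ⟨M, hMb⟩ := SLn.exists_sl_map_exact ![b • u, v] (hind b hb) (by omega)
    obtain ⟨M₀, hM₀⟩ := SLn.exists_sl_map_exact ![u, v] (by simpa using hind 1 one_ne_zero) (by omega)
    have key : ∀ (i : Fin 2) (hi : i.val < s + 2 + 1), SLn.ac (M * M₀⁻¹) (![u, v] i) = ![b • u, v] i :=
      fun i hi => by rw [← hM₀ i hi, SLn.ac_mul, SLn.ac_inv_ac, hMb i hi]
    exact ⟨M * M₀⁻¹, fun _ => ⟨key 0 (by simp), key 1 (by simp)⟩⟩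
  choose M hMs using hM
  -- the torus element scaling the third vector
  have hind3 : LinearIndependent F ![u', u, v] := by
    rw [Fintype.linearIndependent_iff]
    intro c hc
    rw [Fin.sum_univ_three] at hc
    simp only [Matrix.cons_val_zero, Matrix.cons_val_one, Matrix.cons_val] at hc
    have e1 := congrArg (fun z => z ⬝ᵥ B *ᵥ v') hc
    have e2 := congrArg (fun z => z ⬝ᵥ B *ᵥ v) hc
    have e3 := congrArg (fun z => z ⬝ᵥ B *ᵥ u) hc
    simp only [add_dotProduct, smul_dotProduct, zero_dotProduct, smul_eq_mul, halt, huv, hvu, huv',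
      hu'v, hu'u, h2, h4] at e1 e2 e3
    intro i
    fin_cases i
    · show c 0 = 0; linear_combination e1
    · show c 1 = 0; linear_combination e2
    · show c 2 = 0; linear_combination -e3
  obtain ⟨A₀, hA₀⟩ := SLn.exists_sl_map_exact ![u', u, v] hind3 (by omega)
  have hA0 : SLn.ac A₀ (e₀ F s) = u' := by
    have := hA₀ 0 (show (0 : ℕ) < s + 2 + 1 by omega)
    simpa using this
  have hA1 : SLn.ac A₀ (ep F s) = u := by
    have := hA₀ 1 (show (1 : ℕ) < s + 2 + 1 by omega)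
    have e : (⟨((1 : Fin 3) : ℕ), show (1 : ℕ) < s + 2 + 1 by omega⟩ : Fin (s + 2 + 1)) = 1 := Fin.ext (by simp)
    rw [e] at this
    simpa using this
  have hA2 : SLn.ac A₀ (eq' F s) = v := by
    have := hA₀ 2 (show (2 : ℕ) < s + 2 + 1 by omega)
    have e : (⟨((2 : Fin 3) : ℕ), show (2 : ℕ) < s + 2 + 1 by omega⟩ : Fin (s + 2 + 1)) = 2 := Fin.ext (by simp [Nat.mod_eq_of_lt])
    rw [e] at this
    simpa using this
  obtain ⟨c, hc⟩ := exists_unit_sq hq
  set d := d1 (s := s) 0 c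
  set X : (Fin (s + 2 + 1) → F) → (Fin (s + 2 + 1) → F) :=
    fun x => SLn.ac A₀ (dv (d * d) (SLn.ac A₀⁻¹ x)) with hXdef
  have hX : ∀ x, X x = x + (((c : F) * c - 1) * SLn.ac A₀⁻¹ x 0) • u' := by
    intro x
    set y := SLn.ac A₀⁻¹ x with hy
    have e : dv (d * d) y = y + (((c : F) * c - 1) * y 0) • e₀ F s := by
      funext i
      by_cases hi : i = 0
      · subst hi; simp [dv, d, d1]; ring
      · simp [dv, d, d1, hi]
    show SLn.ac A₀ (dv (d * d) y) = _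
    rw [e, SLn.ac_add, SLn.ac_smul, hA0, hy, SLn.ac_ac_inv]
  have hXu : X u = u := by
    rw [hX, show SLn.ac A₀⁻¹ u = ep F s by rw [← hA1, SLn.ac_inv_ac]]
    simp
  have hXv : X v = v := by
    rw [hX, show SLn.ac A₀⁻¹ v = eq' F s by rw [← hA2, SLn.ac_inv_ac]]
    simp [eq', ne02]
  have hXsmul : ∀ (t : F) x, X (t • x) = t • X x := fun t x => by
    simp only [hXdef, SLn.ac_smul, dv_smul]
  let fX : Matrix (Fin (s + 2 + 1)) (Fin (s + 2 + 1)) F ≃+ Matrix (Fin (s + 2 + 1)) (Fin (s + 2 + 1)) F :=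
    ((congE A₀⁻¹).trans (dsE (d * d))).trans (congE A₀)
  have hfX : ∀ x y, fX (vecMulVec x y) = vecMulVec (X x) (X y) := fun x y => by
    show cong A₀ (dsE (d * d) (cong A₀⁻¹ (vecMulVec x y))) = _
    rw [cong_vmv, dsE_vmv, cong_vmv]
  let χX := χ.compAddMonoidHom fX.toAddMonoidHom
  have hneX : weightSpace ρ (zD g) χX ≠ ⊥ := by
    have hl : ∀ S, lD g A₀ * tD g d * lD g A₀⁻¹ * zD g S = zD g (fX S) * (lD g A₀ * tD g d * lD g A₀⁻¹) := by
      intro S
      show _ = zD g (cong A₀ (dsE (d * d) (cong A₀⁻¹ S))) * _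
      rw [mul_assoc, lD_zD, mul_assoc (lD g A₀) (tD g d), ← mul_assoc (tD g d), tD_zD, ← mul_assoc (lD g A₀),
        ← mul_assoc (lD g A₀), lD_zD]
      simp only [mul_assoc]
    have hinvl : ∀ S, (lD g A₀ * tD g d * lD g A₀⁻¹)⁻¹ * zD g S =
        zD g (fX.symm S) * (lD g A₀ * tD g d * lD g A₀⁻¹)⁻¹ := by
      intro S
      rw [inv_mul_eq_iff_eq_mul, ← mul_assoc, hl, fX.apply_symm_apply, mul_inv_cancel_right]
    intro h
    refine hne (Submodule.finrank_eq_zero.1 (Nat.le_zero.1 ?_))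
    calc Module.finrank ℂ (weightSpace ρ (zD g) χ) ≤ Module.finrank ℂ (weightSpace ρ (zD g) χX) :=
          SLn.finrank_weight_le (ρ := ρ) (l := (lD g A₀ * tD g d * lD g A₀⁻¹)⁻¹) fX.symm hinvl
            fun S => congrArg χ (fX.apply_symm_apply S)
      _ = 0 := by rw [h, finrank_bot]
  let Bf : Bool → (Fin (s + 2 + 1) → F) → (Fin (s + 2 + 1) → F) → F :=
    fun ε y x => bif ε then X y ⬝ᵥ B *ᵥ X x else y ⬝ᵥ B *ᵥ x
  let χf : Bool → AddChar (Matrix (Fin (s + 2 + 1)) (Fin (s + 2 + 1)) F) ℂ := fun ε => bif ε then χX else χ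
  have hvf : ∀ ε (t : F) y x, χf ε (t • vecMulVec y x) = ψ₀ (t * Bf ε y x) := by
    intro ε t y x
    cases ε
    · exact hv t y x
    · show χ (fX (t • vecMulVec y x)) = ψ₀ (t * (X y ⬝ᵥ B *ᵥ X x))
      rw [← Matrix.smul_vecMulVec, hfX, hXsmul, Matrix.smul_vecMulVec, hv]
  have hBu : ∀ ε x, Bf ε u x = u ⬝ᵥ B *ᵥ x := fun ε x => by
    cases ε
    · rfl
    · show X u ⬝ᵥ B *ᵥ X x = _
      rw [hXu, hX, Matrix.mulVec_add, Matrix.mulVec_smul, dotProduct_add, dotProduct_smul, h1, smul_zero,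
        add_zero]
  have hBv : ∀ ε x, Bf ε v x = v ⬝ᵥ B *ᵥ x := fun ε x => by
    cases ε
    · rfl
    · show X v ⬝ᵥ B *ᵥ X x = _
      rw [hXv, hX, Matrix.mulVec_add, Matrix.mulVec_smul, dotProduct_add, dotProduct_smul, h3, smul_zero,
        add_zero]
  have hBne : Bf true u' v' ≠ Bf false u' v' := by
    show X u' ⬝ᵥ B *ᵥ X v' ≠ u' ⬝ᵥ B *ᵥ v'
    rw [hX, hX, show SLn.ac A₀⁻¹ u' = e₀ F s by rw [← hA0, SLn.ac_inv_ac]]
    simp only [Matrix.mulVec_add, Matrix.mulVec_smul, dotProduct_add, dotProduct_smul, add_dotProduct,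
      smul_dotProduct, halt, huv', smul_eq_mul, Pi.single_eq_same, mul_zero, mul_one, add_zero]
    intro h
    exact hc (by linear_combination h)
  let P := Finset.univ.filter fun φ : Fin (s + 2 + 1) → F => φ ⬝ᵥ u = 0 ∧ φ ⬝ᵥ v = 0
  have hP : Fintype.card F ^ (s + 1) ≤ P.card := by
    have h := card_orth (F := F) (r := s + 2) u v
    rwa [Nat.card_eq_fintype_card, Fintype.card_subtype] at h
  let A : (Fin (s + 2 + 1) → F) × (Fin (s + 2 + 1) → F) → SLn.SLg F (s + 2) :=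
    fun φ => T u φ.1 * T v φ.2
  let J := (Finset.univ : Finset Bool) ×ˢ (((Finset.univ : Finset F).erase 0) ×ˢ (P ×ˢ P))
  let Φ := fun p : Bool × F × (Fin (s + 2 + 1) → F) × (Fin (s + 2 + 1) → F) =>
    (χf p.1).compAddMonoidHom (congE (A p.2.2 * M p.2.1)).toAddMonoidHom
  have hΦ : ∀ p S, Φ p S = χf p.1 (cong (A p.2.2 * M p.2.1) S) := fun _ _ => rfl
  have hac : ∀ φ ∈ P ×ˢ P, ∀ x, SLn.ac (A φ) x = x + (φ.2 ⬝ᵥ x) • v + (φ.1 ⬝ᵥ x) • u := by
    intro φ hφ x
    simp only [Finset.mem_product, P, Finset.mem_filter, Finset.mem_univ, true_and] at hφ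
    rw [SLn.ac_mul, SLn.ac, SLn.ac, T_mulVec hφ.2.2, T_mulVec hφ.1.1, dotProduct_add, dotProduct_smul,
      hφ.1.2, smul_zero, add_zero]
  have hfix : ∀ ψ ∈ P ×ˢ P, SLn.ac (A ψ) u = u ∧ SLn.ac (A ψ) v = v := fun ψ hψ' => by
    have hψ'' := hψ'
    simp only [Finset.mem_product, P, Finset.mem_filter, Finset.mem_univ, true_and] at hψ''
    rw [hac ψ hψ', hac ψ hψ', hψ''.1.1, hψ''.1.2, hψ''.2.1, hψ''.2.2]
    simp
  have hΦv : ∀ p (t : F) (y x : Fin (s + 2 + 1) → F), Φ p (t • vecMulVec y x) =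
      ψ₀ (t * Bf p.1 (SLn.ac (A p.2.2 * M p.2.1) y) (SLn.ac (A p.2.2 * M p.2.1) x)) := by
    intro p t y x
    rw [hΦ, ← hvf, ← Matrix.smul_vecMulVec, cong_vmv, SLn.ac_smul, Matrix.smul_vecMulVec]
  have hinj : Set.InjOn Φ ↑J := by
    rintro ⟨ε, b, φ⟩ hp ⟨ε', b', φ'⟩ hp' h
    simp only [Finset.coe_product, Set.mem_prod, Finset.mem_coe, J, Finset.mem_erase, Finset.mem_univ,
      and_true, true_and] at hp hp'
    obtain ⟨hb, hφ⟩ := hp
    obtain ⟨hb', hφ'⟩ := hp'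
    replace hφ : φ ∈ P ×ˢ P := Finset.mem_product.2 hφ
    replace hφ' : φ' ∈ P ×ˢ P := Finset.mem_product.2 hφ'
    have e0 : ∀ y x : Fin (s + 2 + 1) → F, Bf ε (SLn.ac (A φ * M b) y) (SLn.ac (A φ * M b) x) =
        Bf ε' (SLn.ac (A φ' * M b') y) (SLn.ac (A φ' * M b') x) := fun y x => by
      refine sub_eq_zero.1 (eq_zero_of_char hψ fun t => ?_)
      rw [mul_sub, AddChar.map_sub_eq_div, ← hΦv (ε, b, φ), ← hΦv (ε', b', φ'), h,
        div_self (addChar_ne_zero _ _)]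
    have hbb : b = b' := by
      have h' := e0 v u
      simp only [SLn.ac_mul, (hMs b hb).1, (hMs b hb).2, (hMs b' hb').1, (hMs b' hb').2, SLn.ac_smul,
        (hfix φ hφ).1, (hfix φ hφ).2, (hfix φ' hφ').1, (hfix φ' hφ').2, hBv, Matrix.mulVec_smul,
        dotProduct_smul, hvu, smul_eq_mul] at h'
      linear_combination -h'
    subst hbb
    have e : ∀ y x : Fin (s + 2 + 1) → F, Bf ε (SLn.ac (A φ) y) (SLn.ac (A φ) x) =
        Bf ε' (SLn.ac (A φ') y) (SLn.ac (A φ') x) := fun y x => by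
      have := e0 (SLn.ac (M b)⁻¹ y) (SLn.ac (M b)⁻¹ x)
      simpa only [SLn.ac_mul, SLn.ac_ac_inv] using this
    have hφeq : φ = φ' := by
      refine Prod.ext (funext fun i => ?_) (funext fun i => ?_)
      · have h' := e v (Pi.single i 1)
        rw [(hfix φ hφ).2, (hfix φ' hφ').2, hBv, hBv, hac φ hφ, hac φ' hφ'] at h'
        simp only [Matrix.mulVec_add, Matrix.mulVec_smul, dotProduct_add, dotProduct_smul, halt, hvu,
          smul_eq_mul, dotProduct_single, mul_one, mul_zero, add_zero] at h'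
        linear_combination -h'
      · have h' := e u (Pi.single i 1)
        rw [(hfix φ hφ).1, (hfix φ' hφ').1, hBu, hBu, hac φ hφ, hac φ' hφ'] at h'
        simp only [Matrix.mulVec_add, Matrix.mulVec_smul, dotProduct_add, dotProduct_smul, halt, huv,
          smul_eq_mul, dotProduct_single, mul_one, mul_zero, add_zero] at h'
        linear_combination h'
    subst hφeq
    have h' := e (SLn.ac (A φ)⁻¹ u') (SLn.ac (A φ)⁻¹ v')
    rw [SLn.ac_ac_inv, SLn.ac_ac_inv] at h'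
    cases ε <;> cases ε'
    · rfl
    · exact absurd h'.symm hBne
    · exact absurd h' hBne
    · rfl
  calc 2 * ((Fintype.card F - 1) * (Fintype.card F ^ (s + 1)) ^ 2)
      ≤ J.card * 1 := by
        rw [mul_one, Finset.card_product, Finset.card_univ, Fintype.card_bool, Finset.card_product,
          Finset.card_erase_of_mem (Finset.mem_univ _), Finset.card_univ, Finset.card_product, ← _root_.sq]
        exact Nat.mul_le_mul_left _ (Nat.mul_le_mul_left _ (Nat.pow_le_pow_left hP 2))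
    _ = ∑ χ' ∈ J.image Φ, 1 := by
        rw [Finset.sum_const, Finset.card_image_of_injOn hinj, smul_eq_mul]
    _ ≤ ∑ χ' ∈ J.image Φ, Module.finrank ℂ (weightSpace ρ (zD g) χ') := by
        refine Finset.sum_le_sum fun χ' hχ' => ?_
        obtain ⟨p, -, rfl⟩ := Finset.mem_image.1 hχ'
        have hp : weightSpace ρ (zD g) (χf p.1) ≠ ⊥ := by
          cases p.1
          · exact hne
          · exact hneX
        refine (Nat.one_le_iff_ne_zero.2 fun h => hp (Submodule.finrank_eq_zero.1 h)).trans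
          (finrank_ws_le (A p.2.2 * M p.2.1)⁻¹ fun S => ?_)
        rw [hΦ]
        exact congrArg (χf p.1) ((congE (A p.2.2 * M p.2.1)).apply_symm_apply S)
    _ ≤ _ := sum_weights_le ρ _

end CfsgLib.MinDeg.OrthSiegel
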