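import Cfsg.Agent.Lib.KnownB.MinDeg.OrthSiegel.OddCentral

/-!
# The twist by the outer exchange of a hyperbolic pair
-/

set_option autoImplicit false
set_option linter.unusedSectionVars false
set_option backward.isDefEq.respectTransparency false
set_option maxHeartbeats 4000000
set_option synthInstance.maxHeartbeats 200000

open Matrix

namespace CfsgLib.MinDeg.OrthSiegel

open QuadraticMap CfsgLib.Orth
open CfsgLib.KnownA.MinIndex (T T_mulVec vecMul_T T_inv T_conj T_mul_right T_mul_left T_smul)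

variable {F : Type*} [Field F] [Fintype F] [DecidableEq F] {s : ℕ}
  {W : Type*} [AddCommGroup W] [Module F W] [Fintype W] {g : QuadraticForm F W}
  {V : Type*} [AddCommGroup V] [Module ℂ V] [FiniteDimensional ℂ V]
  {ρ : Representation ℂ (Om (s + 2 + 1) g) V}

theorem swp_mul_self (i : Fin (s + 2 + 1)) : swp g i * swp g i = 1 := by
  rw [swp, refl_mul_self]

variable (g) in
/-- Conjugation by the exchange of the third pair. -/
noncomputable def cS : Om (s + 2 + 1) g →* Om (s + 2 + 1) g where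
  toFun x := ⟨swp g 2 * x.1 * swp g 2, by
    have h := om_normal (g := g) x.2 (swp g (2 : Fin (s + 2 + 1)))
    rwa [inv_eq_of_mul_eq_one_right (swp_mul_self (g := g) 2)] at h⟩
  map_one' := Subtype.ext (by
    show swp g 2 * 1 * swp g 2 = 1
    rw [mul_one, swp_mul_self])
  map_mul' x y := Subtype.ext (by
    show swp g 2 * (x.1 * y.1) * swp g 2 = swp g 2 * x.1 * swp g 2 * (swp g 2 * y.1 * swp g 2)
    calc swp g 2 * (x.1 * y.1) * swp g 2 = swp g 2 * x.1 * (swp g 2 * swp g 2) * y.1 * swp g 2 := by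
          rw [swp_mul_self, mul_one]; group
      _ = _ := by group)

theorem cS_invol (x : Om (s + 2 + 1) g) : cS g (cS g x) = x := by
  refine Subtype.ext ?_
  show swp g 2 * (swp g 2 * x.1 * swp g 2) * swp g 2 = x.1
  calc _ = swp g 2 * swp g 2 * x.1 * (swp g 2 * swp g 2) := by group
    _ = _ := by rw [swp_mul_self, one_mul, mul_one]

theorem cS_zD {a b : Fin (s + 2 + 1) → F} (ha : a 2 = 0) (hb : b 2 = 0) :
    cS g (zD g (vecMulVec a b)) = zD g (vecMulVec a b) := by
  unfold zD
  refine Subtype.ext ?_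
  show swp g 2 * zz g (vecMulVec a b) * swp g 2 = zz g (vecMulVec a b)
  rw [swp_zz g 2 ha hb, mul_assoc, swp_mul_self, mul_one]

theorem cS_zD_single {a : Fin (s + 2 + 1) → F} (ha : a 2 = 0) :
    cS g (zD g (vecMulVec a (eq' F s))) = lD g (T (-a) (eq' F s)) := by
  unfold zD lD
  refine Subtype.ext ?_
  show swp g 2 * zz g (vecMulVec a (Pi.single 2 1)) * swp g 2 = Lv g (T (-a) (Pi.single 2 1))
  rw [swp_zz_single g 2 ha, mul_assoc, swp_mul_self, mul_one]

theorem cS_lD_single {a : Fin (s + 2 + 1) → F} (ha : a 2 = 0) :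
    cS g (lD g (T a (eq' F s))) = zD g (vecMulVec (-a) (eq' F s)) := by
  conv_lhs => rw [← neg_neg a, ← cS_zD_single (a := -a) (by simp [ha]), cS_invol]

theorem cS_lD {A : SLn.SLg F (s + 2)} (h1 : SLn.ac A (eq' F s) = eq' F s)
    (h2 : eq' F s ᵥ* A.1 = eq' F s) : cS g (lD g A) = lD g A := by
  unfold lD
  refine Subtype.ext ?_
  show swp g 2 * Lv g A * swp g 2 = Lv g A
  rw [swp_Lv g 2 h1 h2, mul_assoc, swp_mul_self, mul_one]

theorem cS_z0 (t : F) : cS g (z0 g t) = lD g (xu (s := s) (-t)) := by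
  rw [z0, cS_zD_single (by simp [ne12.symm]), xu, neg_smul]

theorem cS_xu (t : F) : cS g (lD g (xu (s := s) t)) = z0 g (-t) := by
  rw [xu, cS_lD_single (by simp [ne12.symm]), z0, neg_smul]

theorem xo_comm_xu (a b : F) :
    lD g (xu (s := s) b) * cS g (lD g (xl a)) = cS g (lD g (xl a)) * lD g (xu b) := by
  rw [show b = - -b from (neg_neg b).symm, ← cS_z0, ← map_mul, ← map_mul, xl_z0]

theorem xo_comm_xl (a b : F) :
    lD g (xl (s := s) b) * cS g (lD g (xl a)) = cS g (lD g (xl a)) * lD g (xl b) := by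
  unfold lD
  exact Subtype.ext (swp_Lv_swp_comm g (ne12 (s := s)).symm a b).symm

/-- The twisted representation. -/
noncomputable def tw (ρ : Representation ℂ (Om (s + 2 + 1) g) V) :
    Representation ℂ (Om (s + 2 + 1) g) V :=
  ρ.comp (cS g)

theorem tw_apply (x : Om (s + 2 + 1) g) (v : V) : tw ρ x v = ρ (cS g x) v := rfl

theorem tw_tw : tw (tw ρ) = ρ := MonoidHom.ext fun x => by
  show ρ (cS g (cS g x)) = ρ x
  rw [cS_invol]

theorem tw_noProper (h : SLn.NoProper ρ) : SLn.NoProper (tw ρ) := fun U hU => h U fun x v hv => by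
  have := hU (cS g x) v hv
  rwa [tw_apply, cS_invol] at this

variable [Subsingleton W]

theorem nD_eq_one (u : Fin (s + 2 + 1) → F) (w : W) : nD g u w = 1 := by
  rw [Subsingleton.elim w 0, nD_zero]

theorem fixL_le_tw : fixL ρ ≤ fixL (tw ρ) := by
  intro v hv
  refine ⟨fun i h1 h2 w => by rw [nD_eq_one, map_one, Module.End.one_apply], fun i h1 h2 b => ?_,
    fun i h1 h2 φ hφ => ?_⟩
  · set e : Fin (s + 2 + 1) → F := Pi.single i 1 with he
    set b' := b - b 2 • eq' F s with hb'
    have hb2 : b' 2 = 0 := by simp [hb']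
    have he2 : e 2 = 0 := by simp [he, h2.symm]
    rw [tw_apply, show b = b' + b 2 • eq' F s by simp [hb'], Matrix.vecMulVec_add, zD_add, map_mul,
      ← act_mul, cS_zD he2 hb2, Matrix.vecMulVec_smul, ← Matrix.smul_vecMulVec,
      cS_zD_single (a := b 2 • e) (by simp [he2]), show -(b 2 • e) = (-b 2) • e from (neg_smul _ _).symm,
      T_smul (by simp [he2]), hv.l i h1 h2 _ (by simp [h2]), hv.z i h1 h2]
  · set e : Fin (s + 2 + 1) → F := Pi.single i 1 with he
    set φ' := φ - φ 2 • eq' F s with hφ'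
    have he2 : e 2 = 0 := by simp [he, h2.symm]
    have d1 : φ' ⬝ᵥ e = 0 := by simp [hφ', he, hφ, h2]
    have d2 : (φ 2 • eq' F s) ⬝ᵥ e = 0 := by simp [he2]
    rw [tw_apply, show φ = φ' + φ 2 • eq' F s by simp [hφ'], ← T_mul_right d1 d2, map_mul, map_mul,
      ← act_mul, ← T_smul (by rw [eq_dot, he2]), cS_lD_single (by simp [he2]), ← neg_smul,
      inL_single_left hv h1 h2,
      cS_lD (by rw [SLn.ac, T_mulVec d1]; simp [hφ'])
        (by rw [vecMul_T d1, eq_dot, he2, zero_smul, add_zero]),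
      hv.l i h1 h2 _ (by simp [hφ', hφ, h2])]

theorem fixL_tw : fixL (tw ρ) = fixL ρ :=
  le_antisymm (fun v hv => by
    have := fixL_le_tw (ρ := tw ρ) hv
    rwa [tw_tw] at this) fixL_le_tw

end CfsgLib.MinDeg.OrthSiegel
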