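import Cfsg.Agent.Lib.KnownB.MinDeg.OrthSiegel.QInner

/-!
# The vectors fixed by the roots outside the pair
-/

set_option autoImplicit false
set_option linter.unusedSectionVars false
set_option backward.isDefEq.respectTransparency false
set_option maxHeartbeats 4000000
set_option synthInstance.maxHeartbeats 200000

open Matrix

namespace CfsgLib.MinDeg.OrthSiegel

open QuadraticMap CfsgLib.Orth
open CfsgLib.KnownA.MinIndex (T T_mulVec vecMul_T T_inv T_conj T_mul_right T_mul_left T_smul)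

variable {F : Type*} [Field F] [Fintype F] [DecidableEq F] {s : ℕ}
  {W : Type*} [AddCommGroup W] [Module F W] [Fintype W] {g : QuadraticForm F W}
  {V : Type*} [AddCommGroup V] [Module ℂ V] [FiniteDimensional ℂ V]
  {ρ : Representation ℂ (Om (s + 2 + 1) g) V} {ψ₀ : AddChar F ℂ}

variable (ρ) in
/-- Vectors fixed by the roots outside the pair. -/
structure InL (v : V) : Prop where
  n : ∀ i : Fin (s + 2 + 1), i ≠ 1 → i ≠ 2 → ∀ w, ρ (nD g (Pi.single i 1) w) v = v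
  z : ∀ i : Fin (s + 2 + 1), i ≠ 1 → i ≠ 2 → ∀ b : Fin (s + 2 + 1) → F,
    ρ (zD g (vecMulVec (Pi.single i 1) b)) v = v
  l : ∀ i : Fin (s + 2 + 1), i ≠ 1 → i ≠ 2 → ∀ φ : Fin (s + 2 + 1) → F, φ i = 0 →
    ρ (lD g (T (Pi.single i 1) φ)) v = v

variable (ρ) in
/-- The vectors fixed by the roots outside the pair. -/
def fixL : Submodule ℂ V where
  carrier := {v | InL ρ v}
  add_mem' := fun {v w} hv hw =>
    ⟨fun i a b x => by rw [map_add, hv.n i a b x, hw.n i a b x],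
      fun i a b x => by rw [map_add, hv.z i a b x, hw.z i a b x],
      fun i a b x h => by rw [map_add, hv.l i a b x h, hw.l i a b x h]⟩
  zero_mem' := ⟨fun i _ _ x => map_zero _, fun i _ _ x => map_zero _, fun i _ _ x _ => map_zero _⟩
  smul_mem' := fun c v hv =>
    ⟨fun i a b x => by rw [map_smul, hv.n i a b x],
      fun i a b x => by rw [map_smul, hv.z i a b x],
      fun i a b x h => by rw [map_smul, hv.l i a b x h]⟩

theorem mem_fixL {v : V} : v ∈ fixL ρ ↔ InL ρ v := Iff.rfl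

variable (g) in
/-- The root subgroup of the pair in the radical. -/
noncomputable abbrev z0 (t : F) : Om (s + 2 + 1) g := zD g (vecMulVec (t • ep F s) (eq' F s))

theorem z0_add (a b : F) : z0 (s := s) g (a + b) = z0 g a * z0 g b := by
  rw [← zD_add, ← Matrix.add_vecMulVec, ← add_smul]

theorem inL_single_left {v : V} (hv : InL ρ v) {i : Fin (s + 2 + 1)} (h1 : i ≠ 1) (h2 : i ≠ 2) (c : F)
    (b : Fin (s + 2 + 1) → F) : ρ (zD g (vecMulVec (c • Pi.single i 1) b)) v = v := by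
  rw [Matrix.smul_vecMulVec, ← Matrix.vecMulVec_smul]
  exact hv.z i h1 h2 _

theorem inL_single_right {v : V} (hv : InL ρ v) {i : Fin (s + 2 + 1)} (h1 : i ≠ 1) (h2 : i ≠ 2) (c : F)
    (b : Fin (s + 2 + 1) → F) : ρ (zD g (vecMulVec b (c • Pi.single i 1))) v = v := by
  rw [zD_swap, ← neg_smul]
  exact inL_single_left hv h1 h2 _ b

/-- On these vectors the central part of the radical is given by the root subgroup of the pair. -/
theorem zD_of_inL {v : V} (hv : InL ρ v) (ψ' : AddChar F ℂ) (h0 : ∀ t, ρ (z0 g t) v = ψ' t • v)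
    (S : Matrix (Fin (s + 2 + 1)) (Fin (s + 2 + 1)) F) :
    ρ (zD g S) v = pr ψ' (ep F s) (eq' F s) S • v := by
  have hadd : ∀ A B : Matrix (Fin (s + 2 + 1)) (Fin (s + 2 + 1)) F,
      ρ (zD g A) v = pr ψ' (ep F s) (eq' F s) A • v → ρ (zD g B) v = pr ψ' (ep F s) (eq' F s) B • v →
      ρ (zD g (A + B)) v = pr ψ' (ep F s) (eq' F s) (A + B) • v := fun A B hA hB => by
    rw [zD_add, ← act_mul, hB, map_smul, hA, smul_smul, AddChar.map_add_eq_mul, mul_comm]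
  have hzero : ρ (zD g (0 : Matrix (Fin (s + 2 + 1)) (Fin (s + 2 + 1)) F)) v =
      pr ψ' (ep F s) (eq' F s) 0 • v := by
    rw [zD_symm _ (by simp), map_one, Module.End.one_apply, AddChar.map_zero_eq_one, one_smul]
  rw [Matrix.matrix_eq_sum_single S]
  refine Finset.sum_induction _ (fun A => ρ (zD g A) v = pr ψ' (ep F s) (eq' F s) A • v) hadd hzero fun i _ => ?_
  refine Finset.sum_induction _ (fun A => ρ (zD g A) v = pr ψ' (ep F s) (eq' F s) A • v) hadd hzero fun j _ => ?_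
  rw [show Matrix.single i j (S i j) = S i j • vecMulVec (Pi.single i 1) (Pi.single j 1) by
    ext a b
    simp only [Matrix.single_apply, Matrix.smul_apply, vecMulVec_apply, Pi.single_apply, smul_eq_mul]
    by_cases ha : i = a <;> by_cases hb : j = b <;> simp [ha, hb, Ne.symm], pr_vmv,
    ← Matrix.smul_vecMulVec, ep_dot, ep_dot, eq_dot, eq_dot]
  by_cases hi : i ≠ 1 ∧ i ≠ 2
  · rw [inL_single_left hv hi.1 hi.2]
    simp [hi.1.symm, hi.2.symm]
  by_cases hj : j ≠ 1 ∧ j ≠ 2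
  · rw [show (Pi.single j 1 : Fin (s + 2 + 1) → F) = (1 : F) • Pi.single j 1 from (one_smul F _).symm,
      inL_single_right hv hj.1 hj.2]
    simp [hj.1.symm, hj.2.symm]
  simp only [not_and_or, ne_eq, not_not] at hi hj
  by_cases hij : i = j
  · subst hij
    rw [zD_symm _ (by rw [Matrix.transpose_vecMulVec, Matrix.vecMulVec_smul, Matrix.smul_vecMulVec]),
      map_one, Module.End.one_apply, mul_comm (_ : F) ((Pi.single i 1 : Fin (s + 2 + 1) → F) 2), sub_self,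
      mul_zero, AddChar.map_zero_eq_one, one_smul]
  rcases hi with rfl | rfl <;> rcases hj with rfl | rfl
  · exact absurd rfl hij
  · rw [h0]
    simp [ne12, ne12.symm]
  · rw [zD_swap, Matrix.vecMulVec_smul, ← Matrix.smul_vecMulVec, smul_neg, ← neg_smul]
    show ρ (z0 g _) v = _
    rw [h0]
    simp [ne12, ne12.symm]
  · exact absurd rfl hij

/-- Levi elements fixing the other coordinate vectors keep these vectors. -/
theorem lD_fixL {A : SLn.SLg F (s + 2)} (hA : ∀ i : Fin (s + 2 + 1), i ≠ 1 → i ≠ 2 →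
    SLn.ac A (Pi.single i 1) = Pi.single i 1) {v : V} (hv : v ∈ fixL ρ) :
    ρ (lD g A) v ∈ fixL ρ := by
  refine ⟨fun i h1 h2 w => ?_, fun i h1 h2 b => ?_, fun i h1 h2 φ hφ => ?_⟩
  · have e : lD g A * nD g (Pi.single i 1) w = nD g (Pi.single i 1) w * lD g A := by
      rw [lD_nD, hA i h1 h2]
    rw [act_mul, ← e, ← act_mul, hv.n i h1 h2]
  · have e : lD g A * zD g (vecMulVec (Pi.single i 1) (SLn.ac A⁻¹ b)) =
        zD g (vecMulVec (Pi.single i 1) b) * lD g A := by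
      rw [lD_zD, cong_vmv, hA i h1 h2, SLn.ac_ac_inv]
    rw [act_mul, ← e, ← act_mul, hv.z i h1 h2]
  · have hd : (φ ᵥ* A.1) ⬝ᵥ Pi.single i 1 = 0 := by
      rw [← Matrix.dotProduct_mulVec]
      show φ ⬝ᵥ SLn.ac A _ = 0
      rw [hA i h1 h2, dotProduct_single, hφ, zero_mul]
    have hA' : A.1 *ᵥ (Pi.single i 1 : Fin (s + 2 + 1) → F) = Pi.single i 1 := hA i h1 h2
    have hc : A * T (Pi.single i 1) (φ ᵥ* A.1) = T (Pi.single i 1) φ * A := by
      refine mul_inv_eq_iff_eq_mul.1 ?_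
      rw [T_conj _ hd, hA', Matrix.vecMul_vecMul, ← Matrix.SpecialLinearGroup.coe_mul, mul_inv_cancel,
        Matrix.SpecialLinearGroup.coe_one, Matrix.vecMul_one]
    have hdi : (φ ᵥ* A.1) i = 0 := by simpa using hd
    rw [act_mul, ← map_mul, ← hc, map_mul, ← act_mul, hv.l i h1 h2 _ hdi]

theorem xu_fix_e {i : Fin (s + 2 + 1)} (h2 : i ≠ 2) (t : F) :
    SLn.ac (xu t) (Pi.single i 1) = (Pi.single i 1 : Fin (s + 2 + 1) → F) := by
  rw [xu_ac]; simp [h2.symm]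

theorem xl_fix_e {i : Fin (s + 2 + 1)} (h1 : i ≠ 1) (t : F) :
    SLn.ac (xl t) (Pi.single i 1) = (Pi.single i 1 : Fin (s + 2 + 1) → F) := by
  rw [xl_ac]; simp [h1.symm]

theorem xu_fixL (t : F) {v : V} (hv : v ∈ fixL ρ) : ρ (lD g (xu t)) v ∈ fixL ρ :=
  lD_fixL (fun _ _ h2 => xu_fix_e h2 t) hv

theorem xl_fixL (t : F) {v : V} (hv : v ∈ fixL ρ) : ρ (lD g (xl t)) v ∈ fixL ρ :=
  lD_fixL (fun _ h1 _ => xl_fix_e h1 t) hv

theorem lD_z0_comm {A : SLn.SLg F (s + 2)} (h : ∀ t : F, ∃ c : F,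
    SLn.ac A (t • ep F s) = t • ep F s + c • eq' F s ∧ SLn.ac A (eq' F s) = eq' F s ∨
      SLn.ac A (t • ep F s) = t • ep F s ∧ SLn.ac A (eq' F s) = eq' F s + c • ep F s) (t : F) :
    lD g A * z0 g t = z0 g t * lD g A := by
  rw [lD_zD, cong_vmv]
  congr 1
  obtain ⟨c, ⟨e1, e2⟩ | ⟨e1, e2⟩⟩ := h t
  · rw [e1, e2, Matrix.add_vecMulVec, zD_add, zD_symm (vecMulVec (c • eq' F s) (eq' F s)) ?_, mul_one]
    rw [Matrix.smul_vecMulVec, Matrix.transpose_smul, Matrix.transpose_vecMulVec]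
  · rw [e1, e2, Matrix.vecMulVec_add, zD_add, zD_symm (vecMulVec (t • ep F s) (c • ep F s)) ?_, mul_one]
    rw [Matrix.smul_vecMulVec, Matrix.vecMulVec_smul, Matrix.transpose_smul, Matrix.transpose_smul,
      Matrix.transpose_vecMulVec]

theorem xu_z0 (a t : F) : lD g (xu a) * z0 g t = z0 g t * lD g (xu (s := s) a) :=
  lD_z0_comm (fun t => ⟨a, Or.inr ⟨by rw [xu_ac]; simp [ne12.symm], by rw [xu_ac]; simp⟩⟩) t

theorem xl_z0 (a t : F) : lD g (xl a) * z0 g t = z0 g t * lD g (xl (s := s) a) :=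
  lD_z0_comm (fun t => ⟨t * a, Or.inl ⟨by rw [xl_ac]; simp, by rw [xl_ac]; simp [ne12]⟩⟩) t

theorem z0_fixL (t : F) {v : V} (hv : v ∈ fixL ρ) : ρ (z0 g t) v ∈ fixL ρ := by
  refine ⟨fun i h1 h2 w => ?_, fun i h1 h2 b => ?_, fun i h1 h2 φ hφ => ?_⟩
  · rw [act_mul, ← zD_nD, ← act_mul, hv.n i h1 h2]
  · rw [act_mul, ← zD_add, add_comm (vecMulVec _ b), zD_add, ← act_mul, hv.z i h1 h2]
  · set A : SLn.SLg F (s + 2) := T (Pi.single i 1) φ
    have hd : φ ⬝ᵥ (Pi.single i 1 : Fin (s + 2 + 1) → F) = 0 := by simp [hφ]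
    have hac : ∀ x, SLn.ac A x = x + (φ ⬝ᵥ x) • Pi.single i 1 := fun x => T_mulVec hd x
    have hl := hv.l i h1 h2 φ hφ
    rw [act_mul, lD_zD, cong_vmv, hac, hac, Matrix.add_vecMulVec, Matrix.vecMulVec_add, zD_add, zD_add]
    simp only [← act_mul]
    rw [hl, inL_single_left hv h1 h2, inL_single_right hv h1 h2]

section Swap

variable {u₀ : W} (hs : swp g (2 : Fin (s + 2 + 1)) * Hm g (refl g u₀) ∈ Om (s + 2 + 1) g)
include hs

theorem pD_act (x y : Om (s + 2 + 1) g) (h : (⟨_, hs⟩ : Om (s + 2 + 1) g) * x = y * ⟨_, hs⟩) (v : V) :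
    ρ x (ρ (⟨_, hs⟩ : Om (s + 2 + 1) g) v) = ρ (⟨_, hs⟩ : Om (s + 2 + 1) g) (ρ y v) := by
  have e : x * (⟨_, hs⟩ : Om (s + 2 + 1) g) = ⟨_, hs⟩ * y := by
    have h' := congrArg (fun z => (⟨_, hs⟩ : Om (s + 2 + 1) g) * z * ⟨_, hs⟩) h
    simp only [← mul_assoc, pD_sq, one_mul] at h'
    simp only [mul_assoc, pD_sq, mul_one] at h'
    exact h'
  rw [act_mul, e, ← act_mul]

theorem pD_z0 (t : F) :
    (⟨_, hs⟩ : Om (s + 2 + 1) g) * z0 g t = lD g (xu (-t)) * ⟨_, hs⟩ := by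
  rw [z0, pD_zD_single g hs (by simp [ne12.symm]), show xu (-t) = T ((-t) • ep F s) (eq' F s) from rfl,
    neg_smul]

theorem z0_swap (t : F) (v : V) :
    ρ (z0 g t) (ρ (⟨_, hs⟩ : Om (s + 2 + 1) g) v) = ρ (⟨_, hs⟩ : Om (s + 2 + 1) g) (ρ (lD g (xu (-t))) v) :=
  pD_act hs _ _ (pD_z0 hs t) v

theorem xu_swap (t : F) (v : V) :
    ρ (lD g (xu t)) (ρ (⟨_, hs⟩ : Om (s + 2 + 1) g) v) = ρ (⟨_, hs⟩ : Om (s + 2 + 1) g) (ρ (z0 g (-t)) v) := by
  rw [act_mul _ (z0 g (-t)), pD_z0 hs, neg_neg, ← act_mul]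

theorem swap_fixL {v : V} (hv : v ∈ fixL ρ) : ρ (⟨_, hs⟩ : Om (s + 2 + 1) g) v ∈ fixL ρ := by
  refine ⟨fun i h1 h2 w => ?_, fun i h1 h2 b => ?_, fun i h1 h2 φ hφ => ?_⟩
  · rw [pD_act hs _ _ (pD_nD g hs (by simp [h2.symm]) w), hv.n i h1 h2]
  · set e : Fin (s + 2 + 1) → F := Pi.single i 1 with he
    set b' := b - b 2 • eq' F s with hb'
    have hb2 : b' 2 = 0 := by simp [hb']
    have he2 : e 2 = 0 := by simp [he, h2.symm]
    rw [show b = b' + b 2 • eq' F s by simp [hb'], Matrix.vecMulVec_add, zD_add, ← act_mul,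
      Matrix.vecMulVec_smul, ← Matrix.smul_vecMulVec,
      pD_act hs _ _ (pD_zD_single g hs (a := b 2 • e) (by simp [he2])),
      show -(b 2 • e) = (-b 2) • e from (neg_smul _ _).symm,
      T_smul (by simp [he2]), hv.l i h1 h2 _ (by simp [h2]),
      pD_act hs _ _ (pD_zD g hs he2 hb2), hv.z i h1 h2]
  · set e : Fin (s + 2 + 1) → F := Pi.single i 1 with he
    set φ' := φ - φ 2 • eq' F s with hφ'
    have he2 : e 2 = 0 := by simp [he, h2.symm]
    have d1 : φ' ⬝ᵥ e = 0 := by simp [hφ', he, hφ, h2]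
    have d2 : (φ 2 • eq' F s) ⬝ᵥ e = 0 := by simp [he2]
    rw [show φ = φ' + φ 2 • eq' F s by simp [hφ'], ← T_mul_right d1 d2, map_mul, ← act_mul,
      ← T_smul (by rw [eq_dot, he2])]
    have hz : (⟨_, hs⟩ : Om (s + 2 + 1) g) * zD g (vecMulVec (-(φ 2 • e)) (eq' F s)) =
        lD g (T (φ 2 • e) (eq' F s)) * ⟨_, hs⟩ := by
      rw [pD_zD_single g hs (by simp [he2]), neg_neg]
    have hswap : ∀ x y (_ : (⟨_, hs⟩ : Om (s + 2 + 1) g) * y = x * ⟨_, hs⟩), ∀ v : V,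
        ρ x (ρ (⟨_, hs⟩ : Om (s + 2 + 1) g) v) = ρ (⟨_, hs⟩ : Om (s + 2 + 1) g) (ρ y v) :=
      fun x y h v => by rw [act_mul _ y, h, ← act_mul]
    rw [hswap _ _ hz, ← neg_smul, inL_single_left hv h1 h2,
      hswap _ _ (pD_lD g hs (by rw [SLn.ac, T_mulVec d1]; simp [hφ'])
        (by rw [vecMul_T d1, eq_dot, he2, zero_smul, add_zero])),
      hv.l i h1 h2 _ (by simp [hφ', hφ, h2])]

theorem xo_fixL (t : F) {v : V} (hv : v ∈ fixL ρ) :
    ρ ((⟨_, hs⟩ : Om (s + 2 + 1) g) * lD g (xl t) * ⟨_, hs⟩) v ∈ fixL ρ := by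
  rw [← act_mul, ← act_mul]
  exact swap_fixL hs (xl_fixL t (swap_fixL hs hv))

theorem xo_xl (a b : F) :
    (⟨_, hs⟩ : Om (s + 2 + 1) g) * lD g (xl a) * ⟨_, hs⟩ * lD g (xl b) =
      lD g (xl b) * ((⟨_, hs⟩ : Om (s + 2 + 1) g) * lD g (xl a) * ⟨_, hs⟩) :=
  pD_lower_comm g hs a b

theorem xo_xu (a b : F) :
    (⟨_, hs⟩ : Om (s + 2 + 1) g) * lD g (xl a) * ⟨_, hs⟩ * lD g (xu b) =
      lD g (xu b) * ((⟨_, hs⟩ : Om (s + 2 + 1) g) * lD g (xl a) * ⟨_, hs⟩) := by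
  set S : Om (s + 2 + 1) g := ⟨_, hs⟩
  have h : lD g (xu b) = S * z0 g (-b) * S := by
    rw [pD_z0 hs, neg_neg, mul_assoc, pD_sq, mul_one]
  have hS : S * S = 1 := pD_sq g hs
  have e : ∀ A B : Om (s + 2 + 1) g, S * A * S * (S * B * S) = S * (A * B) * S := fun A B => by
    calc S * A * S * (S * B * S) = S * A * (S * S) * B * S := by group
      _ = _ := by rw [hS, mul_one]; group
  rw [h, e, e, xl_z0]

end Swap

/-- The fixed vectors of the weight space. -/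
theorem vz_le_fixL (C : CtxQ ρ ψ₀) : Vz ρ ψ₀ ≤ fixL ρ := fun v hv =>
  ⟨fun i h1 h2 w => n_root_trivial C h1 h2 w hv, fun i h1 h2 b => qzD_trivial C h1 h2 b hv,
    fun i h1 h2 φ hφ => l_root_trivial C h1 h2 hφ hv⟩

/-- The components of a fixed vector lie in the weight spaces of the pair. -/
theorem proj_z0_mem {v : V} (hv : v ∈ fixL ρ) (ψ' : AddChar F ℂ) :
    SLn.proj ρ (z0 g) ψ' v ∈ fixL ρ ∧ SLn.proj ρ (z0 g) ψ' v ∈ Vz ρ ψ' := by
  have h1 : SLn.proj ρ (z0 g) ψ' v ∈ fixL ρ :=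
    proj_mem_of_invariant ρ (fixL ρ) (fun t x hx => z0_fixL t hx) ψ' hv
  exact ⟨h1, fun S => zD_of_inL h1 ψ' (fun t => SLn.proj_mem z0_add ψ' v t) S⟩

end CfsgLib.MinDeg.OrthSiegel
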