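import Cfsg.Agent.Lib.KnownB.MinDeg.OrthSiegel.Torus
import Cfsg.Agent.Lib.KnownB.MinDeg.SLn.Flag

/-!
# A weight space of a decomposable form for fields of more than three elements
-/

set_option autoImplicit false
set_option linter.unusedSectionVars false
set_option backward.isDefEq.respectTransparency false
set_option maxHeartbeats 4000000
set_option synthInstance.maxHeartbeats 200000

open Matrix

namespace CfsgLib.MinDeg.OrthSiegel

open QuadraticMap CfsgLib.Orth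
open CfsgLib.KnownA.MinIndex (T T_mulVec vecMul_T T_inv T_conj T_mul_right T_mul_left T_smul)

variable {F : Type*} [Field F] [Fintype F] [DecidableEq F] {s : ℕ}
  {W : Type*} [AddCommGroup W] [Module F W] [Fintype W] {g : QuadraticForm F W}
  {V : Type*} [AddCommGroup V] [Module ℂ V] [FiniteDimensional ℂ V]
  {ρ : Representation ℂ (Om (s + 2 + 1) g) V} {ψ₀ : AddChar F ℂ}

/-- The hypotheses on the representation. -/
structure CtxQ (ρ : Representation ℂ (Om (s + 2 + 1) g) V) (ψ₀ : AddChar F ℂ) : Prop where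
  q4 : 4 ≤ Fintype.card F
  hψ : ψ₀ ≠ 0
  hg : (QuadraticMap.polarBilin g).Nondegenerate
  one : Module.finrank ℂ (Lz ρ ψ₀) = 1

/-- The upper transvection of the pair. -/
noncomputable abbrev xu (t : F) : SLn.SLg F (s + 2) := T (t • ep F s) (eq' F s)

/-- The lower transvection of the pair. -/
noncomputable abbrev xl (t : F) : SLn.SLg F (s + 2) := T (t • eq' F s) (ep F s)

theorem xu_dot (t : F) : eq' F s ⬝ᵥ (t • ep F s) = 0 := by simp [ne12.symm]

theorem xl_dot (t : F) : ep F s ⬝ᵥ (t • eq' F s) = 0 := by simp [ne12]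

theorem xu_ac (t : F) (x : Fin (s + 2 + 1) → F) : SLn.ac (xu t) x = x + (x 2 * t) • ep F s := by
  rw [SLn.ac, T_mulVec (xu_dot t), eq_dot, smul_smul]

theorem xl_ac (t : F) (x : Fin (s + 2 + 1) → F) : SLn.ac (xl t) x = x + (x 1 * t) • eq' F s := by
  rw [SLn.ac, T_mulVec (xl_dot t), ep_dot, smul_smul]

theorem pr_dsE (d : Fin (s + 2 + 1) → Fˣ) (a b : Fin (s + 2 + 1) → F)
    (S : Matrix (Fin (s + 2 + 1)) (Fin (s + 2 + 1)) F) :
    pr ψ₀ a b (dsE d S) = pr ψ₀ (dv d a) (dv d b) S := by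
  rw [pr_apply, pr_apply]
  congr 1
  simp only [dsE, AddEquiv.coe_mk, Equiv.coe_fn_mk, dotProduct, Matrix.mulVec, Matrix.of_apply, dv,
    Finset.mul_sum]
  congr 1 <;> exact Finset.sum_congr rfl fun i _ => Finset.sum_congr rfl fun j _ => by ring

/-- The torus element of one coordinate. -/
def d1 (i : Fin (s + 2 + 1)) (c : Fˣ) : Fin (s + 2 + 1) → Fˣ := Function.update 1 i c

theorem dv_d1_single (i : Fin (s + 2 + 1)) (c : Fˣ) :
    dv (d1 i c * d1 i c) (Pi.single i 1) = ((c : F) * c) • (Pi.single i 1 : Fin (s + 2 + 1) → F) := by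
  funext j
  by_cases h : j = i
  · subst h; simp [dv, d1]
  · simp [dv, d1, h]

theorem dv_d1_of (i : Fin (s + 2 + 1)) (c : Fˣ) {x : Fin (s + 2 + 1) → F} (hx : x i = 0) :
    dv (d1 i c * d1 i c) x = x ∧ dv (d1 i c * d1 i c)⁻¹ x = x := by
  constructor <;>
  · funext j
    by_cases h : j = i
    · subst h; simp [dv, hx]
    · simp [dv, d1, h]

theorem tD_keep (i : Fin (s + 2 + 1)) (c : Fˣ) (h1 : i ≠ 1) (h2 : i ≠ 2) {v : V}
    (hv : v ∈ Vz ρ ψ₀) : ρ (tD g (d1 i c)) v ∈ Vz ρ ψ₀ :=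
  SLn.mem_weightSpace_map (dsE (d1 i c * d1 i c)) (tD_zD g (d1 i c)) (fun S => by
    rw [pr_dsE, (dv_d1_of i c (by simp [h1])).1, (dv_d1_of i c (by simp [h2])).1]) hv

theorem exists_unit_sq (h4 : 4 ≤ Fintype.card F) : ∃ c : Fˣ, (c : F) * c - 1 ≠ 0 := by
  obtain ⟨a, ha, ha2⟩ := SLn.exists_sq_ne_one h4
  exact ⟨Units.mk0 a ha, sub_ne_zero.2 (by rwa [Units.val_mk0, ← _root_.sq])⟩

variable (C : CtxQ ρ ψ₀)
include C

theorem qshift_z : ∃ D : Shift ρ (nD g (ep F s)) (Vz ρ ψ₀) W, D.t = nD g (eq' F s) :=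
  exists_shift C.hψ C.hg (zχ ψ₀ s) (ep F s) (eq' F s) (fun t => by rw [zχ_vmv]; simp) _ le_rfl
    (fun w _ hx => nD_keep _ w hx) (fun w _ hx => nD_keep _ w hx)

theorem qexists_v0 : ∃ v₀ ∈ Lz ρ ψ₀, v₀ ≠ 0 ∧ ∀ v ∈ Lz ρ ψ₀, ∃ c : ℂ, v = c • v₀ := by
  obtain ⟨⟨v₀, hv₀⟩, h0, hall⟩ := finrank_eq_one_iff'.1 C.one
  refine ⟨v₀, hv₀, fun h => h0 (Subtype.ext h), fun v hv => ?_⟩
  obtain ⟨c, hc⟩ := hall ⟨v, hv⟩
  exact ⟨c, (congrArg Subtype.val hc).symm⟩

theorem qscal (x : Om (s + 2 + 1) g) (hx : ∀ v ∈ Vz ρ ψ₀, ρ x v ∈ Vz ρ ψ₀)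
    (h1 : ∀ w, ∀ v ∈ Vz ρ ψ₀, ρ (nD g (ep F s) w) (ρ x v) = ρ x (ρ (nD g (ep F s) w) v))
    (h2 : ∀ w, ∀ v ∈ Vz ρ ψ₀, ρ (nD g (eq' F s) w) (ρ x v) = ρ x (ρ (nD g (eq' F s) w) v)) :
    ∃ c : ℂ, c ≠ 0 ∧ ∀ v ∈ Vz ρ ψ₀, ρ x v = c • v := by
  obtain ⟨v₀, hv₀, h0, hall⟩ := qexists_v0 C
  have hmem : ρ x v₀ ∈ Lz ρ ψ₀ := ⟨hx _ hv₀.1, fun w => by
    rw [h1 w _ hv₀.1, mem_weightSpace.1 hv₀.2 w, map_smul]⟩
  obtain ⟨c, hc⟩ := hall _ hmem
  refine ⟨c, fun hc0 => h0 (act_cancel x (by rw [hc, hc0, zero_smul, map_zero])), ?_⟩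
  obtain ⟨D, hD⟩ := qshift_z C
  refine D.scalar (ρ x) c (fun y v hv => ?_) fun v hv => ?_
  · rw [hD]
    exact (h2 y v hv).symm
  · obtain ⟨a, rfl⟩ := hall v hv
    rw [map_smul, hc, smul_comm]

/-- A root subgroup scaled by an element normalizing the weight space acts trivially on it. -/
theorem root_trivial {X : Type*} [AddCommGroup X] (x : X → Om (s + 2 + 1) g)
    (hx : ∀ a b, x (a + b) = x a * x b) (hkeep : ∀ a, ∀ v ∈ Vz ρ ψ₀, ρ (x a) v ∈ Vz ρ ψ₀)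
    (hcomm : ∀ a (u : Fin (s + 2 + 1) → F) (w : W), ∀ v ∈ Vz ρ ψ₀,
      ρ (nD g u w) (ρ (x a) v) = ρ (x a) (ρ (nD g u w) v))
    (l : Om (s + 2 + 1) g) (hlk : ∀ v ∈ Vz ρ ψ₀, ρ l v ∈ Vz ρ ψ₀) (f : X → X)
    (hl : ∀ a, l * x a = x (f a) * l) (hf : Function.Surjective fun a => f a - a) (a : X) {v : V}
    (hv : v ∈ Vz ρ ψ₀) : ρ (x a) v = v := by
  have hs : ∀ a, ∃ c : ℂ, c ≠ 0 ∧ ∀ v ∈ Vz ρ ψ₀, ρ (x a) v = c • v := fun a =>
    qscal C _ (hkeep a) (hcomm a _) (hcomm a _)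
  choose μ hμ0 hμ using hs
  obtain ⟨v₀, hv₀, h0, -⟩ := qexists_v0 C
  have hlv : ρ l v₀ ∈ Vz ρ ψ₀ := hlk _ hv₀.1
  have hμl : ∀ a, μ (f a) = μ a := by
    intro a
    have e : ρ (x (f a)) (ρ l v₀) = ρ l (ρ (x a) v₀) := by rw [act_mul, act_mul, hl]
    rw [hμ _ _ hlv, hμ _ _ hv₀.1, map_smul] at e
    exact smul_left_injective ℂ (fun h' => h0 (act_cancel l (by rw [h', map_zero]))) e
  have hμadd : ∀ a b, μ (a + b) = μ a * μ b := by
    intro a b
    refine smul_left_injective ℂ h0 ?_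
    show μ (a + b) • v₀ = (μ a * μ b) • v₀
    rw [← hμ _ _ hv₀.1, hx, ← act_mul, hμ _ _ hv₀.1, map_smul, hμ _ _ hv₀.1, smul_smul, mul_comm]
  obtain ⟨z, hz⟩ := hf a
  have h1 : μ a * μ z = μ z := by
    rw [← hμadd, show a + z = f z by rw [← hz]; exact sub_add_cancel _ _, hμl]
  rw [hμ a v hv, mul_right_cancel₀ (hμ0 z) (h1.trans (one_mul _).symm), one_smul]

theorem qnC_comm {u a : Fin (s + 2 + 1) → F} (h : u 1 * a 2 - u 2 * a 1 = 0) (w w' : W) {v : V}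
    (hv : v ∈ Vz ρ ψ₀) :
    ρ (nD g u w) (ρ (nD g a w') v) = ρ (nD g a w') (ρ (nD g u w) v) := by
  rw [act_mul, nD_mul, ← act_mul, ← act_mul, zD_on (nD_keep a w' (nD_keep u w hv)),
    zχ_vmv, show a 1 * u 2 - a 2 * u 1 = 0 by linear_combination -h, mul_zero,
    AddChar.map_zero_eq_one, one_smul]

/-- The radical at the other coordinates acts trivially. -/
theorem n_root_trivial {i : Fin (s + 2 + 1)} (h1 : i ≠ 1) (h2 : i ≠ 2) (w : W) {v : V}
    (hv : v ∈ Vz ρ ψ₀) : ρ (nD g (Pi.single i 1) w) v = v := by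
  obtain ⟨c, hc⟩ := exists_unit_sq C.q4
  refine root_trivial C (nD g (Pi.single i 1)) (nD_add _) (fun a v hv => nD_keep _ a hv)
    (fun a u w v hv => qnC_comm C (by simp [h1.symm, h2.symm]) w a hv) (tD g (d1 i c))
    (fun v hv => tD_keep i c h1 h2 hv) (fun w => ((c : F) * c) • w) (fun a => ?_) (fun a => ?_) w hv
  · rw [tD_nD, dv_d1_single, nD_smul]
  · refine ⟨((c : F) * c - 1)⁻¹ • a, ?_⟩
    show ((c : F) * c) • ((c : F) * c - 1)⁻¹ • a - ((c : F) * c - 1)⁻¹ • a = a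
    rw [smul_smul, ← sub_smul, show (c : F) * c * ((c : F) * c - 1)⁻¹ - ((c : F) * c - 1)⁻¹ =
      ((c : F) * c - 1) * ((c : F) * c - 1)⁻¹ by ring, mul_inv_cancel₀ hc, one_smul]

theorem qzD_trivial {i : Fin (s + 2 + 1)} (h1 : i ≠ 1) (h2 : i ≠ 2) (b : Fin (s + 2 + 1) → F) {v : V}
    (hv : v ∈ Vz ρ ψ₀) : ρ (zD g (vecMulVec (Pi.single i 1) b)) v = v := by
  rw [zD_on hv, zχ_vmv']
  simp [h1.symm, h2.symm]

/-- The transvections into the other coordinates act trivially. -/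
theorem l_root_trivial {i : Fin (s + 2 + 1)} (h1 : i ≠ 1) (h2 : i ≠ 2)
    {φ : Fin (s + 2 + 1) → F} (hφ : φ i = 0) {v : V} (hv : v ∈ Vz ρ ψ₀) :
    ρ (lD g (T (Pi.single i 1) φ)) v = v := by
  set e : Fin (s + 2 + 1) → F := Pi.single i 1 with he
  obtain ⟨c, hc⟩ := exists_unit_sq C.q4
  let p : (Fin (s + 2 + 1) → F) → (Fin (s + 2 + 1) → F) := fun φ => φ - φ i • e
  have hp : ∀ φ, p φ ⬝ᵥ e = 0 := fun φ => by simp [p, he]
  have hpi : ∀ φ, p φ i = 0 := fun φ => by simp [p, he]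
  have he1 : e 1 = 0 := by simp [he, h1.symm]
  have he2 : e 2 = 0 := by simp [he, h2.symm]
  have hrow : ∀ φ, ep F s ᵥ* (T e (p φ)).1 = ep F s ∧ eq' F s ᵥ* (T e (p φ)).1 = eq' F s := fun φ => by
    rw [vecMul_T (hp φ), vecMul_T (hp φ), ep_dot, eq_dot, he1, he2, zero_smul, add_zero, add_zero]
    exact ⟨rfl, rfl⟩
  have key := root_trivial C (fun φ => lD g (T e (p φ))) (fun a b => by
      rw [← map_mul, T_mul_right (hp a) (hp b)]
      congr 2
      simp [p, add_smul]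
      abel)
    (fun φ v hv => lD_keep _ (by rw [(hrow φ).1, (hrow φ).2]) hv) (fun φ u w v hv => by
      rw [act_mul (lD g (T e (p φ))), lD_nD, ← act_mul, SLn.ac, T_mulVec (hp φ), nD_add_left, ← act_mul,
        ← act_mul, nD_smul, n_root_trivial C h1 h2 _ (lD_keep _ (by rw [(hrow φ).1, (hrow φ).2]) hv),
        zD_on (nD_keep u w (lD_keep _ (by rw [(hrow φ).1, (hrow φ).2]) hv)), zχ_vmv, Pi.smul_apply,
        Pi.smul_apply, he1, he2]
      simp)
    (tD g (d1 i c)) (fun v hv => tD_keep i c h1 h2 hv) (fun φ => ((c : F) * c) • φ) (fun φ => by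
      rw [tD_lD g _ (hp φ), he, dv_d1_single, (dv_d1_of i c (hpi φ)).2, T_smul (by rw [← he]; exact hp φ)]
      congr 3
      simp only [p, smul_sub, Pi.smul_apply, smul_smul, smul_eq_mul, he])
    (fun a => ⟨((c : F) * c - 1)⁻¹ • a, by
      show ((c : F) * c) • ((c : F) * c - 1)⁻¹ • a - ((c : F) * c - 1)⁻¹ • a = a
      rw [smul_smul, ← sub_smul, show (c : F) * c * ((c : F) * c - 1)⁻¹ - ((c : F) * c - 1)⁻¹ =
        ((c : F) * c - 1) * ((c : F) * c - 1)⁻¹ by ring, mul_inv_cancel₀ hc, one_smul]⟩) φ hv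
  simpa [p, hφ] using key

omit C in
theorem tor_rows (c : Fˣ) :
    ep F s ᵥ* (SLn.tor (s := s) 1 c).1 = (c : F) • ep F s ∧
      eq' F s ᵥ* (SLn.tor (s := s) 1 c).1 = (c : F)⁻¹ • eq' F s := by
  obtain ⟨h01, h02, h12⟩ := SLn.idx_ne (s := s)
  constructor <;>
  · show _ ᵥ* Matrix.diagonal (SLn.torDiag ((1 : Fˣ) : F) (c : F)) = _
    funext j
    rw [Matrix.vecMul_diagonal]
    by_cases hj1 : j = 1
    · subst hj1; simp [SLn.torDiag, h01.symm, ne12]
    by_cases hj2 : j = 2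
    · subst hj2; simp [SLn.torDiag, h02.symm, h12.symm, ne12.symm]
    simp [hj1, hj2]

omit C in
theorem tor_keep (c : Fˣ) {v : V} (hv : v ∈ Vz ρ ψ₀) : ρ (lD g (SLn.tor 1 c)) v ∈ Vz ρ ψ₀ :=
  lD_keep _ (by
    rw [(tor_rows c).1, (tor_rows c).2]
    refine DFunLike.ext _ _ fun S => ?_
    simp only [pr_apply, smul_dotProduct, Matrix.mulVec_smul, dotProduct_smul, smul_eq_mul]
    congr 1
    field_simp) hv

omit C in
theorem tor_ac_pair (c : Fˣ) : SLn.ac (SLn.tor (s := s) 1 c) (ep F s) = (c : F) • ep F s ∧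
    SLn.ac (SLn.tor (s := s) 1 c) (eq' F s) = (c : F)⁻¹ • eq' F s := by
  obtain ⟨h01, h02, h12⟩ := SLn.idx_ne (s := s)
  constructor <;> rw [SLn.tor_ac_ev] <;> simp [SLn.torDiag, h01.symm, h02.symm, h12.symm]

omit C in
theorem xu_keep (t : F) {v : V} (hv : v ∈ Vz ρ ψ₀) : ρ (lD g (xu t)) v ∈ Vz ρ ψ₀ :=
  lD_keep _ (by
    rw [vecMul_T (xu_dot t), vecMul_T (xu_dot t)]
    refine DFunLike.ext _ _ fun S => ?_
    simp only [pr_apply, dotProduct_smul, ep_dot, eq_dot, ep_two, ep_one, smul_zero, zero_smul,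
      add_zero, smul_eq_mul, mul_one, add_dotProduct, smul_dotProduct, Matrix.mulVec_add,
      Matrix.mulVec_smul, dotProduct_add]
    congr 1
    ring) hv

omit C in
theorem xl_keep (t : F) {v : V} (hv : v ∈ Vz ρ ψ₀) : ρ (lD g (xl t)) v ∈ Vz ρ ψ₀ :=
  lD_keep _ (by
    rw [vecMul_T (xl_dot t), vecMul_T (xl_dot t)]
    refine DFunLike.ext _ _ fun S => ?_
    simp only [pr_apply, dotProduct_smul, ep_dot, eq_dot, eq_two, eq_one, smul_zero, zero_smul,
      add_zero, smul_eq_mul, mul_one, add_dotProduct, smul_dotProduct, Matrix.mulVec_add,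
      Matrix.mulVec_smul, dotProduct_add]
    congr 1
    ring) hv

omit C in
theorem lz_map {A : SLn.SLg F (s + 2)} {a : F} (ha : a ≠ 0)
    (hk : ∀ v ∈ Vz ρ ψ₀, ρ (lD g A) v ∈ Vz ρ ψ₀) (he : SLn.ac A (ep F s) = a • ep F s) {v : V}
    (hv : v ∈ Lz ρ ψ₀) : ρ (lD g A) v ∈ Lz ρ ψ₀ := by
  refine ⟨hk v hv.1, fun w => ?_⟩
  have e : lD g A * nD g (ep F s) (a⁻¹ • w) = nD g (ep F s) w * lD g A := by
    rw [lD_nD, he, nD_smul, smul_smul, mul_inv_cancel₀ ha, one_smul]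
  rw [act_mul, ← e, ← act_mul, mem_weightSpace.1 hv.2, map_smul]
  simp

theorem xu_fix_lz (t : F) {v : V} (hv : v ∈ Lz ρ ψ₀) : ρ (lD g (xu t)) v = v := by
  obtain ⟨v₀, hv₀, h0, hall⟩ := qexists_v0 C
  obtain ⟨c, hc⟩ := exists_unit_sq C.q4
  have hline : ∀ t, ∃ μ : ℂ, ρ (lD g (xu t)) v₀ = μ • v₀ := fun t =>
    hall _ (lz_map one_ne_zero (fun v hv => xu_keep t hv) (by rw [xu_ac, ep_two]; simp) hv₀)
  choose μ hμ using hline
  obtain ⟨κ, hκ⟩ := hall _ (lz_map c.ne_zero (fun v hv => tor_keep c hv) (tor_ac_pair c).1 hv₀)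
  have hκ0 : κ ≠ 0 := fun h => h0 (act_cancel _ (hκ.trans (by rw [h, zero_smul, map_zero])))
  have hconj : ∀ t, SLn.tor 1 c * xu t = xu ((c : F) * c * t) * SLn.tor (s := s) 1 c := fun t => by
    refine SLn.sl_ext_ac fun j => ?_
    rw [SLn.ac_mul, SLn.ac_mul, xu_ac, xu_ac, SLn.ac_add, SLn.ac_smul, (tor_ac_pair c).1,
      SLn.tor_ac_ev, smul_smul]
    obtain ⟨h01, h02, h12⟩ := SLn.idx_ne (s := s)
    congr 2
    simp only [Pi.smul_apply, smul_eq_mul, Pi.single_apply]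
    by_cases hj : j = 2
    · subst hj; simp [SLn.torDiag, h02.symm, h12.symm]; field_simp
    · simp [Ne.symm hj]
  have hμc : ∀ t, μ ((c : F) * c * t) = μ t := fun t => by
    have e : ρ (lD g (xu ((c : F) * c * t))) (ρ (lD g (SLn.tor 1 c)) v₀) =
        ρ (lD g (SLn.tor 1 c)) (ρ (lD g (xu t)) v₀) := by
      rw [act_mul, act_mul, ← map_mul, ← map_mul, hconj]
    rw [hμ, hκ, map_smul, map_smul, hμ, hκ, smul_smul, smul_smul] at e
    exact mul_left_cancel₀ hκ0 (by rw [smul_left_injective ℂ h0 e]; ring)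
  have hadd : ∀ a b, μ (a + b) = μ a * μ b := fun a b => by
    refine smul_left_injective ℂ h0 ?_
    show μ (a + b) • v₀ = (μ a * μ b) • v₀
    rw [← hμ]
    show ρ (lD g (T ((a + b) • ep F s) (eq' F s))) v₀ = _
    rw [add_smul, ← T_mul_left (xu_dot a) (xu_dot b), map_mul, ← act_mul, hμ, map_smul, hμ, smul_smul,
      mul_comm]
  have hμ0 : ∀ a, μ a ≠ 0 := fun a h => h0 (act_cancel _ ((hμ a).trans (by rw [h, zero_smul, map_zero])))
  have hμ1 : μ t = 1 := by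
    set z := ((c : F) * c - 1)⁻¹ * t
    have h1 : μ t * μ z = μ z := by
      rw [← hadd, ← hμc z]
      congr 1
      show t + ((c : F) * c - 1)⁻¹ * t = (c : F) * c * (((c : F) * c - 1)⁻¹ * t)
      linear_combination (-t) * mul_inv_cancel₀ hc
    exact mul_right_cancel₀ (hμ0 z) (h1.trans (one_mul _).symm)
  obtain ⟨a, rfl⟩ := hall v hv
  rw [map_smul, hμ, hμ1, one_smul]

/-- On a weight space the upper transvections fix only the line. -/
theorem mem_lz_of_xu (haniso : ∀ w, g w = 0 → w = 0) {v : V} (hv : v ∈ Vz ρ ψ₀)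
    (hX : ∀ t, ρ (lD g (xu t)) v = v) : v ∈ Lz ρ ψ₀ := by
  obtain ⟨D, hD⟩ := qshift_z C
  rw [← SLn.sum_proj (ρ := ρ) (u := nD g (ep F s)) D.hu v]
  refine Submodule.sum_mem _ fun χ _ => ?_
  obtain ⟨y, v', hv', hpv⟩ := D.exists_pre hv χ
  rw [hD] at hpv
  rw [hpv]
  by_cases hv0 : v' = 0
  · rw [hv0, map_zero]
    exact zero_mem _
  have hy : y = 0 := by
    refine haniso y (eq_zero_of_char C.hψ fun t => ?_)
    have e : lD g (xu (-t)) * nD g (eq' F s) y =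
        nD g (eq' F s + (-t) • ep F s) y * lD g (xu (-t)) := by
      rw [lD_nD, xu_ac, eq_two, one_mul]
    have hc := SLn.proj_comm (ρ := ρ) (u := nD g (ep F s)) (χ := χ) (χ' := χ) (AddEquiv.refl W)
      (l := lD g (xu (-t))) (fun a => by rw [lD_nD, xu_ac, ep_two]; simp) (fun _ => rfl) v
    rw [hX, hpv, act_mul, e, ← act_mul, xu_fix_lz C _ hv', nD_add_left, ← act_mul, ← act_mul, nD_smul,
      mem_weightSpace.1 hv'.2, AddChar.zero_apply, one_smul, zD_on (nD_keep _ y hv'.1), zχ_vmv] at hc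
    have hne : ρ (nD g (eq' F s) y) v' ≠ 0 := fun h => hv0 (act_cancel _ (h.trans (map_zero _).symm))
    have h1 := smul_left_injective ℂ hne (hc.trans (one_smul ℂ _).symm)
    rw [← h1]
    congr 1
    simp [ne12, ne12.symm]
    ring
  rw [hy, nD_zero, map_one, Module.End.one_apply]
  exact hv'

/-- On a weight space the special linear group of the pair fixes nothing. -/
theorem eq_zero_of_sl2 (haniso : ∀ w, g w = 0 → w = 0) (hpol : ∃ w w' : W, polar g w w' ≠ 0) {v : V}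
    (hv : v ∈ Vz ρ ψ₀) (hX : ∀ t, ρ (lD g (xu t)) v = v) (hY : ρ (lD g (xl 1)) v = v) : v = 0 := by
  have hL := mem_lz_of_xu C haniso hv hX
  by_contra h0
  have hfix : ∀ w, ρ (nD g (ep F s) w) v = v := fun w => by
    rw [mem_weightSpace.1 hL.2 w, AddChar.zero_apply, one_smul]
  have hsum : ∀ w, ρ (nD g (ep F s + eq' F s) w) v = v := fun w => by
    have e : lD g (xl 1) * nD g (ep F s) w = nD g (ep F s + eq' F s) w * lD g (xl 1) := by
      rw [lD_nD, xl_ac, ep_one, one_mul, one_smul]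
    conv_lhs => rw [← hY]
    rw [act_mul, ← e, ← act_mul, hfix, hY]
  have hne : ∀ w, ρ (nD g (eq' F s) w) v ≠ 0 := fun w h => h0 (act_cancel _ (h.trans (map_zero _).symm))
  have hk : ∀ w, ∃ c : ℂ, ρ (nD g (eq' F s) w) v = c • v := fun w => by
    have h := hsum w
    rw [nD_add_left, ← act_mul, ← act_mul, act_mul (nD g (ep F s) w), nD_mul, ← act_mul, ← act_mul,
      hfix, zD_on (nD_keep _ w hv), map_smul, zD_on (nD_keep _ w hv), smul_smul] at h
    exact ⟨_, (eq_inv_smul_iff₀ (mul_ne_zero (addChar_ne_zero _ _) (addChar_ne_zero _ _))).2 h⟩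
  choose c hc using hk
  obtain ⟨w, w', hp⟩ := hpol
  refine hp (eq_zero_of_char C.hψ fun t => ?_)
  have h := congrArg (fun x => ρ x v) (nD_mul (g := g) (ep F s) (eq' F s) (-(t • w)) w')
  simp only [← act_mul] at h
  rw [hfix, hc, map_smul, hfix, map_smul, zD_on hv, zχ_vmv] at h
  have hc0 : c w' ≠ 0 := fun h' => hne w' (by rw [hc, h', zero_smul])
  have h1 := smul_left_injective ℂ h0 ((smul_right_injective V hc0 h.symm).trans (one_smul ℂ v).symm)
  rw [← h1]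
  congr 1
  simp [CfsgLib.Orth.polar_smul_l', ne12, ne12.symm]

/-- The central element of the pair is not trivial on a weight space. -/
theorem neg_moves (h2 : (2 : F) ≠ 0) (hpol : ∃ w w' : W, polar g w w' ≠ 0) :
    ∃ v ∈ Vz ρ ψ₀, ρ (lD g (SLn.tor 1 (-1))) v ≠ v := by
  by_contra hall
  push Not at hall
  obtain ⟨v₀, hv₀, h0, -⟩ := qexists_v0 C
  obtain ⟨w, w', hp⟩ := hpol
  have htriv : ∀ z, ∀ v ∈ Vz ρ ψ₀, ρ (nD g (ep F s) z) v = v := by
    intro z v hv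
    set y := (2 : F)⁻¹ • z with hy
    have e : lD g (SLn.tor 1 (-1)) * nD g (ep F s) y = nD g (ep F s) (-y) * lD g (SLn.tor 1 (-1)) := by
      rw [lD_nD, (tor_ac_pair (-1)).1, nD_smul]
      simp
    have h := congrArg (fun x => ρ x v) e
    simp only [← act_mul] at h
    rw [hall v hv, hall _ (nD_keep _ y hv)] at h
    conv_lhs => rw [show z = y + y by rw [hy, ← two_smul F, smul_smul, mul_inv_cancel₀ h2, one_smul]]
    rw [nD_add, ← act_mul, h, act_mul, ← nD_add, add_neg_cancel, nD_zero, map_one, Module.End.one_apply]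
  refine hp (eq_zero_of_char C.hψ fun t => ?_)
  have h := congrArg (fun x => ρ x v₀) (nD_mul (g := g) (ep F s) (eq' F s) (-(t • w)) w')
  simp only [← act_mul] at h
  rw [htriv _ _ (nD_keep _ _ hv₀.1), htriv _ _ hv₀.1, zD_on (nD_keep _ _ hv₀.1), zχ_vmv] at h
  have hne : ρ (nD g (eq' F s) w') v₀ ≠ 0 := fun h' => h0 (act_cancel _ (h'.trans (map_zero _).symm))
  rw [← smul_left_injective ℂ hne (h.symm.trans (one_smul ℂ _).symm)]
  congr 1
  simp [CfsgLib.Orth.polar_smul_l', ne12, ne12.symm]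

/-- A weight space is no larger than the anisotropic part. -/
theorem finrank_vz_le : Module.finrank ℂ (Vz ρ ψ₀) ≤ Fintype.card W := by
  classical
  obtain ⟨v₀, hv₀, h0, hall⟩ := qexists_v0 C
  obtain ⟨D, hD⟩ := qshift_z C
  let L : (W → ℂ) →ₗ[ℂ] V := Fintype.linearCombination ℂ fun y => ρ (nD g (eq' F s) y) v₀
  have hle : Vz ρ ψ₀ ≤ LinearMap.range L := fun x hx => by
    rw [← SLn.sum_proj (ρ := ρ) (u := nD g (ep F s)) D.hu x]
    refine Submodule.sum_mem _ fun χ _ => ?_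
    obtain ⟨y, v', hv', hpv⟩ := D.exists_pre hx χ
    obtain ⟨a, rfl⟩ := hall v' hv'
    rw [hpv, hD, map_smul]
    refine Submodule.smul_mem _ _ ⟨Pi.single y 1, ?_⟩
    rw [Fintype.linearCombination_apply, Finset.sum_eq_single y (fun b _ hb => by simp [hb]) (by simp)]
    simp
  exact (Submodule.finrank_mono hle).trans ((LinearMap.finrank_range_le L).trans (by simp))

end CfsgLib.MinDeg.OrthSiegel
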