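import Cfsg.Agent.Lib.KnownB.MinDeg.OrthSiegel.Elements
import Cfsg.Agent.Lib.KnownB.MinDeg.SLn.Core

/-!
# Weights of the central part of the Siegel radical
-/

set_option autoImplicit false
set_option linter.unusedSectionVars false
set_option backward.isDefEq.respectTransparency false

open Matrix

namespace CfsgLib.MinDeg.OrthSiegel

open CfsgLib.KnownA.MinIndex (T T_mulVec vecMul_T T_inv)

section General

variable {G : Type*} [Group G] {V : Type*} [AddCommGroup V] [Module ℂ V] [FiniteDimensional ℂ V]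
  {X : Type*} [AddCommGroup X] [Fintype X] (ρ : Representation ℂ G V) {u : X → G}

theorem addChar_ne_zero (χ : AddChar X ℂ) (a : X) : χ a ≠ 0 := (χ.val_isUnit a).ne_zero

/-- Weight spaces are independent. -/
theorem sum_weights_le (S : Finset (AddChar X ℂ)) :
    ∑ χ ∈ S, Module.finrank ℂ (weightSpace ρ u χ) ≤ Module.finrank ℂ V := by
  classical
  rw [← Finset.sum_coe_sort S, ← Module.finrank_pi_fintype]
  refine LinearMap.finrank_le_finrank_of_injective
    (f := ∑ χ : S, (weightSpace ρ u χ.1).subtype.comp (LinearMap.proj χ)) ?_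
  rw [injective_iff_map_eq_zero]
  intro f hf
  funext χ
  refine Subtype.ext ?_
  have h := congrArg (SLn.proj ρ u χ.1) hf
  simp only [LinearMap.coe_sum, Finset.sum_apply, LinearMap.comp_apply, LinearMap.proj_apply,
    Submodule.subtype_apply, map_sum, map_zero] at h
  rw [Finset.sum_eq_single χ (fun b _ hb => ?_) (by simp), SLn.proj_of_mem (f χ).2, if_pos rfl] at h
  · exact h
  · rw [SLn.proj_of_mem (f b).2, if_neg fun e => hb (Subtype.ext e)]

omit [FiniteDimensional ℂ V] in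
theorem proj_mem_of_invariant (W : Submodule ℂ V) (hW : ∀ a, ∀ v ∈ W, ρ (u a) v ∈ W)
    (χ : AddChar X ℂ) {x : V} (hx : x ∈ W) : SLn.proj ρ u χ x ∈ W := by
  rw [SLn.proj_apply]
  exact W.smul_mem _ (Submodule.sum_mem _ fun b _ => W.smul_mem _ (hW b x hx))

variable {ρ}

/-- A subgroup whose weights are shifted simply transitively by translators. -/
structure Shift (ρ : Representation ℂ G V) (u : X → G) (W : Submodule ℂ V) (Y : Type*) where
  hu : ∀ a b, u (a + b) = u a * u b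
  hW : ∀ a, ∀ v ∈ W, ρ (u a) v ∈ W
  t : Y → G
  ht : ∀ y, ∀ v ∈ W, ρ (t y) v ∈ W
  c : Y → AddChar X ℂ
  hc : Function.Surjective c
  comm : ∀ y a, ∀ v ∈ W, ρ (u a) (ρ (t y) v) = c y a • ρ (t y) (ρ (u a) v)

variable {W : Submodule ℂ V} {Y : Type*}

theorem Shift.exists_pre (D : Shift ρ u W Y) {x : V} (hx : x ∈ W) (χ : AddChar X ℂ) :
    ∃ y v, v ∈ W ⊓ weightSpace ρ u 0 ∧ SLn.proj ρ u χ x = ρ (D.t y) v := by
  obtain ⟨y, rfl⟩ := D.hc χ
  have hinj : Function.Injective ((ρ (D.t y)).restrict (D.ht y)) := by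
    intro v w h
    refine Subtype.ext ?_
    have h' := congrArg (fun z => ρ (D.t y)⁻¹ (Subtype.val z)) h
    simpa only [LinearMap.coe_restrict_apply, ← Module.End.mul_apply, ← map_mul, inv_mul_cancel,
      map_one, Module.End.one_apply] using h'
  obtain ⟨⟨v, hv⟩, hvx⟩ := LinearMap.injective_iff_surjective.1 hinj
    ⟨_, proj_mem_of_invariant ρ W D.hW (D.c y) hx⟩
  have hvx' : ρ (D.t y) v = SLn.proj ρ u (D.c y) x := congrArg Subtype.val hvx
  refine ⟨y, v, ⟨hv, mem_weightSpace.2 fun a => ?_⟩, hvx'.symm⟩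
  have h1 := D.comm y a v hv
  rw [hvx', mem_weightSpace.1 (SLn.proj_mem D.hu _ _) a, ← hvx'] at h1
  have h2 := congrArg (fun z => ρ (D.t y)⁻¹ ((D.c y a)⁻¹ • z)) h1
  simp only [inv_smul_smul₀ (addChar_ne_zero _ a), ← Module.End.mul_apply, ← map_mul, inv_mul_cancel,
    inv_mul_cancel_left, map_one, Module.End.one_apply] at h2
  rw [← h2]
  simp

theorem Shift.shift_mem (D : Shift ρ u W Y) (y : Y) {v : V} (hv : v ∈ W ⊓ weightSpace ρ u 0) :
    ρ (D.t y) v ∈ weightSpace ρ u (D.c y) := fun a => by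
  rw [D.comm y a v hv.1, mem_weightSpace.1 hv.2 a]
  simp

theorem Shift.card_le (D : Shift ρ u W Y) :
    Fintype.card (AddChar X ℂ) * Module.finrank ℂ ↥(W ⊓ weightSpace ρ u 0) ≤ Module.finrank ℂ W := by
  classical
  choose y hy using D.hc
  let L : AddChar X ℂ → ↥(W ⊓ weightSpace ρ u 0) →ₗ[ℂ] W := fun χ =>
    ((ρ (D.t (y χ))).comp (W ⊓ weightSpace ρ u 0).subtype).codRestrict W fun v => D.ht _ _ v.2.1
  have hLcoe : ∀ χ v, (L χ v : V) = ρ (D.t (y χ)) v := fun _ _ => rfl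
  have h := LinearMap.finrank_le_finrank_of_injective
    (f := ∑ χ : AddChar X ℂ, (L χ).comp (LinearMap.proj χ)) ?_
  · rwa [Module.finrank_pi_fintype, Finset.sum_const, Finset.card_univ, smul_eq_mul] at h
  rw [injective_iff_map_eq_zero]
  intro f hf
  funext χ
  refine Subtype.ext ?_
  have h := congrArg (fun z : W => SLn.proj ρ u χ z) hf
  simp only [LinearMap.coe_sum, Finset.sum_apply, LinearMap.comp_apply, LinearMap.proj_apply,
    Submodule.coe_sum, hLcoe, map_sum, ZeroMemClass.coe_zero, map_zero] at h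
  rw [Finset.sum_eq_single χ (fun b _ hb => ?_) (by simp),
    SLn.proj_of_mem (by have := D.shift_mem (y χ) (f χ).2; rwa [hy χ] at this), if_pos rfl] at h
  · have h' := congrArg (ρ (D.t (y χ))⁻¹) h
    simp only [← Module.End.mul_apply, ← map_mul, inv_mul_cancel, map_one, Module.End.one_apply,
      map_zero] at h'
    exact h'
  · rw [SLn.proj_of_mem (by have := D.shift_mem (y b) (f b).2; rwa [hy b] at this), if_neg hb]

theorem Shift.ne_bot (D : Shift ρ u W Y) (hW : W ≠ ⊥) : W ⊓ weightSpace ρ u 0 ≠ ⊥ := by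
  obtain ⟨x, hx, hx0⟩ := Submodule.exists_mem_ne_zero_of_ne_bot hW
  intro h
  refine hx0 ?_
  rw [← SLn.sum_proj (ρ := ρ) D.hu x]
  refine Finset.sum_eq_zero fun χ _ => ?_
  obtain ⟨y, v, hv, hvx⟩ := D.exists_pre hx χ
  rw [h, Submodule.mem_bot] at hv
  rw [hvx, hv, map_zero]

theorem Shift.scalar (D : Shift ρ u W Y) (T : Module.End ℂ V) (c₀ : ℂ)
    (hT : ∀ y, ∀ v ∈ W, T (ρ (D.t y) v) = ρ (D.t y) (T v))
    (h0 : ∀ v ∈ W ⊓ weightSpace ρ u 0, T v = c₀ • v) : ∀ v ∈ W, T v = c₀ • v := by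
  intro x hx
  rw [← SLn.sum_proj (ρ := ρ) D.hu x, map_sum, Finset.smul_sum]
  refine Finset.sum_congr rfl fun χ _ => ?_
  obtain ⟨y, v, hv, hvx⟩ := D.exists_pre hx χ
  rw [hvx, hT y v hv.1, h0 v hv, map_smul]

end General

section Chars

variable {F : Type*} [Field F] [Fintype F] [DecidableEq F] {ψ₀ : AddChar F ℂ}

theorem addChar_map_sum {A ι : Type*} [AddCommMonoid A] (φ : AddChar A ℂ) (s : Finset ι) (f : ι → A) :
    φ (∑ i ∈ s, f i) = ∏ i ∈ s, φ (f i) := by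
  classical
  induction s using Finset.induction_on with
  | empty => simp
  | insert a s ha ih => rw [Finset.sum_insert ha, Finset.prod_insert ha, AddChar.map_add_eq_mul, ih]

theorem eq_zero_of_char (hψ : ψ₀ ≠ 0) {z : F} (h : ∀ t, ψ₀ (t * z) = 1) : z = 0 := by
  by_contra hz
  obtain ⟨x, hx⟩ := AddChar.ne_zero_iff.1 hψ
  exact hx (by rw [← h (x / z), div_mul_cancel₀ _ hz])

theorem exists_mulShift (hψ : ψ₀ ≠ 0) (φ : AddChar F ℂ) : ∃ γ : F, ∀ t, φ t = ψ₀ (γ * t) := by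
  have hb : Function.Bijective fun γ : F => ψ₀.mulShift γ := by
    refine (Fintype.bijective_iff_injective_and_card _).2 ⟨fun γ γ' h => ?_, AddChar.card_eq.symm⟩
    refine sub_eq_zero.1 (eq_zero_of_char hψ fun t => ?_)
    have h1 : ψ₀ (γ * t) = ψ₀ (γ' * t) := DFunLike.congr_fun h t
    rw [mul_sub, mul_comm t γ, mul_comm t γ', AddChar.map_sub_eq_div, h1,
      div_self (addChar_ne_zero _ _)]
  obtain ⟨γ, hγ⟩ := hb.2 φ
  exact ⟨γ, fun t => by rw [← hγ]; rfl⟩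

theorem polar_chars {W : Type*} [AddCommGroup W] [Module F W] [Fintype W] (hψ : ψ₀ ≠ 0)
    {g : QuadraticForm F W} (hg : (QuadraticMap.polarBilin g).Nondegenerate) (φ : AddChar W ℂ) :
    ∃ w', ∀ w, φ w = ψ₀ (-QuadraticMap.polar g w w') := by
  classical
  let Φ : W → AddChar W ℂ := fun w' =>
    { toFun := fun w => ψ₀ (-QuadraticMap.polar g w w')
      map_zero_eq_one' := by simp
      map_add_eq_mul' := fun a b => by
        rw [QuadraticMap.polar_add_left, neg_add, AddChar.map_add_eq_mul] }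
  have hΦ : ∀ w' w, Φ w' w = ψ₀ (-QuadraticMap.polar g w w') := fun _ _ => rfl
  have hb : Function.Bijective Φ := by
    refine (Fintype.bijective_iff_injective_and_card _).2 ⟨fun a b h => ?_, AddChar.card_eq.symm⟩
    refine sub_eq_zero.1 (hg.2 _ fun w => eq_zero_of_char hψ fun t => ?_)
    have h1 := DFunLike.congr_fun h (-(t • w))
    rw [hΦ, hΦ] at h1
    simp only [QuadraticMap.polar_neg_left, neg_neg, CfsgLib.Orth.polar_smul_l'] at h1
    rw [QuadraticMap.polarBilin_apply_apply, QuadraticMap.polar_sub_right, mul_sub,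
      AddChar.map_sub_eq_div, h1, div_self (addChar_ne_zero _ _)]
  obtain ⟨w', hw'⟩ := hb.2 φ
  exact ⟨w', fun w => by rw [← hw', hΦ]⟩

variable (ψ₀) {r : ℕ}

/-- The character of a pair of covectors. -/
def pr (a b : Fin (r + 1) → F) : AddChar (Matrix (Fin (r + 1)) (Fin (r + 1)) F) ℂ where
  toFun S := ψ₀ (a ⬝ᵥ S *ᵥ b - b ⬝ᵥ S *ᵥ a)
  map_zero_eq_one' := by simp
  map_add_eq_mul' S T := by
    rw [← AddChar.map_add_eq_mul]
    congr 1
    simp only [Matrix.add_mulVec, dotProduct_add]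
    ring

theorem pr_apply (a b : Fin (r + 1) → F) (S : Matrix (Fin (r + 1)) (Fin (r + 1)) F) :
    pr ψ₀ a b S = ψ₀ (a ⬝ᵥ S *ᵥ b - b ⬝ᵥ S *ᵥ a) := rfl

theorem pr_vmv (a b u v : Fin (r + 1) → F) (t : F) :
    pr ψ₀ a b (t • vecMulVec u v) = ψ₀ (t * ((a ⬝ᵥ u) * (b ⬝ᵥ v) - (b ⬝ᵥ u) * (a ⬝ᵥ v))) := by
  rw [pr_apply]
  congr 1
  simp only [Matrix.smul_mulVec, Matrix.vecMulVec_mulVec, op_smul_eq_smul, dotProduct_smul, smul_eq_mul,
    dotProduct_comm v]
  ring

theorem pr_cong (A : SLn.SLg F r) (a b : Fin (r + 1) → F) (S : Matrix (Fin (r + 1)) (Fin (r + 1)) F) :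
    pr ψ₀ a b (cong A S) = pr ψ₀ (a ᵥ* A.1) (b ᵥ* A.1) S := by
  rw [pr_apply, pr_apply, cong]
  simp only [← Matrix.mulVec_mulVec, Matrix.mulVec_transpose, Matrix.dotProduct_mulVec a,
    Matrix.dotProduct_mulVec b]

/-- Congruence as an equivalence. -/
def congE (A : SLn.SLg F r) :
    Matrix (Fin (r + 1)) (Fin (r + 1)) F ≃+ Matrix (Fin (r + 1)) (Fin (r + 1)) F where
  toFun S := cong A S
  invFun S := cong A⁻¹ S
  left_inv S := by
    show (A⁻¹).1 * (A.1 * S * A.1ᵀ) * (A⁻¹).1ᵀ = S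
    rw [← Matrix.mul_assoc, ← Matrix.mul_assoc, ← Matrix.SpecialLinearGroup.coe_mul, inv_mul_cancel,
      Matrix.mul_assoc, ← Matrix.transpose_mul, ← Matrix.SpecialLinearGroup.coe_mul, inv_mul_cancel,
      Matrix.SpecialLinearGroup.coe_one, Matrix.transpose_one, Matrix.one_mul, Matrix.mul_one]
  right_inv S := by
    show A.1 * ((A⁻¹).1 * S * (A⁻¹).1ᵀ) * A.1ᵀ = S
    rw [← Matrix.mul_assoc, ← Matrix.mul_assoc, ← Matrix.SpecialLinearGroup.coe_mul, mul_inv_cancel,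
      Matrix.mul_assoc, ← Matrix.transpose_mul, ← Matrix.SpecialLinearGroup.coe_mul, mul_inv_cancel,
      Matrix.SpecialLinearGroup.coe_one, Matrix.transpose_one, Matrix.one_mul, Matrix.mul_one]
  map_add' S S' := by
    show A.1 * (S + S') * A.1ᵀ = _
    rw [Matrix.mul_add, Matrix.add_mul]
    rfl

theorem congE_apply (A : SLn.SLg F r) (S : Matrix (Fin (r + 1)) (Fin (r + 1)) F) :
    congE A S = cong A S := rfl

variable {ψ₀}

/-- The bilinear form of a character. -/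
theorem exists_form (hψ : ψ₀ ≠ 0) (χ : AddChar (Matrix (Fin (r + 1)) (Fin (r + 1)) F) ℂ) :
    ∃ B : Matrix (Fin (r + 1)) (Fin (r + 1)) F, ∀ S, χ S = ψ₀ (∑ i, ∑ j, B i j * S i j) := by
  have h : ∀ i j, ∃ γ : F, ∀ t, χ (Matrix.single i j t) = ψ₀ (γ * t) := fun i j =>
    exists_mulShift hψ
      { toFun := fun t => χ (Matrix.single i j t)
        map_zero_eq_one' := by simp
        map_add_eq_mul' := fun s t => by rw [Matrix.single_add, AddChar.map_add_eq_mul] }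
  choose B hB using h
  refine ⟨Matrix.of B, fun S => ?_⟩
  conv_lhs => rw [Matrix.matrix_eq_sum_single S]
  rw [addChar_map_sum, addChar_map_sum]
  refine Finset.prod_congr rfl fun i _ => ?_
  rw [addChar_map_sum, addChar_map_sum]
  exact Finset.prod_congr rfl fun j _ => hB i j _

/-- Two kinds of non-zero alternating forms. -/
theorem classify (hψ : ψ₀ ≠ 0) (χ : AddChar (Matrix (Fin (r + 1)) (Fin (r + 1)) F) ℂ) (hχ : χ ≠ 0)
    (hsym : ∀ S, Sᵀ = S → χ S = 1) :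
    (∃ (B : Matrix (Fin (r + 1)) (Fin (r + 1)) F) (u v u' v' : Fin (r + 1) → F),
      (∀ (t : F) x y, χ (t • vecMulVec x y) = ψ₀ (t * (x ⬝ᵥ B *ᵥ y))) ∧
      (∀ x y, x ⬝ᵥ B *ᵥ y + y ⬝ᵥ B *ᵥ x = 0) ∧ (∀ x, x ⬝ᵥ B *ᵥ x = 0) ∧
      u ⬝ᵥ B *ᵥ v = 1 ∧ u' ⬝ᵥ B *ᵥ v' = 1 ∧ u ⬝ᵥ B *ᵥ u' = 0 ∧ u ⬝ᵥ B *ᵥ v' = 0 ∧
      v ⬝ᵥ B *ᵥ u' = 0 ∧ v ⬝ᵥ B *ᵥ v' = 0) ∨
    ∃ a b, LinearIndependent F ![a, b] ∧ χ = pr ψ₀ a b := by
  obtain ⟨B, hB⟩ := exists_form hψ χ
  have hv : ∀ (t : F) x y, χ (t • vecMulVec x y) = ψ₀ (t * (x ⬝ᵥ B *ᵥ y)) := by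
    intro t x y
    rw [hB]
    congr 1
    simp only [dotProduct, Matrix.mulVec, Matrix.smul_apply, vecMulVec_apply, smul_eq_mul,
      Finset.mul_sum]
    exact Finset.sum_congr rfl fun i _ => Finset.sum_congr rfl fun j _ => by ring
  have halt : ∀ x, x ⬝ᵥ B *ᵥ x = 0 := fun x => eq_zero_of_char hψ fun t => by
    rw [← hv]
    exact hsym _ (by rw [Matrix.transpose_smul, Matrix.transpose_vecMulVec])
  have hskew : ∀ x y, x ⬝ᵥ B *ᵥ y + y ⬝ᵥ B *ᵥ x = 0 := fun x y => by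
    have h := halt (x + y)
    rwa [Matrix.mulVec_add, dotProduct_add, add_dotProduct, add_dotProduct, halt, halt, zero_add,
      add_zero, add_comm] at h
  obtain ⟨u, v, huv⟩ : ∃ u v, u ⬝ᵥ B *ᵥ v = 1 := by
    obtain ⟨i, j, hij⟩ : ∃ i j, B i j ≠ 0 := by
      by_contra hall
      push Not at hall
      exact hχ (by
        ext S
        simp [hB, hall])
    refine ⟨(B i j)⁻¹ • Pi.single i 1, Pi.single j 1, ?_⟩
    rw [smul_dotProduct, single_dotProduct, one_mul, Matrix.mulVec_single_one, smul_eq_mul]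
    exact inv_mul_cancel₀ hij
  by_cases hc : ∃ x y, u ⬝ᵥ B *ᵥ x = 0 ∧ v ⬝ᵥ B *ᵥ x = 0 ∧ u ⬝ᵥ B *ᵥ y = 0 ∧ v ⬝ᵥ B *ᵥ y = 0 ∧
      x ⬝ᵥ B *ᵥ y ≠ 0
  · obtain ⟨x, y, h1, h2, h3, h4, h5⟩ := hc
    left
    refine ⟨B, u, v, (x ⬝ᵥ B *ᵥ y)⁻¹ • x, y, hv, hskew, halt, huv, ?_, ?_, h3, ?_, h4⟩
    · rw [smul_dotProduct, smul_eq_mul, inv_mul_cancel₀ h5]
    · rw [Matrix.mulVec_smul, dotProduct_smul, h1, smul_zero]
    · rw [Matrix.mulVec_smul, dotProduct_smul, h2, smul_zero]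
  · right
    push Not at hc
    have hvu : v ⬝ᵥ B *ᵥ u = -1 := by linear_combination hskew u v - huv
    refine ⟨B *ᵥ v, u ᵥ* B, ?_, ?_⟩
    · rw [LinearIndependent.pair_iff]
      intro s t hst
      have h1 := congrArg (fun z => u ⬝ᵥ z) hst
      have h2 := congrArg (fun z => v ⬝ᵥ z) hst
      simp only [dotProduct_add, dotProduct_smul, dotProduct_zero, smul_eq_mul] at h1 h2
      rw [huv, dotProduct_comm u (u ᵥ* B), ← Matrix.dotProduct_mulVec, halt] at h1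
      rw [halt, dotProduct_comm v (u ᵥ* B), ← Matrix.dotProduct_mulVec, huv] at h2
      exact ⟨by linear_combination h1, by linear_combination h2⟩
    · have key : ∀ x y, x ⬝ᵥ B *ᵥ y =
          ((B *ᵥ v) ⬝ᵥ x) * ((u ᵥ* B) ⬝ᵥ y) - ((u ᵥ* B) ⬝ᵥ x) * ((B *ᵥ v) ⬝ᵥ y) := by
        intro x y
        simp only [← Matrix.dotProduct_mulVec, dotProduct_comm (B *ᵥ v)]
        set x' := x - (x ⬝ᵥ B *ᵥ v) • u - (u ⬝ᵥ B *ᵥ x) • v with hx'
        set y' := y - (y ⬝ᵥ B *ᵥ v) • u - (u ⬝ᵥ B *ᵥ y) • v with hy'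
        have e : x' ⬝ᵥ B *ᵥ y' = 0 := by
          refine hc x' y' ?_ ?_ ?_ ?_
          all_goals simp only [hx', hy', Matrix.mulVec_sub, Matrix.mulVec_smul, dotProduct_sub,
            dotProduct_smul, smul_eq_mul, halt, huv, hvu]
          · ring
          · linear_combination hskew x v
          · ring
          · linear_combination hskew y v
        simp only [hx', hy', Matrix.mulVec_sub, Matrix.mulVec_smul, dotProduct_sub, dotProduct_smul,
          sub_dotProduct, smul_dotProduct, smul_eq_mul, halt, huv, hvu] at e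
        linear_combination e + (y ⬝ᵥ B *ᵥ v) * hskew x u - (x ⬝ᵥ B *ᵥ v) * 0
          + (u ⬝ᵥ B *ᵥ x) * hskew v y
      refine DFunLike.ext _ _ fun S => ?_
      conv_lhs => rw [Matrix.matrix_eq_sum_single S]
      conv_rhs => rw [Matrix.matrix_eq_sum_single S]
      rw [addChar_map_sum, addChar_map_sum]
      refine Finset.prod_congr rfl fun i _ => ?_
      rw [addChar_map_sum, addChar_map_sum]
      refine Finset.prod_congr rfl fun j _ => ?_
      rw [show Matrix.single i j (S i j) = S i j • vecMulVec (Pi.single i 1) (Pi.single j 1) by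
        ext a b
        simp only [Matrix.single_apply, Matrix.smul_apply, vecMulVec_apply, Pi.single_apply, smul_eq_mul]
        by_cases ha : i = a <;> by_cases hb : j = b <;> simp [ha, hb, Ne.symm], hv, pr_vmv, key]

/-- The covectors vanishing on two vectors. -/
theorem card_orth (u v : Fin (r + 1) → F) :
    Fintype.card F ^ (r - 1) ≤ Nat.card {φ : Fin (r + 1) → F // φ ⬝ᵥ u = 0 ∧ φ ⬝ᵥ v = 0} := by
  let f : (Fin (r + 1) → F) →ₗ[F] F × F :=
    { toFun := fun φ => (φ ⬝ᵥ u, φ ⬝ᵥ v)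
      map_add' := fun a b => by simp [add_dotProduct]
      map_smul' := fun c a => by simp [smul_dotProduct] }
  have h1 := LinearMap.finrank_range_add_finrank_ker f
  have h2 := (LinearMap.range f).finrank_le
  rw [Module.finrank_prod, Module.finrank_self] at h2
  rw [Module.finrank_fin_fun] at h1
  have e : {φ : Fin (r + 1) → F // φ ⬝ᵥ u = 0 ∧ φ ⬝ᵥ v = 0} ≃ LinearMap.ker f :=
    Equiv.subtypeEquivRight fun φ => by simp [f, LinearMap.mem_ker, Prod.ext_iff]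
  rw [Nat.card_congr e, Module.natCard_eq_pow_finrank (K := F), Nat.card_eq_fintype_card]
  exact Nat.pow_le_pow_right Fintype.card_pos (by omega)

variable (ψ₀) in
/-- The decomposable forms. -/
noncomputable def dec (r : ℕ) : Finset (AddChar (Matrix (Fin (r + 1)) (Fin (r + 1)) F) ℂ) :=
  haveI := Classical.decEq (AddChar (Matrix (Fin (r + 1)) (Fin (r + 1)) F) ℂ)
  haveI := Classical.decPred fun s : Fin 2 → Fin (r + 1) → F => LinearIndependent F s
  (Finset.univ.filter fun s : Fin 2 → Fin (r + 1) → F => LinearIndependent F s).image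
    fun s => pr ψ₀ (s 0) (s 1)

theorem mem_dec {χ : AddChar (Matrix (Fin (r + 1)) (Fin (r + 1)) F) ℂ} :
    χ ∈ dec ψ₀ r ↔ ∃ a b, LinearIndependent F ![a, b] ∧ χ = pr ψ₀ a b := by
  classical
  simp only [dec, Finset.mem_image, Finset.mem_filter, Finset.mem_univ, true_and]
  constructor
  · rintro ⟨s, hs, rfl⟩
    refine ⟨s 0, s 1, ?_, rfl⟩
    convert hs
    funext i; fin_cases i <;> rfl
  · rintro ⟨a, b, h, rfl⟩
    exact ⟨![a, b], h, rfl⟩

/-- The number of decomposable forms. -/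
theorem card_pr (hψ : ψ₀ ≠ 0) (hr : 1 ≤ r) :
    (Fintype.card F ^ (r + 1) - 1) * (Fintype.card F ^ (r + 1) - Fintype.card F) ≤
      (dec ψ₀ r).card * ((Fintype.card F ^ 2 - 1) * Fintype.card F) := by
  classical
  set q := Fintype.card F with hq
  set P := Finset.univ.filter fun s : Fin 2 → Fin (r + 1) → F => LinearIndependent F s with hP
  have hPc : P.card = (q ^ (r + 1) - 1) * (q ^ (r + 1) - q) := by
    rw [hP, ← Fintype.card_subtype, ← Nat.card_eq_fintype_card,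
      card_linearIndependent (by rw [Module.finrank_fin_fun]; omega), Fin.prod_univ_two,
      Module.finrank_fin_fun]
    simp [hq]
  rw [← hPc, mul_comm, show dec ψ₀ r = P.image fun s => pr ψ₀ (s 0) (s 1) by
    ext χ
    simp [dec, hP]]
  refine Finset.card_le_mul_card_image P _ fun χ hχ => ?_
  obtain ⟨s, hs, rfl⟩ := Finset.mem_image.1 hχ
  simp only [hP, Finset.mem_filter, Finset.mem_univ, true_and] at hs
  have hs' : LinearIndependent F ![s 0, s 1] := by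
    convert hs
    funext i; fin_cases i <;> rfl
  have hdual : ∀ (x y : Fin (r + 1) → F), LinearIndependent F ![x, y] →
      ∃ z, x ⬝ᵥ z = 1 ∧ y ⬝ᵥ z = 0 := fun x y hxy => by
    rw [LinearIndependent.pair_iff] at hxy
    obtain ⟨z, h1, h2⟩ := CfsgLib.KnownA.MinIndex.exists_dual (u := y) (v := x)
      (fun c h => one_ne_zero (hxy (-c) 1 (by rw [h]; module)).2)
      (fun h => one_ne_zero (hxy 1 0 (by rw [h]; module)).1) 1
    exact ⟨z, by rwa [dotProduct_comm], by rwa [dotProduct_comm]⟩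
  obtain ⟨u₀, hu1, hu2⟩ := hdual _ _ hs'
  obtain ⟨v₀, hv2, hv1⟩ := hdual _ _ (LinearIndependent.pair_symm_iff.1 hs')
  let κ : (Fin 2 → Fin (r + 1) → F) → (F × F) × F := fun s' =>
    ((s' 0 ⬝ᵥ u₀, s' 0 ⬝ᵥ v₀), if s' 0 ⬝ᵥ u₀ = 0 then s' 1 ⬝ᵥ v₀ else s' 1 ⬝ᵥ u₀)
  have key : ∀ s' ∈ P.filter (fun x => pr ψ₀ (x 0) (x 1) = pr ψ₀ (s 0) (s 1)),
      (s' 0 ⬝ᵥ u₀) * (s' 1 ⬝ᵥ v₀) - (s' 1 ⬝ᵥ u₀) * (s' 0 ⬝ᵥ v₀) = 1 ∧
      s' 0 = (s' 0 ⬝ᵥ u₀) • s 0 + (s' 0 ⬝ᵥ v₀) • s 1 ∧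
      s' 1 = (s' 1 ⬝ᵥ u₀) • s 0 + (s' 1 ⬝ᵥ v₀) • s 1 := by
    intro s' hs'
    have e : ∀ x y, (s' 0 ⬝ᵥ x) * (s' 1 ⬝ᵥ y) - (s' 1 ⬝ᵥ x) * (s' 0 ⬝ᵥ y) =
        (s 0 ⬝ᵥ x) * (s 1 ⬝ᵥ y) - (s 1 ⬝ᵥ x) * (s 0 ⬝ᵥ y) := fun x y => by
      refine sub_eq_zero.1 (eq_zero_of_char hψ fun t => ?_)
      rw [mul_sub, AddChar.map_sub_eq_div, ← pr_vmv, ← pr_vmv, (Finset.mem_filter.1 hs').2,
        div_self (addChar_ne_zero _ _)]
    have h1 : (s' 0 ⬝ᵥ u₀) * (s' 1 ⬝ᵥ v₀) - (s' 1 ⬝ᵥ u₀) * (s' 0 ⬝ᵥ v₀) = 1 := by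
      rw [e, hu1, hu2, hv1, hv2]; ring
    have ha : ∀ x, s 0 ⬝ᵥ x = (s' 0 ⬝ᵥ x) * (s' 1 ⬝ᵥ v₀) - (s' 1 ⬝ᵥ x) * (s' 0 ⬝ᵥ v₀) := fun x => by
      rw [e, hv1, hv2]; ring
    have hb : ∀ x, s 1 ⬝ᵥ x = (s' 0 ⬝ᵥ u₀) * (s' 1 ⬝ᵥ x) - (s' 1 ⬝ᵥ u₀) * (s' 0 ⬝ᵥ x) := fun x => by
      rw [e, hu1, hu2]; ring
    refine ⟨h1, funext fun i => ?_, funext fun i => ?_⟩
    all_goals
      have a1 := ha (Pi.single i 1)
      have b1 := hb (Pi.single i 1)
      simp only [dotProduct_single, mul_one] at a1 b1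
      simp only [Pi.add_apply, Pi.smul_apply, smul_eq_mul, a1, b1]
    · linear_combination -(s' 0 i) * h1
    · linear_combination -(s' 1 i) * h1
  calc (P.filter fun x => pr ψ₀ (x 0) (x 1) = pr ψ₀ (s 0) (s 1)).card
      ≤ (((Finset.univ : Finset (F × F)).erase 0) ×ˢ (Finset.univ : Finset F)).card := by
        refine Finset.card_le_card_of_injOn κ (fun s' hs' => ?_) fun s' hs' t' ht' heq => ?_
        · simp only [Finset.mem_coe, Finset.mem_product, Finset.mem_erase, Finset.mem_univ, and_true, κ]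
          intro h0
          have h1 := (key s' hs').1
          have e1 : s' 0 ⬝ᵥ u₀ = 0 := congrArg Prod.fst h0
          have e2 : s' 0 ⬝ᵥ v₀ = 0 := congrArg Prod.snd h0
          rw [e1, e2] at h1
          simp at h1
        · obtain ⟨h1, ha, hb⟩ := key s' hs'
          obtain ⟨h1', ha', hb'⟩ := key t' ht'
          simp only [κ, Prod.ext_iff] at heq
          obtain ⟨⟨e1, e2⟩, e3⟩ := heq
          rw [← e1, ← e2] at h1'
          rw [← e1] at e3
          have hc : s' 1 ⬝ᵥ u₀ = t' 1 ⬝ᵥ u₀ ∧ s' 1 ⬝ᵥ v₀ = t' 1 ⬝ᵥ v₀ := by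
            by_cases h0 : s' 0 ⬝ᵥ u₀ = 0
            · rw [if_pos h0, if_pos h0] at e3
              refine ⟨?_, e3⟩
              rw [h0] at h1 h1'
              have hne : s' 0 ⬝ᵥ v₀ ≠ 0 := fun h => by rw [h] at h1; simp at h1
              exact mul_right_cancel₀ hne (by linear_combination h1' - h1)
            · rw [if_neg h0, if_neg h0] at e3
              refine ⟨e3, ?_⟩
              rw [← e3] at h1'
              exact mul_left_cancel₀ h0 (by linear_combination h1 - h1')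
          funext k
          fin_cases k
          · show s' 0 = t' 0
            rw [ha, ha', e1, e2]
          · show s' 1 = t' 1
            rw [hb, hb', hc.1, hc.2]
    _ = (q ^ 2 - 1) * q := by
      rw [Finset.card_product, Finset.card_erase_of_mem (Finset.mem_univ _), Finset.card_univ,
        Finset.card_univ, Fintype.card_prod, hq, sq]

end Chars

end CfsgLib.MinDeg.OrthSiegel
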