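import Cfsg.Agent.Lib.KnownB.MinDeg.OrthSiegel.Mem
import Cfsg.Agent.Lib.KnownB.MinDeg.OrthSiegel.Weights

/-!
# Relations in the commutator subgroup
-/

set_option autoImplicit false
set_option linter.unusedSectionVars false
set_option backward.isDefEq.respectTransparency false

open Matrix

namespace CfsgLib.MinDeg.OrthSiegel

open QuadraticMap CfsgLib.Orth
open CfsgLib.KnownA.MinIndex (T T_mulVec vecMul_T T_inv)

variable {F : Type*} [Field F] {r : ℕ} {W : Type*} [AddCommGroup W] [Module F W]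
  (g : QuadraticForm F W) (hr : 2 ≤ r)

theorem nC_zero (u : Fin (r + 1) → F) : nC g hr u 0 = 1 := Subtype.ext (nu_zero g u)

theorem nC_smul (t : F) (u : Fin (r + 1) → F) (w : W) :
    nC g hr (t • u) w = nC g hr u (t • w) := Subtype.ext (nu_smul g t u w)

theorem nC_mul (u v : Fin (r + 1) → F) (w w' : W) :
    nC g hr u w * nC g hr v w' =
      zC g hr (polar g w w' • vecMulVec v u) * (nC g hr v w' * nC g hr u w) :=
  Subtype.ext (nu_mul g u v w w')

theorem nC_add_left (u v : Fin (r + 1) → F) (w : W) :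
    nC g hr (u + v) w = zC g hr (g w • vecMulVec u v) * (nC g hr u w * nC g hr v w) :=
  Subtype.ext (nu_add_left g u v w)

theorem zC_nC (S : Matrix (Fin (r + 1)) (Fin (r + 1)) F) (u : Fin (r + 1) → F) (w : W) :
    zC g hr S * nC g hr u w = nC g hr u w * zC g hr S := Subtype.ext (zz_nu g S u w)

theorem zC_comm (S S' : Matrix (Fin (r + 1)) (Fin (r + 1)) F) :
    zC g hr S * zC g hr S' = zC g hr S' * zC g hr S := Subtype.ext (zz_comm g S S')

theorem zC_symm {S : Matrix (Fin (r + 1)) (Fin (r + 1)) F} (h : Sᵀ = S) : zC g hr S = 1 :=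
  Subtype.ext (zz_symm g h)

theorem zC_swap (a b : Fin (r + 1) → F) :
    zC g hr (vecMulVec a b) = zC g hr (vecMulVec (-b) a) :=
  Subtype.ext (by rw [zC_coe, zC_coe, zz_vmv_swap, Matrix.neg_vecMulVec])

theorem lC_zC (A : SLn.SLg F r) (S : Matrix (Fin (r + 1)) (Fin (r + 1)) F) :
    lC g hr A * zC g hr S = zC g hr (cong A S) * lC g hr A := Subtype.ext (Lv_zz g A S)

theorem lC_nC (A : SLn.SLg F r) (u : Fin (r + 1) → F) (w : W) :
    lC g hr A * nC g hr u w = nC g hr (SLn.ac A u) w * lC g hr A := Subtype.ext (Lv_nu g A u w)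

theorem lC_mC (A : SLn.SLg F r) {v : Fin (r + 1) → F} (hv : v ᵥ* A.1 = v) (w : W) :
    lC g hr A * mC g hr v w = mC g hr v w * lC g hr A := Subtype.ext (Lv_nm g A hv w)

theorem nC_mC {u v : Fin (r + 1) → F} (h : v ⬝ᵥ u = 0) (w' w : W) :
    nC g hr u w' * mC g hr v w =
      lC g hr (T (-(polar g w' w) • u) v) * (mC g hr v w * nC g hr u w') :=
  Subtype.ext (nu_nm g h w' w)

theorem zC_mC_comm (a b : Fin (r + 1) → F) {v : Fin (r + 1) → F} (ha : a ⬝ᵥ v = 0) (hb : b ⬝ᵥ v = 0)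
    (w : W) : zC g hr (vecMulVec a b) * mC g hr v w = mC g hr v w * zC g hr (vecMulVec a b) :=
  Subtype.ext (zz_nm_comm g a b ha hb w)

theorem zC_mC {a b v : Fin (r + 1) → F} (ha : a ⬝ᵥ v = 0) (hb : b ⬝ᵥ v = 1) (w : W) :
    zC g hr (vecMulVec a b) * mC g hr v w =
      nC g hr a w * (lC g hr (T (g w • a) v) * (mC g hr v w * zC g hr (vecMulVec a b))) :=
  Subtype.ext (zz_nm g ha hb w)

variable {h : orthGroup g} (hh : Hm (m := r + 1) g h ∈ Om (r + 1) g)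

theorem hC_nC (u : Fin (r + 1) → F) (w : W) :
    (⟨_, hh⟩ : Om (r + 1) g) * nC g hr u w = nC g hr u (h.1 w) * ⟨_, hh⟩ :=
  Subtype.ext (Hm_nu g h u w)

theorem hC_zC (S : Matrix (Fin (r + 1)) (Fin (r + 1)) F) :
    (⟨_, hh⟩ : Om (r + 1) g) * zC g hr S = zC g hr S * ⟨_, hh⟩ :=
  Subtype.ext (Hm_zz g h S)

variable {i : Fin (r + 1)} (hs : sw g i * Hm g h ∈ Om (r + 1) g)

theorem sC_nC {u : Fin (r + 1) → F} (hu : u i = 0) (w : W) :
    (⟨_, hs⟩ : Om (r + 1) g) * nC g hr u w = nC g hr u (h.1 w) * ⟨_, hs⟩ :=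
  Subtype.ext (by
    show sw g i * Hm g h * nu g u w = nu g u (h.1 w) * (sw g i * Hm g h)
    rw [mul_assoc, Hm_nu, ← mul_assoc, sw_nu g i hu, mul_assoc])

theorem sC_zC {a b : Fin (r + 1) → F} (ha : a i = 0) (hb : b i = 0) :
    (⟨_, hs⟩ : Om (r + 1) g) * zC g hr (vecMulVec a b) = zC g hr (vecMulVec a b) * ⟨_, hs⟩ :=
  Subtype.ext (by
    show sw g i * Hm g h * zz g _ = zz g _ * (sw g i * Hm g h)
    rw [mul_assoc, Hm_zz, ← mul_assoc, sw_zz g i ha hb, mul_assoc])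

theorem sC_zC_single {a : Fin (r + 1) → F} (ha : a i = 0) :
    (⟨_, hs⟩ : Om (r + 1) g) * zC g hr (vecMulVec a (Pi.single i 1)) =
      lC g hr (T a (Pi.single i 1)) * ⟨_, hs⟩ :=
  Subtype.ext (by
    show sw g i * Hm g h * zz g _ = Lv g _ * (sw g i * Hm g h)
    rw [mul_assoc, Hm_zz, ← mul_assoc, sw_zz_single g i ha, mul_assoc])

theorem sC_lC {A : SLn.SLg F r} (h1 : SLn.ac A (Pi.single i 1) = Pi.single i 1)
    (h2 : (Pi.single i 1 : Fin (r + 1) → F) ᵥ* A.1 = Pi.single i 1) :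
    (⟨_, hs⟩ : Om (r + 1) g) * lC g hr A = lC g hr A * ⟨_, hs⟩ :=
  Subtype.ext (by
    show sw g i * Hm g h * Lv g A = Lv g A * (sw g i * Hm g h)
    rw [mul_assoc, Hm_Lv, ← mul_assoc, sw_Lv g i h1 h2, mul_assoc])

theorem sC_sq (hh2 : h * h = 1) :
    (⟨_, hs⟩ : Om (r + 1) g) * ⟨_, hs⟩ = 1 :=
  Subtype.ext (by
    show sw g i * Hm g h * (sw g i * Hm g h) = 1
    rw [mul_assoc, ← mul_assoc (Hm g h), Hm_sw, mul_assoc, ← map_mul, hh2, map_one, mul_one, sw,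
      refl_mul_self])

end CfsgLib.MinDeg.OrthSiegel
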