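import Cfsg.Agent.Lib.KnownB.MinDeg.OrthSiegel.Inner

/-!
# The torus and the positive exchange of one hyperbolic pair
-/

set_option autoImplicit false
set_option linter.unusedSectionVars false
set_option backward.isDefEq.respectTransparency false
set_option maxHeartbeats 2000000
set_option synthInstance.maxHeartbeats 200000

open Matrix
open scoped commutatorElement

namespace CfsgLib.MinDeg.OrthSiegel

open QuadraticMap CfsgLib.Orth
open CfsgLib.KnownA.MinIndex (T T_mulVec vecMul_T T_inv)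

variable {F : Type*} [Field F] {m : ℕ} {W : Type*} [AddCommGroup W] [Module F W]
  (g : QuadraticForm F W)

/-- The action of the torus on coordinate vectors. -/
def dv (d : Fin m → Fˣ) (x : Fin m → F) : Fin m → F := fun i => (d i : F) * x i

theorem dv_apply (d : Fin m → Fˣ) (x : Fin m → F) (i : Fin m) : dv d x i = (d i : F) * x i := rfl

/-- The torus. -/
noncomputable def dgo (d : Fin m → Fˣ) : orthGroup (bigForm m g) :=
  ⟨{ toFun := fun v => (dv d v.1, dv d⁻¹ v.2.1, v.2.2)
     map_add' := fun v w => by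
      refine Prod.ext ?_ (Prod.ext ?_ rfl) <;> (funext i; simp [dv, mul_add])
     map_smul' := fun c v => by
      refine Prod.ext ?_ (Prod.ext ?_ rfl) <;> (funext i; simp [dv]; ring)
     invFun := fun v => (dv d⁻¹ v.1, dv d v.2.1, v.2.2)
     left_inv := fun v => by
      refine Prod.ext ?_ (Prod.ext ?_ rfl) <;> (funext i; simp [dv])
     right_inv := fun v => by
      refine Prod.ext ?_ (Prod.ext ?_ rfl) <;> (funext i; simp [dv]) }, fun ⟨x, y, w⟩ => by
      show bigForm m g (dv d x, dv d⁻¹ y, w) = _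
      rw [bigForm_apply, bigForm_apply]
      congr 1
      refine Finset.sum_congr rfl fun i _ => ?_
      (simp [dv]; field_simp)⟩

theorem dgo_apply (d : Fin m → Fˣ) (x y : Fin m → F) (w : W) :
    (dgo g d).1 (x, y, w) = (dv d x, dv d⁻¹ y, w) := rfl

theorem dgo_mul (d d' : Fin m → Fˣ) : dgo g (d * d') = dgo g d * dgo g d' :=
  orth_ext g fun x y w => by
    simp only [orth_mul_apply, dgo_apply]
    refine Prod.ext ?_ (Prod.ext ?_ rfl) <;> (funext i; simp [dv]; ring)

theorem dgo_sq_mem (d : Fin m → Fˣ) : dgo g (d * d) ∈ Om m g := by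
  have h := comm_mem g (dgo g d) (Jx g)
  have e : Jx (m := m) g * (dgo g d)⁻¹ * Jx g = dgo g d := by
    have h1 : Jx (m := m) g * dgo g d⁻¹ * Jx g = dgo g d := orth_ext g fun x y w => by
      simp only [orth_mul_apply, Jx_apply, dgo_apply, inv_inv]
    rwa [show (dgo g d)⁻¹ = dgo g d⁻¹ from inv_eq_of_mul_eq_one_right (by
      rw [← dgo_mul, mul_inv_cancel]
      exact orth_ext g fun x y w => by
        rw [dgo_apply]
        refine Prod.ext ?_ (Prod.ext ?_ rfl) <;> (funext i; simp [dv]))]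
  rwa [commutatorElement_def, inv_eq_of_mul_eq_one_right (Jx_mul_self (m := m) g),
    mul_assoc (dgo g d) (Jx g), mul_assoc (dgo g d), e, ← dgo_mul] at h

theorem dgo_nu (d : Fin m → Fˣ) (u : Fin m → F) (w : W) :
    dgo g d * nu g u w = nu g (dv d u) w * dgo g d :=
  orth_ext g fun x y z => by
    have h : dv d u ⬝ᵥ dv d⁻¹ y = u ⬝ᵥ y := Finset.sum_congr rfl fun i _ => by
      (simp [dv]; field_simp)
    simp only [orth_mul_apply, nu_apply, dgo_apply, h]
    refine Prod.ext ?_ rfl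
    funext i
    simp [dv]
    ring

/-- The scaling of matrices. -/
def dsE (d : Fin m → Fˣ) : Matrix (Fin m) (Fin m) F ≃+ Matrix (Fin m) (Fin m) F where
  toFun S := Matrix.of fun i j => (d i : F) * S i j * (d j : F)
  invFun S := Matrix.of fun i j => ((d i)⁻¹ : Fˣ) * S i j * ((d j)⁻¹ : Fˣ)
  left_inv S := by ext i j; simp; field_simp
  right_inv S := by ext i j; simp; field_simp
  map_add' S T := by ext i j; simp; ring

theorem dsE_vmv (d : Fin m → Fˣ) (a b : Fin m → F) :
    dsE d (vecMulVec a b) = vecMulVec (dv d a) (dv d b) := by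
  ext i j
  simp [dsE, vecMulVec_apply, dv]
  ring

theorem dgo_zz (d : Fin m → Fˣ) (S : Matrix (Fin m) (Fin m) F) :
    dgo g d * zz g S = zz g (dsE d S) * dgo g d :=
  orth_ext g fun x y z => by
    simp only [orth_mul_apply, zz_apply, dgo_apply]
    refine Prod.ext ?_ rfl
    funext i
    simp [dv, dsE, Matrix.mulVec, dotProduct, mul_add, Finset.mul_sum]
    refine Finset.sum_congr rfl fun j _ => ?_
    field_simp

theorem dgo_Lv_T {r : ℕ} (d : Fin (r + 1) → Fˣ) {v φ : Fin (r + 1) → F} (h : φ ⬝ᵥ v = 0) :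
    dgo g d * Lv g (T v φ) = Lv g (T (dv d v) (dv d⁻¹ φ)) * dgo g d :=
  orth_ext g fun x y z => by
    have h' : dv d⁻¹ φ ⬝ᵥ dv d v = 0 := by
      rw [← h]
      exact Finset.sum_congr rfl fun i _ => by (simp [dv]; field_simp)
    simp only [orth_mul_apply, dgo_apply]
    rw [Lv_T_apply g h, Lv_T_apply g h']
    have e1 : dv d⁻¹ φ ⬝ᵥ dv d x = φ ⬝ᵥ x := Finset.sum_congr rfl fun i _ => by
      (simp [dv]; field_simp)
    have e2 : dv d⁻¹ y ⬝ᵥ dv d v = y ⬝ᵥ v := Finset.sum_congr rfl fun i _ => by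
      (simp [dv]; field_simp)
    simp only [dgo_apply, e1, e2]
    refine Prod.ext ?_ (Prod.ext ?_ rfl) <;> (funext i; simp [dv]; ring)

section Swap

variable (i : Fin m)

/-- The exchange of one hyperbolic pair with signs. -/
noncomputable def swp : orthGroup (bigForm m g) :=
  refl (bigForm m g) (Pi.single i 1, Pi.single i 1, 0)

theorem swp_quad : bigForm m g (Pi.single i 1, Pi.single i 1, 0) = 1 := by
  rw [bigForm_apply, map_zero, add_zero, single_dotProduct, Pi.single_eq_same, mul_one]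

theorem swp_apply (x y : Fin m → F) (w : W) : (swp g i).1 (x, y, w) =
    (x - (x i + y i) • Pi.single i 1, y - (x i + y i) • Pi.single i 1, w) := by
  rw [swp, refl_apply, swp_quad, bigForm_polar, polar_zero_left, add_zero, single_dotProduct,
    dotProduct_single, one_mul, mul_one, inv_one, one_mul, add_comm (y i)]
  refine Prod.ext rfl (Prod.ext rfl ?_)
  show w - _ • (0 : W) = w
  rw [smul_zero, sub_zero]

theorem swp_nu {u : Fin m → F} (hu : u i = 0) (w : W) : swp g i * nu g u w = nu g u w * swp g i :=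
  orth_ext g fun x y z => by
    simp only [orth_mul_apply, swp_apply, nu_apply, dotProduct_sub, dotProduct_smul, dotProduct_single,
      hu, Pi.add_apply, Pi.smul_apply, smul_eq_mul, mul_one, mul_zero, add_zero, sub_zero]
    refine Prod.ext ?_ rfl
    abel

theorem swp_zz {a b : Fin m → F} (ha : a i = 0) (hb : b i = 0) :
    swp g i * zz g (vecMulVec a b) = zz g (vecMulVec a b) * swp g i :=
  orth_ext g fun x y z => by
    simp only [orth_mul_apply, swp_apply, zz_vmv_apply, dotProduct_sub, dotProduct_smul,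
      dotProduct_single, ha, hb, Pi.add_apply, Pi.sub_apply, Pi.smul_apply, smul_eq_mul, mul_one,
      mul_zero, add_zero, sub_zero]
    refine Prod.ext ?_ rfl
    abel

theorem swp_zz_single {r : ℕ} (i : Fin (r + 1)) {a : Fin (r + 1) → F} (ha : a i = 0) :
    swp g i * zz g (vecMulVec a (Pi.single i 1)) = Lv g (T (-a) (Pi.single i 1)) * swp g i :=
  orth_ext g fun x y z => by
    have h : (Pi.single i 1 : Fin (r + 1) → F) ⬝ᵥ (-a) = 0 := by
      rw [dotProduct_neg, single_dotProduct, one_mul, ha, neg_zero]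
    simp only [orth_mul_apply, swp_apply, zz_vmv_apply]
    rw [Lv_T_apply g h]
    simp only [single_dotProduct, dotProduct_single, sub_dotProduct, dotProduct_neg,
      smul_dotProduct, dotProduct_comm y a, Pi.add_apply, Pi.sub_apply, Pi.smul_apply,
      Pi.single_eq_same, smul_eq_mul, ha, one_mul, mul_one, mul_zero, sub_zero, zero_sub]
    refine Prod.ext ?_ (Prod.ext ?_ rfl) <;> module

theorem swp_Lv {r : ℕ} (i : Fin (r + 1)) {A : SLn.SLg F r}
    (h1 : SLn.ac A (Pi.single i 1) = Pi.single i 1)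
    (h2 : (Pi.single i 1 : Fin (r + 1) → F) ᵥ* A.1 = Pi.single i 1) :
    swp g i * Lv g A = Lv g A * swp g i :=
  orth_ext g fun x y z => by
    have h1' : (Pi.single i 1 : Fin (r + 1) → F) ᵥ* (A⁻¹).1 = Pi.single i 1 := by
      conv_lhs => rw [← h2]
      rw [Matrix.vecMul_vecMul, ← Matrix.SpecialLinearGroup.coe_mul, mul_inv_cancel,
        Matrix.SpecialLinearGroup.coe_one, Matrix.vecMul_one]
    have h2' : SLn.ac A⁻¹ (Pi.single i 1) = Pi.single i 1 := by
      conv_lhs => rw [← h1]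
      rw [SLn.ac_inv_ac]
    have hx : SLn.ac A x i = x i := by
      rw [← one_mul (SLn.ac A x i), ← single_dotProduct, SLn.ac, Matrix.dotProduct_mulVec, h2,
        single_dotProduct, one_mul]
    have hy : (y ᵥ* (A⁻¹).1) i = y i := by
      rw [← mul_one ((y ᵥ* (A⁻¹).1) i), ← dotProduct_single, ← Matrix.dotProduct_mulVec]
      show y ⬝ᵥ SLn.ac A⁻¹ _ = _
      rw [h2', dotProduct_single, mul_one]
    simp only [orth_mul_apply, swp_apply, Lv_apply, hx, hy, sub_eq_add_neg, ← neg_smul, SLn.ac_add,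
      SLn.ac_smul, h1, Matrix.add_vecMul, Matrix.smul_vecMul, h1']

theorem Hm_swp (h : orthGroup g) : Hm g h * swp g i = swp g i * Hm g h :=
  orth_ext g fun x y z => by simp only [orth_mul_apply, swp_apply, Hm_apply]

end Swap

theorem swp_Lv_swp_comm {r : ℕ} {i j : Fin (r + 1)} (hij : i ≠ j) (a b : F) :
    swp g i * Lv g (T (a • Pi.single i 1) (Pi.single j 1)) * swp g i *
        Lv g (T (b • Pi.single i 1) (Pi.single j 1)) =
      Lv g (T (b • Pi.single i 1) (Pi.single j 1)) *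
        (swp g i * Lv g (T (a • Pi.single i 1) (Pi.single j 1)) * swp g i) :=
  orth_ext g fun x y z => by
    have h : ∀ c : F, (Pi.single j 1 : Fin (r + 1) → F) ⬝ᵥ (c • Pi.single i 1) = 0 := fun c => by
      rw [single_dotProduct, Pi.smul_apply, Pi.single_eq_of_ne hij.symm, smul_zero, mul_zero]
    simp only [orth_mul_apply]
    rw [Lv_T_apply g (h b), swp_apply, swp_apply, Lv_T_apply g (h a), Lv_T_apply g (h a), swp_apply,
      swp_apply, Lv_T_apply g (h b)]
    refine Prod.ext ?_ (Prod.ext ?_ rfl) <;>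
    · funext k
      by_cases hki : k = i
      · subst hki
        simp [hij, hij.symm]
        try ring
      · by_cases hkj : k = j
        · subst hkj
          simp [hij, hij.symm]
          try ring
        · simp [hki, hkj, hij, hij.symm]

theorem swp_Hm_mem [FiniteDimensional F W] (hg : (QuadraticMap.polarBilin g).Nondegenerate) {m : ℕ}
    (h4 : Good F (Sp F m W)) (i : Fin m) {u : W} (hu : g u = 1) :
    swp g i * Hm g (refl g u) ∈ Om m g := by
  have hq : bigForm m g (0, 0, u) = 1 := by rw [bigForm_apply, zero_dotProduct, zero_add, hu]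
  rw [mem_commutator_iff, Hm_refl, map_mul, swp,
    ab_refl_eq (bigForm_nondeg g hg) h4 (a := (Pi.single i 1, Pi.single i 1, (0 : W))) (b := (0, 0, u))
      (by rw [swp_quad]; simp) (by rw [hq]; simp) ⟨1, by rw [swp_quad, hq]⟩]
  exact ab_refl_sq _

section Restate

variable [Fintype F] [DecidableEq F] [Fintype W] {s : ℕ}

/-- The squared torus in the commutator subgroup. -/
noncomputable def tD (d : Fin (s + 2 + 1) → Fˣ) : Om (s + 2 + 1) g := ⟨dgo g (d * d), dgo_sq_mem g d⟩

theorem tD_nD (d : Fin (s + 2 + 1) → Fˣ) (u : Fin (s + 2 + 1) → F) (w : W) :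
    tD g d * nD g u w = nD g (dv (d * d) u) w * tD g d := by
  unfold nD
  exact Subtype.ext (dgo_nu g (d * d) u w)

theorem tD_zD (d : Fin (s + 2 + 1) → Fˣ) (S : Matrix (Fin (s + 2 + 1)) (Fin (s + 2 + 1)) F) :
    tD g d * zD g S = zD g (dsE (d * d) S) * tD g d := by
  unfold zD
  exact Subtype.ext (dgo_zz g (d * d) S)

theorem tD_lD (d : Fin (s + 2 + 1) → Fˣ) {v φ : Fin (s + 2 + 1) → F} (h : φ ⬝ᵥ v = 0) :
    tD g d * lD g (T v φ) = lD g (T (dv (d * d) v) (dv (d * d)⁻¹ φ)) * tD g d := by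
  unfold lD
  exact Subtype.ext (dgo_Lv_T g (d * d) h)

variable {u₀ : W} (hs : swp g (2 : Fin (s + 2 + 1)) * Hm g (refl g u₀) ∈ Om (s + 2 + 1) g)

theorem pD_nD {u : Fin (s + 2 + 1) → F} (hu : u 2 = 0) (w : W) :
    (⟨_, hs⟩ : Om (s + 2 + 1) g) * nD g u w = nD g u ((refl g u₀).1 w) * ⟨_, hs⟩ := by
  unfold nD
  exact Subtype.ext (by
    show swp g 2 * Hm g (refl g u₀) * nu g u w = nu g u _ * (swp g 2 * Hm g (refl g u₀))
    rw [mul_assoc, Hm_nu, ← mul_assoc, swp_nu g 2 hu, mul_assoc])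

theorem pD_zD {a b : Fin (s + 2 + 1) → F} (ha : a 2 = 0) (hb : b 2 = 0) :
    (⟨_, hs⟩ : Om (s + 2 + 1) g) * zD g (vecMulVec a b) = zD g (vecMulVec a b) * ⟨_, hs⟩ := by
  unfold zD
  exact Subtype.ext (by
    show swp g 2 * Hm g (refl g u₀) * zz g _ = zz g _ * (swp g 2 * Hm g (refl g u₀))
    rw [mul_assoc, Hm_zz, ← mul_assoc, swp_zz g 2 ha hb, mul_assoc])

theorem pD_zD_single {a : Fin (s + 2 + 1) → F} (ha : a 2 = 0) :
    (⟨_, hs⟩ : Om (s + 2 + 1) g) * zD g (vecMulVec a (eq' F s)) =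
      lD g (T (-a) (eq' F s)) * ⟨_, hs⟩ := by
  unfold zD lD
  exact Subtype.ext (by
    show swp g 2 * Hm g (refl g u₀) * zz g _ = Lv g _ * (swp g 2 * Hm g (refl g u₀))
    rw [mul_assoc, Hm_zz, ← mul_assoc, swp_zz_single g 2 ha, mul_assoc])

theorem pD_lD {A : SLn.SLg F (s + 2)} (h1 : SLn.ac A (eq' F s) = eq' F s)
    (h2 : eq' F s ᵥ* A.1 = eq' F s) :
    (⟨_, hs⟩ : Om (s + 2 + 1) g) * lD g A = lD g A * ⟨_, hs⟩ := by
  unfold lD
  exact Subtype.ext (by
    show swp g 2 * Hm g (refl g u₀) * Lv g A = Lv g A * (swp g 2 * Hm g (refl g u₀))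
    rw [mul_assoc, Hm_Lv, ← mul_assoc, swp_Lv g 2 h1 h2, mul_assoc])

theorem pD_sq : (⟨_, hs⟩ : Om (s + 2 + 1) g) * ⟨_, hs⟩ = 1 :=
  Subtype.ext (by
    show swp g 2 * Hm g (refl g u₀) * (swp g 2 * Hm g (refl g u₀)) = 1
    rw [mul_assoc, ← mul_assoc (Hm g _), Hm_swp, mul_assoc, ← map_mul, refl_mul_self, map_one, mul_one,
      swp, refl_mul_self])

theorem pD_lower_comm (a b : F) :
    (⟨_, hs⟩ : Om (s + 2 + 1) g) * lD g (T (a • eq' F s) (ep F s)) * ⟨_, hs⟩ *
        lD g (T (b • eq' F s) (ep F s)) =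
      lD g (T (b • eq' F s) (ep F s)) *
        ((⟨_, hs⟩ : Om (s + 2 + 1) g) * lD g (T (a • eq' F s) (ep F s)) * ⟨_, hs⟩) := by
  unfold lD
  refine Subtype.ext ?_
  show swp g 2 * Hm g (refl g u₀) * Lv g _ * (swp g 2 * Hm g (refl g u₀)) * Lv g _ =
    Lv g _ * (swp g 2 * Hm g (refl g u₀) * Lv g _ * (swp g 2 * Hm g (refl g u₀)))
  have e : swp g 2 * Hm g (refl g u₀) * Lv g (T (a • eq' F s) (ep F s)) * (swp g 2 * Hm g (refl g u₀)) =
      swp g 2 * Lv g (T (a • eq' F s) (ep F s)) * swp g 2 := by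
    rw [mul_assoc (swp g 2) (Hm g _), Hm_Lv, mul_assoc, mul_assoc, ← mul_assoc (Hm g _), Hm_swp,
      mul_assoc, ← map_mul, refl_mul_self, map_one, mul_one, mul_assoc]
  rw [e]
  exact swp_Lv_swp_comm g (ne12 (s := s)).symm a b

end Restate

end CfsgLib.MinDeg.OrthSiegel
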